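import Mathlib

/-!
The map `c ↦ c² + c` on a finite field of characteristic two has an image of index two.
-/

set_option autoImplicit false

namespace H2.Cover

variable {F : Type*} [Field F]

/-- The additive map `c ↦ c² + c` in characteristic two. -/
def asMap (h2 : (2 : F) = 0) : F →+ F where
  toFun c := c ^ 2 + c
  map_zero' := by simp
  map_add' a b := by linear_combination a * b * h2

theorem asMap_apply (h2 : (2 : F) = 0) (c : F) : asMap h2 c = c ^ 2 + c := rfl

theorem asMap_ker (h2 : (2 : F) = 0) (c : F) : c ∈ (asMap h2).ker ↔ c = 0 ∨ c = 1 := by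
  rw [AddMonoidHom.mem_ker, asMap_apply]
  constructor
  · intro h
    have : c * (c - 1) = 0 := by linear_combination h - c * h2
    rcases mul_eq_zero.1 this with h | h
    · exact Or.inl h
    · exact Or.inr (sub_eq_zero.1 h)
  · rintro (rfl | rfl)
    · simp
    · linear_combination h2

theorem exists_not_as (h2 : (2 : F) = 0) [Finite F] : ∃ d : F, ∀ c : F, c ^ 2 + c ≠ d := by
  by_contra h
  push Not at h
  have hs : Function.Surjective (asMap h2) := h
  have hi := Finite.injective_iff_surjective.2 hs
  have := @hi 0 1 (by simp [asMap_apply]; linear_combination -h2)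
  exact zero_ne_one this

theorem asMap_index (h2 : (2 : F) = 0) [Finite F] : (asMap h2).range.index = 2 := by
  have hk : Nat.card (asMap h2).ker = 2 := by
    have e : ((asMap h2).ker : Set F) = {0, 1} := by
      ext c; simpa using asMap_ker h2 c
    rw [← SetLike.coe_sort_coe, e, Nat.card_coe_set_eq, Set.ncard_pair zero_ne_one]
  have h1 := (asMap h2).ker.card_mul_index
  rw [AddSubgroup.index_ker, hk] at h1
  have h3 := (asMap h2).range.card_mul_index
  have hpos : 0 < Nat.card (asMap h2).range := Nat.card_pos
  rw [← h1, mul_comm 2] at h3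
  exact Nat.eq_of_mul_eq_mul_left hpos h3

/-- Two classes modulo `{c² + c}`. -/
theorem as_dichotomy (h2 : (2 : F) = 0) [Finite F] {d : F} (hd : ∀ c : F, c ^ 2 + c ≠ d) (x : F) :
    (∃ c : F, c ^ 2 + c = x) ∨ (∃ c : F, c ^ 2 + c = x + d) := by
  by_cases hx : x ∈ (asMap h2).range
  · exact Or.inl hx
  · refine Or.inr ?_
    have hd' : d ∉ (asMap h2).range := fun ⟨c, hc⟩ => hd c hc
    exact (AddSubgroup.add_mem_iff_of_index_two (asMap_index h2)).2 (iff_of_false hx hd')

end H2.Cover
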