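import Mathlib

/-!
The statement that a group is the union of the conjugates of two proper subgroups.
-/

set_option autoImplicit false

namespace H2.Cover

/-- Every element is conjugate into one of two proper subgroups. -/
def TwoCover (G : Type*) [Group G] : Prop :=
  ∃ H K : Subgroup G, H ≠ ⊤ ∧ K ≠ ⊤ ∧ ∀ g : G, ∃ x : G, x * g * x⁻¹ ∈ H ∨ x * g * x⁻¹ ∈ K

theorem TwoCover.intro {G : Type*} [Group G] {H K : Subgroup G} (hH : H ≠ ⊤) (hK : K ≠ ⊤)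
    (h : ∀ g : G, (∃ x : G, x * g * x⁻¹ ∈ H) ∨ ∃ x : G, x * g * x⁻¹ ∈ K) : TwoCover G :=
  ⟨H, K, hH, hK, fun g => (h g).elim (fun ⟨x, hx⟩ => ⟨x, Or.inl hx⟩) fun ⟨x, hx⟩ => ⟨x, Or.inr hx⟩⟩

/-- A cover of a group passes to a quotient by a normal subgroup inside both members. -/
theorem TwoCover.quotient {G : Type*} [Group G] (N : Subgroup G) [N.Normal] (H K : Subgroup G)
    (hH : H ≠ ⊤) (hK : K ≠ ⊤) (hNH : N ≤ H) (hNK : N ≤ K)
    (h : ∀ g : G, (∃ x : G, x * g * x⁻¹ ∈ H) ∨ ∃ x : G, x * g * x⁻¹ ∈ K) : TwoCover (G ⧸ N) := by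
  have key : ∀ L : Subgroup G, L ≠ ⊤ → N ≤ L → L.map (QuotientGroup.mk' N) ≠ ⊤ := by
    intro L hL hNL e
    apply hL
    have := congrArg (Subgroup.comap (QuotientGroup.mk' N)) e
    rwa [Subgroup.comap_top, Subgroup.comap_map_eq_self (by rwa [QuotientGroup.ker_mk'])] at this
  refine TwoCover.intro (key H hH hNH) (key K hK hNK) fun g => ?_
  obtain ⟨g, rfl⟩ := QuotientGroup.mk'_surjective N g
  exact (h g).imp
    (fun ⟨x, hx⟩ => ⟨QuotientGroup.mk' N x, ⟨_, hx, by simp⟩⟩)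
    (fun ⟨x, hx⟩ => ⟨QuotientGroup.mk' N x, ⟨_, hx, by simp⟩⟩)

end H2.Cover
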