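import Mathlib

/-!
The algebra generated by a matrix root of an irreducible polynomial is a field acting freely.
-/

set_option autoImplicit false

open Polynomial Matrix

namespace H2.Cover

variable {F : Type*} [Field F] {n : Type*} [Fintype n] [DecidableEq n] {h : F[X]} {J : Matrix n n F}

/-- Evaluation at a matrix root of an irreducible polynomial has the multiples of it as kernel. -/
theorem eval_mulVec_eq_zero (hh : Irreducible h) (hJ : aeval J h = 0) {p : F[X]} {v : n → F} (hv : v ≠ 0)
    (hp : aeval J p *ᵥ v = 0) : h ∣ p ∧ aeval J p = 0 := by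
  have hd : h ∣ p := by
    by_contra hnd
    obtain ⟨a, b, hab⟩ := hh.coprime_iff_not_dvd.2 hnd
    apply hv
    have e := congrArg (fun P => aeval J P *ᵥ v) hab
    simp only [map_add, map_mul, map_one, one_mulVec, hJ, mul_zero, zero_add,
      ← mulVec_mulVec, hp, mulVec_zero] at e
    exact e.symm
  obtain ⟨r, rfl⟩ := hd
  exact ⟨dvd_mul_right _ _, by rw [map_mul, hJ, zero_mul]⟩

/-- The orbit of a non-zero vector under the powers is independent. -/
theorem pow_linearIndependent (hh : Irreducible h) (hJ : aeval J h = 0) {v : n → F} (hv : v ≠ 0) {d : ℕ}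
    (hd : d ≤ h.natDegree) : LinearIndependent F (fun i : Fin d => J ^ (i : ℕ) *ᵥ v) := by
  rw [Fintype.linearIndependent_iff]
  intro c hc i
  set p : F[X] := ∑ j : Fin d, C (c j) * X ^ (j : ℕ) with hp
  have hpv : aeval J p *ᵥ v = 0 := by
    rw [hp, map_sum, sum_mulVec]
    simpa [map_mul, aeval_C, ← Algebra.smul_def, smul_mulVec] using hc
  have hlt : p.degree < h.degree := by
    rw [degree_eq_natDegree hh.ne_zero]
    exact (degree_sum_fin_lt c).trans_le (by exact_mod_cast hd)
  have hp0 := eq_zero_of_dvd_of_degree_lt (eval_mulVec_eq_zero hh hJ hv hpv).1 hlt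
  have := congrArg (fun P => P.coeff (i : ℕ)) hp0
  simpa [hp, finsetSum_coeff, coeff_C_mul, coeff_X_pow, Fin.val_inj] using this

/-- In a field of prime degree every non-scalar element generates. -/
theorem scalar_or_root (hh : Irreducible h) (hJ : aeval J h = 0) (hp : h.natDegree.Prime) [Nonempty n]
    (p : F[X]) : (∃ c : F, aeval J p = c • 1) ∨
      ∃ f : F[X], Irreducible f ∧ f.natDegree = h.natDegree ∧ aeval (aeval J p) f = 0 := by
  have : Fact (Irreducible h) := ⟨hh⟩
  have : Module.Finite F (AdjoinRoot h) := (AdjoinRoot.powerBasis hh.ne_zero).finite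
  set y := AdjoinRoot.mk h p with hy
  have hint : IsIntegral F y := IsIntegral.of_finite F y
  have hf : aeval (aeval J p) (minpoly F y) = 0 := by
    have e := minpoly.aeval F y
    nth_rewrite 1 [hy] at e
    rw [← AdjoinRoot.aeval_eq, ← aeval_comp, AdjoinRoot.aeval_eq, AdjoinRoot.mk_eq_zero] at e
    obtain ⟨r, hr⟩ := e
    rw [← aeval_comp, hr, map_mul, hJ, zero_mul]
  have hdvd := minpoly.degree_dvd (K := F) hint
  rw [(AdjoinRoot.powerBasis hh.ne_zero).finrank, AdjoinRoot.powerBasis_dim] at hdvd
  rcases hp.eq_one_or_self_of_dvd _ hdvd with h1 | h1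
  · left
    obtain ⟨c, hc⟩ := minpoly.natDegree_eq_one_iff.1 h1
    have : h ∣ p - C c := by
      rw [← AdjoinRoot.mk_eq_zero, map_sub, ← hy, ← hc, AdjoinRoot.algebraMap_eq, AdjoinRoot.mk_C, sub_self]
    obtain ⟨r, hr⟩ := this
    refine ⟨c, ?_⟩
    rw [show p = C c + h * r by rw [← hr]; ring, map_add, map_mul, hJ, zero_mul, add_zero, aeval_C,
      Algebra.algebraMap_eq_smul_one]
  · exact Or.inr ⟨_, minpoly.irreducible hint, h1, hf⟩

/-- The stabiliser condition follows from one generator. -/
theorem conj_mem_adjoin {x x' : Matrix n n F} (h1 : x' * x = 1) (hxJ : x * J * x' ∈ Algebra.adjoin F {J})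
    {y : Matrix n n F} (hy : y ∈ Algebra.adjoin F ({J} : Set (Matrix n n F))) :
    x * y * x' ∈ Algebra.adjoin F {J} := by
  have h2 : x * x' = 1 := mul_eq_one_comm.1 h1
  induction hy using Algebra.adjoin_induction with
  | mem z hz => obtain rfl := hz; exact hxJ
  | algebraMap r =>
    rw [← Algebra.commutes, Matrix.mul_assoc, h2, Matrix.mul_one]
    exact Subalgebra.algebraMap_mem _ r
  | add a b _ _ ha hb => rw [Matrix.mul_add, Matrix.add_mul]; exact add_mem ha hb
  | mul a b _ _ ha hb =>
    have e : x * (a * b) * x' = (x * a * x') * (x * b * x') := by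
      calc _ = x * a * (x' * x) * b * x' := by rw [h1, Matrix.mul_one]; simp only [Matrix.mul_assoc]
        _ = _ := by simp only [Matrix.mul_assoc]
    rw [e]
    exact mul_mem ha hb

/-- Conjugation onto the algebra is reversible. -/
theorem conj_mem_adjoin_iff [Finite F] {x x' : Matrix n n F} (h1 : x' * x = 1)
    (hxJ : x * J * x' ∈ Algebra.adjoin F {J}) (y : Matrix n n F) :
    x * y * x' ∈ Algebra.adjoin F {J} ↔ y ∈ Algebra.adjoin F ({J} : Set (Matrix n n F)) := by
  refine ⟨fun hy => ?_, conj_mem_adjoin h1 hxJ⟩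
  set E := Algebra.adjoin F ({J} : Set (Matrix n n F))
  let f : E → E := fun z => ⟨x * z.1 * x', conj_mem_adjoin h1 hxJ z.2⟩
  have hcancel : ∀ z, x' * (x * z * x') * x = z := fun z => by
    calc _ = (x' * x) * z * (x' * x) := by simp only [Matrix.mul_assoc]
      _ = z := by rw [h1, Matrix.one_mul, Matrix.mul_one]
  have hinj : Function.Injective f := fun a b e => Subtype.ext (by
    rw [← hcancel a.1, ← hcancel b.1]
    exact congrArg (fun z : E => x' * z.1 * x) e)
  obtain ⟨z, hz⟩ := Finite.injective_iff_surjective.1 hinj ⟨_, hy⟩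
  rw [← hcancel y, ← show x * z.1 * x' = x * y * x' from congrArg Subtype.val hz, hcancel]
  exact z.2

/-- Frobenius of the base field permutes the roots. -/
theorem frobenius_root [Fintype F] (hJ : aeval J h = 0) : aeval (J ^ Fintype.card F) h = 0 := by
  have e := congrArg (aeval J) (FiniteField.expand_card h)
  rwa [expand_aeval, map_pow, hJ, zero_pow Fintype.card_ne_zero] at e

/-- The Frobenius returns after the degree. -/
theorem frobenius_period [Fintype F] (hh : Irreducible h) (hJ : aeval J h = 0) :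
    J ^ (Fintype.card F) ^ h.natDegree = J := by
  obtain ⟨r, hr⟩ := hh.natDegree_dvd_iff_dvd_X_pow_card_pow_sub_X.1 (dvd_refl _)
  have e := congrArg (aeval J) hr
  rwa [map_mul, hJ, zero_mul, map_sub, map_pow, aeval_X, sub_eq_zero, Nat.card_eq_fintype_card] at e

/-- The Frobenius moves the root. -/
theorem frobenius_ne [Fintype F] [Nonempty n] (hh : Irreducible h) (hJ : aeval J h = 0)
    (hd : 1 < h.natDegree) : J ^ Fintype.card F ≠ J := by
  intro e
  obtain ⟨i⟩ := ‹Nonempty n›
  have hv : (Pi.single i 1 : n → F) ≠ 0 := by simp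
  have h1 : h ∣ X ^ (Nat.card F) ^ 1 - X :=
    (eval_mulVec_eq_zero hh hJ hv (by
      rw [map_sub, map_pow, aeval_X, pow_one, Nat.card_eq_fintype_card, e, sub_self, zero_mulVec])).1
  have := hh.natDegree_dvd_of_dvd_X_pow_card_pow_sub_X h1
  have := Nat.le_of_dvd one_pos this
  omega

end H2.Cover
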