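import Cfsg.Agent.H56.G2Idem
import Cfsg.Agent.H2.Cover.ArtinSchreier
import Cfsg.Agent.H2.Cover.Common

/-!
`G₂` over a finite field of characteristic two with at least four elements is covered by the conjugates of the
stabilisers of two unordered pairs `{x, x + 1}`.
-/

set_option autoImplicit false
set_option linter.unusedSimpArgs false

namespace H2.Cover.G2C

open Cfsg.Lie H53.MatRep Matrix H18 H56G2 H55.G2

variable {F : Type*} [Field F]

theorem otr_add (v w : Fin 8 → F) : otr (v + w) = otr v + otr w := by simp [otr]; ring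

theorem otr_smul (t : F) (v : Fin 8 → F) : otr (t • v) = t * otr v := by simp [otr]; ring

theorem otr_one : otr (octOne F) = 2 := by simp [otr, octOne, zVec]; norm_num

theorem onm_one : onm (octOne F) = 1 := by simp [onm, octOne, zVec, dot3]

theorem onm_add_one (v : Fin 8 → F) (c : F) : onm (v + c • octOne F) = onm v + c * c + c * otr v := by
  rw [onm_add, onm_smul, onm_one, opol_comm, opol_smul_left, opol_one, mul_one]

theorem add_self_eq (h2 : (2 : F) = 0) (v : Fin 8 → F) : v + v = 0 := by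
  rw [← two_smul F v, h2, zero_smul]

/-- Every functional is a polar. -/
theorem exists_polar (f : (Fin 8 → F) →ₗ[F] F) : ∃ y, ∀ w, opol y w = f w := by
  refine ⟨zVec (f (Pi.single 7 1)) ![-f (Pi.single 4 1), -f (Pi.single 5 1), -f (Pi.single 6 1)]
    ![-f (Pi.single 1 1), -f (Pi.single 2 1), -f (Pi.single 3 1)] (f (Pi.single 0 1)), fun w => ?_⟩
  have e : w = w 0 • Pi.single 0 1 + w 1 • Pi.single 1 1 + w 2 • Pi.single 2 1 + w 3 • Pi.single 3 1 +
      w 4 • Pi.single 4 1 + w 5 • Pi.single 5 1 + w 6 • Pi.single 6 1 + w 7 • (Pi.single 7 1 : Fin 8 → F) := by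
    funext i; fin_cases i <;> simp [Pi.single_apply]
  conv_rhs => rw [e]
  simp only [map_add, map_smul, smul_eq_mul]
  simp [opol, zVec, dot3]
  ring

/-- Every automorphism fixes some pair `{x, x + 1}` with `x` of trace one. -/
theorem exists_pair (h2 : (2 : F) = 0) (g : Cfsg.Lie.G2 F) :
    ∃ x, otr x = 1 ∧ (g2App g x = x ∨ g2App g x = x + octOne F) := by
  set L : (Fin 8 → F) →ₗ[F] (Fin 8 → F) := g2Lin g + LinearMap.id with hL
  by_cases h1 : octOne F ∈ LinearMap.range L
  · obtain ⟨x, hx⟩ := h1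
    have hgx : g2App g x = x + octOne F := by
      rw [← hx]
      show g2App g x = x + (g2App g x + x)
      rw [add_left_comm, add_self_eq h2, add_zero]
    refine ⟨x, ?_, Or.inr hgx⟩
    have hn := (otr_onm_map g x).2
    rw [hgx, ← one_smul F (octOne F), onm_add_one] at hn
    linear_combination hn - h2
  · obtain ⟨f, hf1, hf⟩ := Submodule.exists_dual_map_eq_bot_of_notMem h1 inferInstance
    obtain ⟨y, hy⟩ := exists_polar f
    have hy0 : ∀ w, opol y (g2App g w + w) = 0 := fun w => by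
      rw [hy]
      have : f (L w) ∈ Submodule.map f (LinearMap.range L) := ⟨L w, LinearMap.mem_range_self L w, rfl⟩
      rw [hf, Submodule.mem_bot] at this
      exact this
    have hgy : g2App g y = y := by
      refine sub_eq_zero.1 (eq_zero_of_opol fun w => ?_)
      obtain ⟨u, rfl⟩ : ∃ u, g2App g u = w := ⟨g2App g⁻¹ w, by rw [← g2App_mul, mul_inv_cancel, g2App_one]⟩
      have e := hy0 u
      rw [opol_comm, opol_add_left, opol_comm _ y, opol_comm _ y] at e
      rw [sub_eq_add_neg, ← neg_one_smul F y, opol_add_left, opol_smul_left, opol_map]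
      linear_combination e - opol y (g2App g u) * h2
    have hty : otr y ≠ 0 := by
      rw [← opol_one, opol_comm, hy]
      exact hf1
    refine ⟨(otr y)⁻¹ • y, by rw [otr_smul, inv_mul_cancel₀ hty], Or.inl ?_⟩
    rw [g2App_smul, hgy]

/-- The stabiliser of the pair `{x, x + 1}`. -/
noncomputable def pairStab (h2 : (2 : F) = 0) (x : Fin 8 → F) : Subgroup (Cfsg.Lie.G2 F) where
  carrier := {g | g2App g x = x ∨ g2App g x = x + octOne F}
  one_mem' := Or.inl (g2App_one x)
  mul_mem' := by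
    intro a b ha hb
    simp only [Set.mem_ofPred_eq] at *
    rw [g2App_mul]
    rcases hb with hb | hb <;> rw [hb]
    · exact ha
    · rw [g2App_add, g2App_octOne]
      rcases ha with ha | ha <;> rw [ha]
      · exact Or.inr rfl
      · left; rw [add_assoc, add_self_eq h2, add_zero]
  inv_mem' := by
    intro a ha
    simp only [Set.mem_ofPred_eq] at *
    rcases ha with ha | ha <;> have e := congrArg (g2App a⁻¹) ha
    · rw [g2App_inv] at e; exact Or.inl e.symm
    · rw [g2App_inv, g2App_add, g2App_octOne] at e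
      right
      nth_rewrite 2 [e]
      rw [add_assoc, add_self_eq h2, add_zero]

theorem mem_pairStab (h2 : (2 : F) = 0) (x : Fin 8 → F) (g : Cfsg.Lie.G2 F) :
    g ∈ pairStab h2 x ↔ g2App g x = x ∨ g2App g x = x + octOne F := Iff.rfl

theorem conj_mem_pairStab (h2 : (2 : F) = 0) {x y : Fin 8 → F} {g k : Cfsg.Lie.G2 F}
    (hg : g2App g y = y ∨ g2App g y = y + octOne F) (hk : g2App k y = x) :
    k * g * k⁻¹ ∈ pairStab h2 x := by
  have hk' : g2App k⁻¹ x = y := by rw [← hk, g2App_inv]
  rw [mem_pairStab, g2App_mul, g2App_mul, hk']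
  rcases hg with hg | hg <;> rw [hg]
  · exact Or.inl hk
  · rw [g2App_add, g2App_octOne, hk]; exact Or.inr rfl

/-- Reaching a fixed vector. -/
def To (x v : Fin 8 → F) : Prop := ∃ g : Cfsg.Lie.G2 F, g2App g v = x

theorem To.of_map {x v : Fin 8 → F} (g : Cfsg.Lie.G2 F) (h : To x (g2App g v)) : To x v := by
  obtain ⟨k, hk⟩ := h
  exact ⟨k * g, by rw [g2App_mul, hk]⟩

theorem To.of_sl3 {x : Fin 8 → F} {α β : F} {a b : Fin 3 → F} (A : SpecialLinearGroup (Fin 3) F)
    (h : To x (zVec α (A.1 *ᵥ a) (cof3 A.1 *ᵥ b) β)) : To x (zVec α a b β) :=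
  To.of_map (sl3Hom A) (by rwa [g2App_sl3Hom_zVec])

theorem To.of_nine {x : Fin 8 → F} {α β : F} {a b : Fin 3 → F} (t : F)
    (h : To x (zVec (α + t * a 2) ![a 0 + t * b 1, a 1 - t * b 0, a 2]
      ![b 0, b 1, b 2 + t * (β - α) - t ^ 2 * a 2] (β - t * a 2))) : To x (zVec α a b β) :=
  To.of_map (stG2 (chevG2.stGen F 9 t)) (by
    rw [show g2App (stG2 (chevG2.stGen F 9 t)) (zVec α a b β) = _ from
      g2App_stGen (9 : Fin 12) t _, mat_mulVec]
    convert h using 1
    funext k
    fin_cases k <;> simp [dataG, tabG, zVec, Pi.single_apply] <;> ring)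

theorem To.of_two {x : Fin 8 → F} {α β : F} {a b : Fin 3 → F} (t : F)
    (h : To x (zVec (α - t * b 2) ![a 0, a 1, a 2 + t * (α - β) - t ^ 2 * b 2]
      ![b 0 - t * a 1, b 1 + t * a 0, b 2] (β + t * b 2))) : To x (zVec α a b β) :=
  To.of_map (stG2 (chevG2.stGen F 2 t)) (by
    rw [show g2App (stG2 (chevG2.stGen F 2 t)) (zVec α a b β) = _ from
      g2App_stGen (2 : Fin 12) t _, mat_mulVec]
    convert h using 1
    funext k
    fin_cases k <;> simp [dataG, tabG, zVec, Pi.single_apply] <;> ring)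

/-- The standard element of trace one and norm `d`. -/
def stdPt (d : F) : Fin 8 → F := zVec 0 (Pi.single 2 1) (Pi.single 2 d) 1

theorem otr_stdPt (d : F) : otr (stdPt d) = 1 := by simp [stdPt, otr, zVec]

theorem onm_stdPt (d : F) : onm (stdPt d) = -d := by simp [stdPt, onm, zVec, dot3]

theorem to_stdPt_norm {d : F} (hd : d ≠ 0) {b : Fin 3 → F} (hb : b 2 = d) :
    To (stdPt d) (zVec 0 (Pi.single 2 1) b 1) := by
  let A : SpecialLinearGroup (Fin 3) F :=
    ⟨!![1, 0, 0; 0, 1, 0; b 0 / d, b 1 / d, 1], by simp [det_fin_three]⟩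
  refine To.of_sl3 A ⟨1, ?_⟩
  rw [g2App_one, stdPt]
  congr 1
  · funext i; fin_cases i <;> simp [A]
  · funext i
    fin_cases i <;> simp [A, cof3, adjugate3_apply, Matrix.mulVec, dotProduct, Fin.sum_univ_three, hb] <;>
      field_simp <;> ring

theorem to_stdPt_left {d : F} (hd : d ≠ 0) {α β : F} {a b : Fin 3 → F} (hs : α + β = 1)
    (hn : α * β - dot3 a b = -d) (ha : a ≠ 0) : To (stdPt d) (zVec α a b β) := by
  obtain ⟨A, hA⟩ := exists_sl_to_last ha
  refine To.of_sl3 A ?_
  have hn' : α * β - dot3 (A.1 *ᵥ a) (cof3 A.1 *ᵥ b) = -d := by rw [dot3_mulVec, A.2, one_mul, hn]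
  rw [hA] at hn' ⊢
  set c := cof3 A.1 *ᵥ b
  simp [dot3] at hn'
  refine To.of_nine (-α) ?_
  have e0 : α + -α * (Pi.single 2 1 : Fin 3 → F) 2 = 0 := by simp
  have e1 : β - -α * (Pi.single 2 1 : Fin 3 → F) 2 = 1 := by simp; linear_combination hs
  rw [e0, e1]
  set a' : Fin 3 → F := ![(Pi.single 2 1 : Fin 3 → F) 0 + -α * c 1,
    (Pi.single 2 1 : Fin 3 → F) 1 - -α * c 0, (Pi.single 2 1 : Fin 3 → F) 2] with ha'
  set b' : Fin 3 → F := ![c 0, c 1, c 2 + -α * (β - α) - (-α) ^ 2 * (Pi.single 2 1 : Fin 3 → F) 2] with hb'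
  have hdot : dot3 a' b' = d := by
    simp [ha', hb', dot3]
    linear_combination -hn'
  have hne : a' ≠ 0 := fun e => by simpa [ha'] using congrFun e 2
  obtain ⟨B, hB⟩ := exists_sl_to_last hne
  refine To.of_sl3 B ?_
  have hd' : dot3 (B.1 *ᵥ a') (cof3 B.1 *ᵥ b') = d := by rw [dot3_mulVec, B.2, one_mul, hdot]
  rw [hB] at hd' ⊢
  exact to_stdPt_norm hd (by simpa [dot3] using hd')

theorem to_stdPt (h2 : (2 : F) = 0) {d : F} (hd : ∀ c : F, c ^ 2 + c ≠ d) (hq : ∃ t : F, t ≠ 0 ∧ t ≠ 1)
    {v : Fin 8 → F} (ht : otr v = 1) (hn : onm v = d) : To (stdPt d) v := by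
  have hd0 : d ≠ 0 := fun e => hd 0 (by simp [e])
  rw [← zVec_eta v]
  have hs : v 0 + v 7 = 1 := ht
  have hn' : v 0 * v 7 - dot3 (zA F v) (zB F v) = -d := by
    have : onm v = v 0 * v 7 - dot3 (zA F v) (zB F v) := rfl
    linear_combination hn - this + d * h2
  by_cases ha : zA F v = 0
  · have hb : zB F v ≠ 0 := by
      intro hb
      rw [ha, hb] at hn'
      simp [dot3] at hn'
      exact hd (v 0) (by linear_combination hn' - v 0 * hs + (v 0 ^ 2 - v 0 * v 7 - d) * h2 + v 0 * v 7 * h2)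
    obtain ⟨A, hA⟩ := exists_cof_to_last hb
    refine To.of_sl3 A ?_
    have hn'' : v 0 * v 7 - dot3 (A.1 *ᵥ zA F v) (cof3 A.1 *ᵥ zB F v) = -d := by
      rw [dot3_mulVec, A.2, one_mul, hn']
    rw [hA, ha, Matrix.mulVec_zero] at hn'' ⊢
    simp [dot3] at hn''
    obtain ⟨t, t0, t1⟩ := hq
    refine To.of_two t ?_
    refine to_stdPt_left hd0 ?_ ?_ ?_
    · simp; linear_combination hs
    · simp [dot3]; linear_combination hn''
    · intro e
      have e2 := congrFun e 2
      simp at e2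
      have : t * (t - 1) = 0 := by linear_combination -e2 + t * hs - t * v 7 * h2 - t * h2 + t * h2
      rcases mul_eq_zero.1 this with h | h
      · exact t0 h
      · exact t1 (sub_eq_zero.1 h)
  · exact to_stdPt_left hd0 hs hn' ha

theorem twoCover [Finite F] (h2 : (2 : F) = 0) (hq : ∃ t : F, t ≠ 0 ∧ t ≠ 1) :
    TwoCover (Cfsg.Lie.G2 F) := by
  obtain ⟨d, hd⟩ := exists_not_as h2
  set e : Fin 8 → F := zVec 1 0 0 0 with he
  set x0 := stdPt d with hx0
  have hd0 : d ≠ 0 := fun e => hd 0 (by simp [e])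
  have hH : pairStab h2 e ≠ ⊤ := by
    intro htop
    have hv : IsIdem (zVec (1 : F) (Pi.single 2 1) 0 0) := by
      refine ⟨?_, fun h => ?_, fun h => ?_⟩
      · rw [zornMul_zVec]; simp [dot3, cross3_zero, zero_cross3]; congr 1; funext i; fin_cases i <;> simp [cross3]
      · simpa [zVec] using congrFun h 0
      · simpa [zVec, octOne] using congrFun h 7
    obtain ⟨g, hg⟩ := exists_conj_idem hv
    rcases (mem_pairStab h2 e g).1 (htop ▸ Subgroup.mem_top g) with h | h <;>
    · rw [he, hg] at h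
      have := congrFun h 3
      simp [zVec, octOne] at this
  have hK : pairStab h2 x0 ≠ ⊤ := by
    intro htop
    obtain ⟨g, hg⟩ := to_stdPt h2 hd hq (v := zVec 0 (Pi.single 0 1) (Pi.single 0 d) 1)
      (by simp [otr, zVec]) (by simp [onm, zVec, dot3]; linear_combination -d * h2)
    rcases (mem_pairStab h2 x0 g⁻¹).1 (htop ▸ Subgroup.mem_top g⁻¹) with h | h <;>
    · rw [hx0, ← hg, g2App_inv] at h
      have := congrFun h 1
      rw [hg] at this
      simp [stdPt, zVec, octOne] at this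
  refine TwoCover.intro hH hK fun g => ?_
  obtain ⟨x, hx, hgx⟩ := exists_pair h2 g
  have hgc : ∀ c : F, g2App g (x + c • octOne F) = x + c • octOne F ∨
      g2App g (x + c • octOne F) = x + c • octOne F + octOne F := fun c => by
    rw [g2App_add, g2App_smul, g2App_octOne]
    rcases hgx with h | h <;> rw [h]
    · exact Or.inl rfl
    · exact Or.inr (add_right_comm _ _ _)
  have htc : ∀ c : F, otr (x + c • octOne F) = 1 := fun c => by
    rw [otr_add, otr_smul, otr_one, hx]; linear_combination c * h2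
  rcases as_dichotomy h2 hd (onm x) with ⟨c, hc⟩ | ⟨c, hc⟩
  · left
    set y := x + c • octOne F with hy
    have hn : onm y = 0 := by
      rw [onm_add_one, hx]; linear_combination hc + onm x * h2
    have hid : IsIdem y := by
      refine ⟨?_, fun h => ?_, fun h => ?_⟩
      · rw [mul_self_eq, htc, hn, one_smul, zero_smul, sub_zero]
      · have := htc c; rw [← hy, h] at this; simp [otr] at this
      · have := htc c; rw [← hy, h, otr_one, h2] at this; exact zero_ne_one this
    obtain ⟨k, hk⟩ := exists_conj_idem hid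
    exact ⟨k⁻¹, conj_mem_pairStab h2 (hgc c) (by rw [← hy, ← hk, g2App_inv])⟩
  · right
    obtain ⟨k, hk⟩ := to_stdPt h2 hd hq (htc c)
      (by rw [onm_add_one, hx]; linear_combination hc + onm x * h2)
    exact ⟨k, conj_mem_pairStab h2 (hgc c) hk⟩

end H2.Cover.G2C
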