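import Mathlib

/-!
Matrices satisfying one irreducible polynomial are conjugate by a matrix of any prescribed non-zero determinant.
-/

set_option autoImplicit false

open Polynomial Matrix

namespace H2.Cover

variable {F : Type*} [Field F] {n : Type*} [Fintype n] [DecidableEq n]

/-- A matrix root of an irreducible polynomial is multiplication by the root on a power of the extension field. -/
theorem exists_model {h : F[X]} [Fact (Irreducible h)] (J : Matrix n n F) (hJ : aeval J h = 0) :
    ∃ r : ℕ, h.natDegree * r = Fintype.card n ∧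
      ∃ e : (Fin r → AdjoinRoot h) ≃ₗ[F] (n → F), ∀ w, e (AdjoinRoot.root h • w) = J *ᵥ e w := by
  have hh : Irreducible h := Fact.out
  have : Module.Finite F (AdjoinRoot h) := (AdjoinRoot.powerBasis hh.ne_zero).finite
  have hT : aeval (Matrix.toLinAlgEquiv' J) h = 0 := by rw [aeval_algHom_apply, hJ, map_zero]
  let ψ : F[X] →ₐ[F] Module.End F (n → F) := aeval (Matrix.toLinAlgEquiv' J)
  let φ : AdjoinRoot h →+* Module.End F (n → F) := Ideal.Quotient.lift _ ψ.toRingHom fun p hp => by
    obtain ⟨q, rfl⟩ := Ideal.mem_span_singleton.1 hp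
    show ψ (h * q) = 0
    rw [map_mul, show ψ h = 0 from hT, zero_mul]
  let : Module (AdjoinRoot h) (n → F) := Module.compHom (n → F) φ
  have hφ : ∀ (p : F[X]) (v : n → F), AdjoinRoot.mk h p • v = ψ p v := fun p v => rfl
  have : IsScalarTower F (AdjoinRoot h) (n → F) := IsScalarTower.of_algebraMap_smul fun c v => by
    rw [AdjoinRoot.algebraMap_eq, show AdjoinRoot.of h c = AdjoinRoot.mk h (C c) from rfl, hφ]
    simp [ψ]
  have : Module.Finite (AdjoinRoot h) (n → F) := Module.Finite.of_restrictScalars_finite F _ _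
  let b := Module.finBasis (AdjoinRoot h) (n → F)
  refine ⟨Module.finrank (AdjoinRoot h) (n → F), ?_, b.equivFun.symm.restrictScalars F, fun w => ?_⟩
  · have e := Module.finrank_mul_finrank F (AdjoinRoot h) (n → F)
    rwa [(AdjoinRoot.powerBasis hh.ne_zero).finrank, AdjoinRoot.powerBasis_dim, Module.finrank_fintype_fun_eq_card] at e
  · rw [LinearEquiv.restrictScalars_apply, LinearEquiv.restrictScalars_apply, map_smul]
    rw [show AdjoinRoot.root h = AdjoinRoot.mk h X from rfl, hφ]
    simp [ψ, Matrix.mulVec_sum]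

variable [Finite F]

/-- Two matrix roots of an irreducible polynomial are conjugate with any prescribed non-zero determinant. -/
theorem exists_conj_det [Nonempty n] {h : F[X]} (hh : Irreducible h) {J J' : Matrix n n F}
    (hJ : aeval J h = 0) (hJ' : aeval J' h = 0) (δ : F) :
    ∃ x : Matrix n n F, x.det = δ ∧ x * J = J' * x := by
  classical
  have : Fact (Irreducible h) := ⟨hh⟩
  have : Module.Finite F (AdjoinRoot h) := (AdjoinRoot.powerBasis hh.ne_zero).finite
  have : Finite (AdjoinRoot h) := Module.finite_of_finite F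
  obtain ⟨r, hr, e, he⟩ := exists_model J hJ
  obtain ⟨r', hr', e', he'⟩ := exists_model J' hJ'
  obtain rfl : r = r' := Nat.eq_of_mul_eq_mul_left hh.natDegree_pos (hr.trans hr'.symm)
  have hr0 : r ≠ 0 := fun e0 => (Fintype.card_pos (α := n)).ne (by rw [← hr, e0, mul_zero])
  set a := LinearMap.det (e.symm.trans e').toLinearMap with ha
  have ha0 : a ≠ 0 := (LinearEquiv.isUnit_det' _).ne_zero
  obtain ⟨k, hk⟩ := FiniteField.norm_surjective F (AdjoinRoot h) (δ / a)
  let A : (Fin r → AdjoinRoot h) →ₗ[AdjoinRoot h] (Fin r → AdjoinRoot h) :=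
    Matrix.toLin' (diagonal (Function.update (fun _ => (1 : AdjoinRoot h)) ⟨0, Nat.pos_of_ne_zero hr0⟩ k))
  have hA : LinearMap.det (A.restrictScalars F) = δ / a := by
    rw [LinearMap.det_restrictScalars, LinearMap.det_toLin', det_diagonal,
      Finset.prod_update_of_mem (Finset.mem_univ _)]
    simpa using hk
  let T : (n → F) →ₗ[F] (n → F) :=
    (e'.toLinearMap ∘ₗ A.restrictScalars F ∘ₗ e'.symm.toLinearMap) ∘ₗ (e.symm.trans e').toLinearMap
  refine ⟨LinearMap.toMatrix' T, ?_, Matrix.ext_iff_mulVec.2 fun v => ?_⟩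
  · rw [LinearMap.det_toMatrix', LinearMap.det_comp, LinearMap.det_conj, hA, ← ha, div_mul_cancel₀ _ ha0]
  · rw [← mulVec_mulVec, ← mulVec_mulVec, LinearMap.toMatrix'_mulVec, LinearMap.toMatrix'_mulVec]
    obtain ⟨w, rfl⟩ := e.surjective v
    rw [← he]
    simp only [T, LinearMap.comp_apply, LinearEquiv.coe_coe, LinearEquiv.trans_apply,
      LinearEquiv.symm_apply_apply, LinearMap.coe_restrictScalars, he']
    rw [← he', LinearEquiv.symm_apply_apply, map_smul, he']

omit [Finite F] in
/-- A matrix root exists when the degree divides the size. -/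
theorem exists_matrix_root {h : F[X]} (hh : Irreducible h) (hd : h.natDegree ∣ Fintype.card n) :
    ∃ J : Matrix n n F, aeval J h = 0 := by
  have : Fact (Irreducible h) := ⟨hh⟩
  have : Module.Finite F (AdjoinRoot h) := (AdjoinRoot.powerBasis hh.ne_zero).finite
  obtain ⟨r, hr⟩ := hd
  have hf : Module.finrank F (Fin r → AdjoinRoot h) = Module.finrank F (n → F) := by
    rw [Module.finrank_pi_fintype, (AdjoinRoot.powerBasis hh.ne_zero).finrank, AdjoinRoot.powerBasis_dim,
      Module.finrank_fintype_fun_eq_card, hr]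
    simp [mul_comm]
  let e := LinearEquiv.ofFinrankEq (Fin r → AdjoinRoot h) (n → F) hf
  let Φ : AdjoinRoot h →ₐ[F] Matrix n n F :=
    (LinearMap.toMatrixAlgEquiv'.toAlgHom.comp (e.conjAlgEquiv F).toAlgHom).comp
      (Algebra.lsmul F F (Fin r → AdjoinRoot h))
  refine ⟨Φ (AdjoinRoot.root h), ?_⟩
  rw [aeval_algHom_apply, AdjoinRoot.aeval_eq, AdjoinRoot.mk_self, map_zero]

/-- A finite field has a monic irreducible polynomial of each positive degree. -/
theorem exists_irreducible_degree {d : ℕ} (hd : 0 < d) :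
    ∃ h : F[X], Irreducible h ∧ h.Monic ∧ h.natDegree = d := by
  obtain ⟨p, hp⟩ := CharP.exists F
  have : Fact p.Prime := ⟨CharP.char_is_prime F p⟩
  have : NeZero d := ⟨hd.ne'⟩
  let K := FiniteField.Extension F p d
  have hfin : Module.finrank F K = d := by
    have h1 := Module.natCard_eq_pow_finrank (K := F) (V := K)
    rw [FiniteField.natCard_extension] at h1
    exact (Nat.pow_right_injective (Finite.one_lt_card (α := F)) h1).symm
  obtain ⟨α, hα⟩ := Field.exists_primitive_element F K
  have hint : IsIntegral F α := IsIntegral.of_finite F α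
  refine ⟨minpoly F α, minpoly.irreducible hint, minpoly.monic hint, ?_⟩
  rw [(Field.primitive_element_iff_minpoly_natDegree_eq F α).1 hα, hfin]

end H2.Cover
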