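import Mathlib

/-!
An element of a finite algebra whose minimal polynomial has all irreducible factors of degree divisible by `d`
generates an algebra containing a root of any separable irreducible polynomial of degree `d`.
-/

set_option autoImplicit false

open Polynomial

namespace H2.Cover

variable {F : Type*} [Field F] [Finite F]

omit [Finite F] in
/-- A root in every residue field of a finite commutative algebra lifts. -/
theorem exists_root_of_residue {A : Type*} [CommRing A] [Algebra F A] [Finite A] (h : F[X])
    (hs : h.Separable)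
    (hres : ∀ I : Ideal A, I.IsMaximal → ∃ y : A ⧸ I, aeval y h = 0) : ∃ y : A, aeval y h = 0 := by
  classical
  have : IsArtinianRing A := inferInstance
  have : IsReduced (A ⧸ nilradical A) := (Ideal.isRadical_iff_quotient_reduced _).1 (Ideal.radical_isRadical _)
  have : IsArtinianRing (A ⧸ nilradical A) := inferInstance
  have hloc : ∀ m : MaximalSpectrum (A ⧸ nilradical A), ∃ y : (A ⧸ nilradical A) ⧸ m.asIdeal,
      aeval y h = 0 := by
    intro m
    let f : A →ₐ[F] (A ⧸ nilradical A) ⧸ m.asIdeal :=
      (Ideal.Quotient.mkₐ F m.asIdeal).comp (Ideal.Quotient.mkₐ F (nilradical A))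
    have hf : Function.Surjective f :=
      (Ideal.Quotient.mkₐ_surjective F _).comp (Ideal.Quotient.mkₐ_surjective F _)
    have := m.isMaximal
    let := Ideal.Quotient.field m.asIdeal
    have hmax : (RingHom.ker f.toRingHom).IsMaximal := RingHom.ker_isMaximal_of_surjective f.toRingHom hf
    obtain ⟨y, hy⟩ := hres _ hmax
    refine ⟨Ideal.quotientKerAlgEquivOfSurjective hf y, ?_⟩
    exact (aeval_algHom_apply (Ideal.quotientKerAlgEquivOfSurjective hf) y h).trans
      ((congrArg _ hy).trans (map_zero _))
  choose z hz using hloc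
  obtain ⟨s, hs'⟩ := (IsArtinianRing.equivPi (A ⧸ nilradical A)).surjective z
  have hs0 : aeval s h = 0 := by
    refine (IsArtinianRing.equivPi (A ⧸ nilradical A)).injective (funext fun m => ?_)
    have e := congrFun hs' m
    rw [IsArtinianRing.equivPi_apply] at e
    rw [IsArtinianRing.equivPi_apply, map_zero, Pi.zero_apply]
    show Ideal.Quotient.mkₐ F m.asIdeal (aeval s h) = 0
    rw [← aeval_algHom_apply]
    change aeval (Ideal.Quotient.mk m.asIdeal s) h = 0
    exact (congrArg (fun t => aeval t h) e).trans (hz m)
  obtain ⟨y, rfl⟩ := Ideal.Quotient.mkₐ_surjective F _ s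
  rw [aeval_algHom_apply] at hs0
  have hnil : IsNilpotent (aeval y h) := mem_nilradical.1 (Ideal.Quotient.eq_zero_iff_mem.1 hs0)
  obtain ⟨a, b, hab⟩ := hs
  have e := congrArg (aeval y) hab
  rw [map_add, map_mul, map_mul, map_one] at e
  have hu : IsUnit (aeval y b * aeval y (derivative h)) := by
    rw [show aeval y b * aeval y (derivative h) = 1 + -(aeval y a * aeval y h) by linear_combination e]
    exact ((Commute.isNilpotent_mul_left (Commute.all _ _) hnil).neg).isUnit_one_add
  exact (Polynomial.existsUnique_nilpotent_sub_and_aeval_eq_zero hnil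
    (isUnit_of_mul_isUnit_right hu)).exists.imp fun _ hr => hr.2

omit [Finite F] in
/-- An irreducible polynomial has a root in each finite extension of degree divisible by its degree. -/
theorem exists_root_of_degree_dvd {K : Type*} [Field K] [Algebra F K] [Finite K] {h : F[X]}
    (hh : Irreducible h) (hd : h.natDegree ∣ Module.finrank F K) : ∃ y : K, aeval y h = 0 := by
  have : Fact (Irreducible h) := ⟨hh⟩
  obtain ⟨f⟩ := FiniteField.nonempty_algHom_of_finrank_dvd (F := F) (K := AdjoinRoot h) (L := K)
    (by rwa [(AdjoinRoot.powerBasis hh.ne_zero).finrank, AdjoinRoot.powerBasis_dim])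
  refine ⟨f (AdjoinRoot.root h), ?_⟩
  rw [aeval_algHom_apply, AdjoinRoot.aeval_eq, AdjoinRoot.mk_self, map_zero]

/-- The roots found inside the algebra generated by an element. -/
theorem exists_root_polynomial {R : Type*} [Ring R] [Algebra F R] [Finite R] (g : R) {h : F[X]}
    (hh : Irreducible h)
    (hd : ∀ f : F[X], Irreducible f → f.Monic → f ∣ minpoly F g → h.natDegree ∣ f.natDegree) :
    ∃ p : F[X], aeval (aeval g p) h = 0 := by
  classical
  set A := Algebra.adjoin F ({g} : Set R) with hA
  have hA' : A = (aeval g).range := Algebra.adjoin_singleton_eq_range_aeval F g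
  obtain ⟨y, hy⟩ : ∃ y : A, aeval y h = 0 := by
    refine exists_root_of_residue h (PerfectField.separable_of_irreducible hh) fun I hI => ?_
    let := Ideal.Quotient.field I
    let x : A := ⟨g, Algebra.self_mem_adjoin_singleton F g⟩
    have : Finite (A ⧸ I) := Finite.of_surjective _ Ideal.Quotient.mk_surjective
    let φ : A →ₐ[F] A ⧸ I := Ideal.Quotient.mkₐ F I
    have hgen : Algebra.adjoin F ({φ x} : Set (A ⧸ I)) = ⊤ := by
      rw [eq_top_iff]
      intro z _
      obtain ⟨⟨w, hw⟩, rfl⟩ := Ideal.Quotient.mkₐ_surjective F I z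
      obtain ⟨p, hp⟩ := (hA' ▸ hw : w ∈ (aeval g).range)
      rw [Algebra.adjoin_singleton_eq_range_aeval]
      refine ⟨p, ?_⟩
      show aeval (φ x) p = φ ⟨w, hw⟩
      rw [aeval_algHom_apply]
      refine congrArg φ (Subtype.ext ?_)
      exact (aeval_algHom_apply A.val x p).symm.trans hp
    have hint : IsIntegral F (φ x) := IsIntegral.of_finite F _
    have hfin : Module.finrank F (A ⧸ I) = (minpoly F (φ x)).natDegree := by
      rw [(PowerBasis.ofAdjoinEqTop hint hgen).finrank]
      simp
    have hdvd : minpoly F (φ x) ∣ minpoly F g := by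
      refine minpoly.dvd F _ ?_
      rw [aeval_algHom_apply]
      refine (congrArg φ (Subtype.ext ?_)).trans (map_zero φ)
      exact (aeval_algHom_apply A.val x _).symm.trans (minpoly.aeval F g)
    exact exists_root_of_degree_dvd hh
      (hfin ▸ hd _ (minpoly.irreducible hint) (minpoly.monic hint) hdvd)
  obtain ⟨p, hp⟩ : (y : R) ∈ (aeval g).range := by
    obtain ⟨w, hw⟩ := y
    exact hA' ▸ hw
  refine ⟨p, ?_⟩
  show aeval ((aeval g) p) h = 0
  rw [show aeval g p = (y : R) from hp]
  have := congrArg A.val hy
  rw [← aeval_algHom_apply, map_zero] at this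
  exact this

end H2.Cover
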