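import Cfsg.Agent.H40.CrossChar
import Cfsg.Agent.H2.Cover.RootLift
import Cfsg.Agent.H2.Cover.RootConj
import Cfsg.Agent.H2.Cover.Common

/-!
`PSL_n` over a finite field, `n = 2, 3, 4`, is covered by the conjugates of a point stabiliser and of the centraliser
of a field extension.
-/

set_option autoImplicit false

open Polynomial Matrix

namespace H2.Cover

variable {F : Type*} [Field F] [Finite F]

local notation "SL" n => Matrix.SpecialLinearGroup (Fin n) F

/-- The stabiliser of a line. -/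
def lineStab {n : ℕ} (v : Fin n → F) : Subgroup (SL n) where
  carrier := {g | ∃ μ : F, μ ≠ 0 ∧ (g : Matrix (Fin n) (Fin n) F) *ᵥ v = μ • v}
  one_mem' := ⟨1, one_ne_zero, by simp⟩
  mul_mem' := by
    rintro a b ⟨μ, hμ, ha⟩ ⟨ν, hν, hb⟩
    exact ⟨ν * μ, mul_ne_zero hν hμ, by
      rw [Matrix.SpecialLinearGroup.coe_mul, ← mulVec_mulVec, hb, mulVec_smul, ha, smul_smul]⟩
  inv_mem' := by
    rintro a ⟨μ, hμ, ha⟩
    refine ⟨μ⁻¹, inv_ne_zero hμ, ?_⟩
    have e := congrArg ((a⁻¹ : SL n).1 *ᵥ ·) ha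
    simp only [mulVec_mulVec, mulVec_smul] at e
    rw [← Matrix.SpecialLinearGroup.coe_mul, inv_mul_cancel, Matrix.SpecialLinearGroup.coe_one,
      one_mulVec] at e
    exact (inv_smul_eq_iff₀ hμ).2 e |>.symm

/-- The centraliser of a matrix. -/
def matCent {n : ℕ} (J : Matrix (Fin n) (Fin n) F) : Subgroup (SL n) where
  carrier := {g | (g : Matrix (Fin n) (Fin n) F) * J = J * g}
  one_mem' := by simp
  mul_mem' := by
    intro a b ha hb
    simp only [Set.mem_ofPred_eq] at *
    rw [Matrix.SpecialLinearGroup.coe_mul, Matrix.mul_assoc, hb, ← Matrix.mul_assoc, ha, Matrix.mul_assoc]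
  inv_mem' := by
    intro a ha
    simp only [Set.mem_ofPred_eq] at *
    have h1 : (a⁻¹ : SL n).1 * a.1 = 1 := congrArg Subtype.val (inv_mul_cancel a)
    have h2 : a.1 * (a⁻¹ : SL n).1 = 1 := congrArg Subtype.val (mul_inv_cancel a)
    calc (a⁻¹ : SL n).1 * J = (a⁻¹ : SL n).1 * J * (a.1 * (a⁻¹ : SL n).1) := by rw [h2, Matrix.mul_one]
      _ = (a⁻¹ : SL n).1 * (J * a.1) * (a⁻¹ : SL n).1 := by simp only [Matrix.mul_assoc]
      _ = (a⁻¹ : SL n).1 * a.1 * (J * (a⁻¹ : SL n).1) := by rw [← ha]; simp only [Matrix.mul_assoc]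
      _ = _ := by rw [h1, Matrix.one_mul]

/-- The general criterion. -/
theorem twoCover_psl {n d : ℕ} (hn : 2 ≤ n) (hd : 2 ≤ d) (hdn : d ∣ n)
    (hdeg : ∀ g : Matrix (Fin n) (Fin n) F, (∀ μ, ¬ g.charpoly.IsRoot μ) →
      ∀ f : F[X], Irreducible f → f ∣ g.charpoly → d ∣ f.natDegree) :
    TwoCover (Matrix.ProjectiveSpecialLinearGroup (Fin n) F) := by
  classical
  obtain ⟨h, hh, -, hhd⟩ := exists_irreducible_degree (F := F) (d := d) (by omega)
  obtain ⟨J, hJ⟩ := exists_matrix_root (n := Fin n) hh (by rwa [hhd, Fintype.card_fin])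
  have : Nonempty (Fin n) := ⟨⟨0, by omega⟩⟩
  set i : Fin n := ⟨0, by omega⟩ with hi
  set j : Fin n := ⟨1, by omega⟩ with hj
  have hji : j ≠ i := by simp [hi, hj]
  set e : Fin n → F := Pi.single i 1 with he
  have he0 : e ≠ 0 := by simp [he]
  have hH : lineStab e ≠ ⊤ := by
    intro htop
    obtain ⟨μ, -, hμ⟩ := (htop ▸ Subgroup.mem_top (Matrix.SpecialLinearGroup.transvection hji (1 : F)) :
      Matrix.SpecialLinearGroup.transvection hji (1 : F) ∈ lineStab e)
    have h2 := congrFun hμ j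
    simp [Matrix.SpecialLinearGroup.transvection, he, Matrix.transvection, hji] at h2
  have hK : matCent J ≠ ⊤ := by
    intro htop
    have hc : J ∈ Set.range (Matrix.scalar (Fin n)) := by
      refine Matrix.mem_range_scalar_of_commute_transvectionStruct fun t => ?_
      let T : SL n := ⟨t.toMatrix, by simp⟩
      have hT : T ∈ matCent J := htop ▸ Subgroup.mem_top T
      exact hT
    obtain ⟨c, rfl⟩ := hc
    have e1 : algebraMap F (Matrix (Fin n) (Fin n) F) (h.eval c) = 0 := by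
      rw [← aeval_algebraMap_apply_eq_algebraMap_eval]
      exact hJ
    have hroot : h.IsRoot c := (algebraMap F (Matrix (Fin n) (Fin n) F)).injective (e1.trans (map_zero _).symm)
    have := Polynomial.degree_eq_one_of_irreducible_of_root hh hroot
    rw [Polynomial.degree_eq_natDegree hh.ne_zero, hhd] at this
    norm_cast at this
    omega
  have hc1 : Subgroup.center (SL n) ≤ lineStab e := by
    intro g hg
    obtain ⟨r, hr, hrg⟩ := Matrix.SpecialLinearGroup.mem_center_iff.1 hg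
    refine ⟨r, fun e0 => ?_, by rw [← hrg]; simp⟩
    rw [e0, zero_pow (by simp; omega)] at hr
    exact zero_ne_one hr
  have hc2 : Subgroup.center (SL n) ≤ matCent J := by
    intro g hg
    obtain ⟨r, -, hrg⟩ := Matrix.SpecialLinearGroup.mem_center_iff.1 hg
    show g.1 * J = J * g.1
    rw [← hrg]
    exact Matrix.scalar_commute r (fun r' => Commute.all r r') J
  refine TwoCover.quotient _ _ _ hH hK hc1 hc2 fun g => ?_
  by_cases hroot : ∃ μ, g.1.charpoly.IsRoot μ
  · obtain ⟨μ, hμ⟩ := hroot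
    left
    rw [IsRoot, Matrix.eval_charpoly] at hμ
    obtain ⟨v, hv, hgv⟩ := Matrix.exists_mulVec_eq_zero_iff.2 hμ
    rw [sub_mulVec, sub_eq_zero] at hgv
    obtain ⟨x, hx⟩ := H40.exists_SL_mulVec_eq hn hv he0
    have hgμ : g.1 *ᵥ v = μ • v := by rw [← hgv]; simp
    have hμ0 : μ ≠ 0 := fun e0 => hv (by
      have e1 := congrArg ((g⁻¹ : SL n).1 *ᵥ ·) hgμ
      simp only [mulVec_mulVec, e0, zero_smul, mulVec_zero] at e1
      rwa [← Matrix.SpecialLinearGroup.coe_mul, inv_mul_cancel, Matrix.SpecialLinearGroup.coe_one,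
        one_mulVec] at e1)
    refine ⟨x, μ, hμ0, ?_⟩
    have hx' : (x⁻¹ : SL n).1 *ᵥ e = v := by
      rw [← hx, mulVec_mulVec, ← Matrix.SpecialLinearGroup.coe_mul, inv_mul_cancel,
        Matrix.SpecialLinearGroup.coe_one, one_mulVec]
    rw [Matrix.SpecialLinearGroup.coe_mul, Matrix.SpecialLinearGroup.coe_mul, ← mulVec_mulVec,
      ← mulVec_mulVec, hx', hgμ, mulVec_smul, hx]
  · right
    push Not at hroot
    obtain ⟨p, hp⟩ := exists_root_polynomial g.1 hh fun f hf _ hfd => by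
      rw [hhd]
      exact hdeg g.1 hroot f hf (hfd.trans (Matrix.minpoly_dvd_charpoly g.1))
    obtain ⟨x, hxd, hx⟩ := exists_conj_det hh hp hJ 1
    refine ⟨⟨x, hxd⟩, ?_⟩
    set X' : SL n := ⟨x, hxd⟩
    have h1 : (X'⁻¹ : SL n).1 * x = 1 := congrArg Subtype.val (inv_mul_cancel X')
    have h2 : x * (X'⁻¹ : SL n).1 = 1 := congrArg Subtype.val (mul_inv_cancel X')
    have hcom : g.1 * aeval g.1 p = aeval g.1 p * g.1 := by
      exact (Algebra.commute_of_mem_adjoin_self (aeval_mem_adjoin_singleton F g.1 (p := p))).eq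
    have hJx : J = x * aeval g.1 p * (X'⁻¹ : SL n).1 := by rw [hx, Matrix.mul_assoc, h2, Matrix.mul_one]
    show (X' * g * X'⁻¹ : SL n).1 * J = J * (X' * g * X'⁻¹ : SL n).1
    rw [hJx, Matrix.SpecialLinearGroup.coe_mul, Matrix.SpecialLinearGroup.coe_mul]
    show x * g.1 * (X'⁻¹ : SL n).1 * (x * aeval g.1 p * (X'⁻¹ : SL n).1) =
      x * aeval g.1 p * (X'⁻¹ : SL n).1 * (x * g.1 * (X'⁻¹ : SL n).1)
    calc _ = x * (g.1 * ((X'⁻¹ : SL n).1 * x) * aeval g.1 p) * (X'⁻¹ : SL n).1 := by
          simp only [Matrix.mul_assoc]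
      _ = x * (aeval g.1 p * ((X'⁻¹ : SL n).1 * x) * g.1) * (X'⁻¹ : SL n).1 := by
          rw [h1, Matrix.mul_one, Matrix.mul_one, hcom]
      _ = _ := by simp only [Matrix.mul_assoc]

omit [Finite F] in
/-- Without roots, the irreducible factors in degree at most four. -/
theorem degree_factor_of_no_root {P f : F[X]} (hP : P ≠ 0) (hr : ∀ μ, ¬ P.IsRoot μ) (hf : Irreducible f)
    (hfP : f ∣ P) : 2 ≤ f.natDegree ∧ f.natDegree ≤ P.natDegree ∧ f.natDegree + 1 ≠ P.natDegree := by
  have hlin : ∀ q : F[X], q ∣ P → q.natDegree ≠ 1 := by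
    intro q hq h1
    obtain ⟨x, hx⟩ := Polynomial.exists_root_of_degree_eq_one
      ((Polynomial.degree_eq_iff_natDegree_eq_of_pos one_pos).2 h1)
    exact hr x (hx.dvd hq)
  refine ⟨?_, natDegree_le_of_dvd hfP hP, fun h1 => ?_⟩
  · have := hf.natDegree_pos
    have := hlin f hfP
    omega
  · obtain ⟨q, rfl⟩ := hfP
    rw [natDegree_mul (left_ne_zero_of_mul hP) (right_ne_zero_of_mul hP)] at h1
    exact hlin q (dvd_mul_left _ _) (by omega)

theorem twoCover_psl_two : TwoCover (Matrix.ProjectiveSpecialLinearGroup (Fin 2) F) := by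
  refine twoCover_psl le_rfl le_rfl (dvd_refl 2) fun g hr f hf hfd => ?_
  have := degree_factor_of_no_root g.charpoly_monic.ne_zero hr hf hfd
  simp only [Matrix.charpoly_natDegree_eq_dim, Fintype.card_fin] at this
  rw [show f.natDegree = 2 by omega]

theorem twoCover_psl_three : TwoCover (Matrix.ProjectiveSpecialLinearGroup (Fin 3) F) := by
  refine twoCover_psl (by omega) (d := 3) (by omega) (dvd_refl 3) fun g hr f hf hfd => ?_
  have := degree_factor_of_no_root g.charpoly_monic.ne_zero hr hf hfd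
  simp only [Matrix.charpoly_natDegree_eq_dim, Fintype.card_fin] at this
  rw [show f.natDegree = 3 by omega]

theorem twoCover_psl_four : TwoCover (Matrix.ProjectiveSpecialLinearGroup (Fin 4) F) := by
  refine twoCover_psl (by omega) (d := 2) le_rfl (by norm_num) fun g hr f hf hfd => ?_
  have := degree_factor_of_no_root g.charpoly_monic.ne_zero hr hf hfd
  simp only [Matrix.charpoly_natDegree_eq_dim, Fintype.card_fin] at this
  rcases (by omega : f.natDegree = 2 ∨ f.natDegree = 4) with e | e <;> rw [e]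
  norm_num

end H2.Cover
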