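import Cfsg.Agent.H50.Center
import Cfsg.Agent.H2.Cover.Common

/-!
Kernels of polynomials in a unitary matrix: an irreducible polynomial of even degree is not its own conjugate
reciprocal, so its kernel is totally isotropic.
-/

set_option autoImplicit false

namespace H2.Cover.SUC

open H50 Matrix Polynomial Cfsg

variable {F : Type*} [Field F] [Fintype F] {n q : ℕ} (hF : Fintype.card F = q ^ 2)

/-- The conjugate reciprocal polynomial. -/
noncomputable def conjRefl (k : ℕ) (f : F[X]) : F[X] := reflect k (f.map (conjHom hF))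

include hF

/-- The adjoint identity for polynomials in an isometry. -/
theorem h_conjRefl {g : Matrix (Fin n) (Fin n) F} (hg : IsIso q g) {k : ℕ} {p : F[X]}
    (hp : p.natDegree ≤ k) (x y : Fin n → F) :
    hermForm n F q (aeval g (conjRefl hF k p) *ᵥ x) (g ^ k *ᵥ y) =
      hermForm n F q x (aeval g p *ᵥ y) := by
  have hpow : ∀ (i : ℕ) (u v : Fin n → F),
      hermForm n F q (g ^ i *ᵥ u) (g ^ i *ᵥ v) = hermForm n F q u v := by
    intro i
    induction i with
    | zero => simp
    | succ i ih =>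
      intro u v
      rw [pow_succ, ← mulVec_mulVec, ← mulVec_mulVec, ih, hg]
  refine induction_with_natDegree_le (fun p => hermForm n F q (aeval g (conjRefl hF k p) *ᵥ x)
      (g ^ k *ᵥ y) = hermForm n F q x (aeval g p *ᵥ y)) k ?_ ?_ ?_ p hp
  · simp [conjRefl, h_zero_left, h_zero_right hF]
  · intro i r _ hi
    rw [conjRefl, Polynomial.map_mul, map_C, Polynomial.map_pow, map_X, reflect_C_mul_X_pow,
      revAt_le hi, map_mul, map_mul, aeval_C, aeval_C, map_pow, map_pow, aeval_X,
      ← Algebra.smul_def, ← Algebra.smul_def, smul_mulVec, smul_mulVec, h_smul_left, h_smul_right hF,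
      conjHom_apply]
    congr 1
    conv_lhs => rw [show g ^ k = g ^ (k - i) * g ^ i by rw [← pow_add]; congr 1; omega, ← mulVec_mulVec]
    rw [hpow]
  · intro a b _ _ ha hb
    simp only [conjRefl] at ha hb ⊢
    rw [Polynomial.map_add, reflect_add, map_add, map_add, add_mulVec, add_mulVec, h_add_left,
      h_add_right hF, ha, hb]

/-- An irreducible polynomial of even degree does not divide its conjugate reciprocal. -/
theorem not_dvd_conjRefl {f : F[X]} (hf : Irreducible f) (hev : Even f.natDegree) :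
    ¬ f ∣ conjRefl hF f.natDegree f := by
  intro hdvd
  obtain ⟨p, e, hp, he0, hc, hq⟩ := exists_prime_pow hF
  have : Fact p.Prime := ⟨hp⟩
  have : Fact (Irreducible f) := ⟨hf⟩
  have : Module.Finite F (AdjoinRoot f) := (AdjoinRoot.powerBasis hf.ne_zero).finite
  have : Finite (AdjoinRoot f) := Module.finite_of_finite F
  set K := AdjoinRoot f
  have : CharP K p := charP_of_injective_algebraMap (algebraMap F K).injective p
  have hk : Module.finrank F K = f.natDegree := by
    rw [(AdjoinRoot.powerBasis hf.ne_zero).finrank, AdjoinRoot.powerBasis_dim]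
  set α : K := AdjoinRoot.root f with hα
  have hα0 : α ≠ 0 := by
    intro h0
    have h1 := AdjoinRoot.eval₂_root f
    rw [← hα, h0, eval₂_at_zero] at h1
    have hroot : f.IsRoot 0 := by
      rw [IsRoot, ← coeff_zero_eq_eval_zero]
      exact (AdjoinRoot.of f).injective (h1.trans (map_zero _).symm)
    have := natDegree_eq_of_degree_eq_some (degree_eq_one_of_irreducible_of_root hf hroot)
    rw [this] at hev
    exact Nat.not_even_one hev
  let φ : K →+* K := iterateFrobenius K p e
  have hφ : ∀ z, φ z = z ^ q := fun z => by rw [hq]; exact iterateFrobenius_def p e z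
  have hroot : aeval (φ α⁻¹) f = 0 := by
    obtain ⟨r, hr⟩ := hdvd
    have h1 : aeval α (conjRefl hF f.natDegree f) = 0 := by
      rw [hr, map_mul, AdjoinRoot.aeval_eq, AdjoinRoot.mk_self, zero_mul]
    let : Invertible α⁻¹ := ⟨α, mul_inv_cancel₀ hα0, inv_mul_cancel₀ hα0⟩
    have h2 := eval₂_reflect_mul_pow (algebraMap F K) α⁻¹ f.natDegree (f.map (conjHom hF))
      (natDegree_map_le)
    change eval₂ (algebraMap F K) α (conjRefl hF f.natDegree f) * _ = _ at h2
    rw [← aeval_def, h1, zero_mul, eval₂_map] at h2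
    have h3 := congrArg φ h2.symm
    rw [hom_eval₂, map_zero] at h3
    rw [aeval_def]
    have e' : φ.comp ((algebraMap F K).comp (conjHom hF)) = algebraMap F K := RingHom.ext fun c => by
      show φ (algebraMap F K (conjHom hF c)) = algebraMap F K c
      rw [hφ, ← map_pow, conjHom_apply, pow_q_pow_q hF]
    rw [e'] at h3
    exact h3
  let ψ : K →ₐ[F] K := AdjoinRoot.liftAlgHom f (Algebra.ofId F K) (φ α⁻¹) hroot
  have hψ : ψ α = φ α⁻¹ := AdjoinRoot.liftAlgHom_root _ _ _ _
  set Φ := FiniteField.frobeniusAlgHom F K with hΦ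
  obtain ⟨i, hi⟩ := (FiniteField.bijective_frobeniusAlgHom_pow F K).2 ψ
  have h2 : ψ * ψ = Φ := by
    refine AdjoinRoot.algHom_ext ?_
    show ψ (ψ α) = Φ α
    rw [hψ, hφ, map_pow, map_inv₀, hψ, hφ, hΦ, FiniteField.coe_frobeniusAlgHom]
    show ((α⁻¹ ^ q)⁻¹) ^ q = α ^ Fintype.card F
    rw [inv_pow, inv_pow, inv_pow, inv_inv, ← pow_mul, hF, pow_two]
  have h3 : Φ ^ (2 * i.1) = Φ ^ 1 := by
    rw [two_mul, pow_add, pow_one, show Φ ^ i.1 = ψ from hi, h2]
  have hfin : IsOfFinOrder Φ := orderOf_pos_iff.1 (by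
    rw [FiniteField.orderOf_frobeniusAlgHom]; exact Module.finrank_pos)
  have h4 := hfin.pow_eq_pow_iff_modEq.1 h3
  rw [FiniteField.orderOf_frobeniusAlgHom] at h4
  obtain ⟨m, hm⟩ := hev
  have h5 : 2 * i.1 ≡ 1 [MOD 2] := h4.of_dvd ⟨m, by omega⟩
  simp [Nat.ModEq] at h5

/-- A non-singular matrix maps an invariant subspace onto itself. -/
theorem exists_preimage {g : Matrix (Fin n) (Fin n) F} (hg : IsIso q g) {W : Submodule F (Fin n → F)}
    (hW : ∀ v ∈ W, g *ᵥ v ∈ W) (k : ℕ) {y : Fin n → F} (hy : y ∈ W) : ∃ z ∈ W, g ^ k *ᵥ z = y := by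
  induction k generalizing y with
  | zero => exact ⟨y, hy, by simp⟩
  | succ k ih =>
    let L : W →ₗ[F] W := (Matrix.mulVecLin g).restrict (fun v hv => hW v hv)
    have hinj : Function.Injective L := fun a b e => Subtype.ext (hg.injective hF (congrArg Subtype.val e))
    obtain ⟨w, hw⟩ := LinearMap.injective_iff_surjective.1 hinj ⟨y, hy⟩
    obtain ⟨z, hz, hzw⟩ := ih w.2
    exact ⟨z, hz, by rw [pow_succ', ← mulVec_mulVec, hzw]; exact congrArg Subtype.val hw⟩

/-- The kernel of an irreducible polynomial of even degree in an isometry is totally isotropic. -/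
theorem kerPoly_isotropic {g : Matrix (Fin n) (Fin n) F} (hg : IsIso q g) {f : F[X]} (hf : Irreducible f)
    (hev : Even f.natDegree) :
    ∀ x ∈ LinearMap.ker (Matrix.mulVecLin (aeval g f)), ∀ y ∈ LinearMap.ker (Matrix.mulVecLin (aeval g f)),
      hermForm n F q x y = 0 := by
  intro x hx y hy
  simp only [LinearMap.mem_ker, Matrix.mulVecLin_apply] at hx hy
  obtain ⟨a, b, hab⟩ := hf.coprime_iff_not_dvd.2 (not_dvd_conjRefl hF hf hev)
  have hcomm : ∀ v, aeval g f *ᵥ v = 0 → aeval g f *ᵥ (g *ᵥ v) = 0 := by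
    intro v hv
    rw [mulVec_mulVec, ← (Algebra.commute_of_mem_adjoin_self (aeval_mem_adjoin_singleton F g (p := f))).eq,
      ← mulVec_mulVec, hv, mulVec_zero]
  obtain ⟨z, hz, rfl⟩ := exists_preimage hF hg (W := LinearMap.ker (Matrix.mulVecLin (aeval g f)))
    (fun v hv => by simp only [LinearMap.mem_ker, Matrix.mulVecLin_apply] at *; exact hcomm v hv)
    f.natDegree (y := y) (by simpa using hy)
  simp only [LinearMap.mem_ker, Matrix.mulVecLin_apply] at hz
  have hx' : x = aeval g (conjRefl hF f.natDegree f) *ᵥ (aeval g b *ᵥ x) := by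
    have h1 := congrArg (fun p => aeval g p *ᵥ x) hab
    simp only [map_add, map_mul, map_one, add_mulVec, ← mulVec_mulVec, hx, mulVec_zero, zero_add,
      one_mulVec] at h1
    conv_lhs => rw [← h1]
    rw [mulVec_mulVec, mulVec_mulVec, ← map_mul, ← map_mul, mul_comm]
  rw [hx', h_conjRefl hF hg le_rfl, hz, h_zero_right hF]

omit [Fintype F] hF in
/-- The stabiliser of a subspace. -/
def subStab (W : Submodule F (Fin n → F)) : Subgroup (SU n F q) where
  carrier := {g | ∀ v, suMat g *ᵥ v ∈ W ↔ v ∈ W}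
  one_mem' := fun v => by rw [suMat_one, one_mulVec]
  mul_mem' := fun {a b} ha hb v => by rw [suMat_mulVec_mul, ha, hb]
  inv_mem' := fun {a} ha v => by rw [← ha (suMat a⁻¹ *ᵥ v), suMat_mulVec_inv]

theorem mem_subStab {W : Submodule F (Fin n → F)} {g : SU n F q} (h : ∀ v ∈ W, suMat g *ᵥ v ∈ W) :
    g ∈ subStab (q := q) W := by
  intro v
  refine ⟨fun hv => ?_, h v⟩
  obtain ⟨z, hz, hzv⟩ := exists_preimage hF (SU_isIso g) h 1 hv
  rw [pow_one] at hzv
  exact (SU_isIso g).injective hF hzv ▸ hz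

omit [Fintype F] hF in
theorem center_le_subStab [Fintype F] (hF : Fintype.card F = q ^ 2) (hn : 2 ≤ n) (W : Submodule F (Fin n → F)) :
    Subgroup.center (SU n F q) ≤ subStab W := by
  intro g hg
  obtain ⟨l, hl⟩ := (mem_center_iff_scalar hF hn).1 hg
  exact mem_subStab hF fun v hv => by rw [hl, smul_mulVec, one_mulVec]; exact W.smul_mem l hv

theorem conj_mem_subStab {W W' : Submodule F (Fin n → F)} {g x : SU n F q}
    (hg : ∀ v ∈ W, suMat g *ᵥ v ∈ W) (hx : W.map (Matrix.mulVecLin (suMat x)) = W') :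
    x * g * x⁻¹ ∈ subStab (q := q) W' := by
  refine mem_subStab hF fun v hv => ?_
  rw [← hx] at hv ⊢
  obtain ⟨u, hu, rfl⟩ := hv
  exact ⟨_, hg u hu, by
    simp only [Matrix.mulVecLin_apply, suMat_mulVec_mul, suMat_inv_mulVec]⟩

end H2.Cover.SUC
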