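import Cfsg.Agent.H50.PSU3Orders
import Cfsg.Agent.H2.Cover.RootLift
import Cfsg.Agent.H2.Cover.RootConj
import Cfsg.Agent.H2.Cover.FieldMatrix
import Cfsg.Agent.H2.Cover.SUBase

/-!
`PSU_3(3^a)` is covered by the conjugates of the stabiliser of a non-isotropic point and of the normaliser of a
maximal torus of order `q² - q + 1`.
-/

set_option autoImplicit false
set_option linter.unusedSectionVars false

namespace H2.Cover.SU3

open H50 Matrix Polynomial Cfsg H2.Cover.SUC

variable {F : Type*} [Field F] [Fintype F] {q : ℕ} (hF : Fintype.card F = q ^ 2)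

local notation "M3" => Matrix (Fin 3) (Fin 3) F

/-- The normaliser of the algebra generated by a matrix. -/
def algNorm (g0 : M3) : Subgroup (SU 3 F q) where
  carrier := {x | ∀ y : M3, suMat x * y * suMat x⁻¹ ∈ Algebra.adjoin F {g0} ↔ y ∈ Algebra.adjoin F {g0}}
  one_mem' := fun y => by simp [suMat_one]
  mul_mem' := fun {a b} ha hb y => by
    refine Iff.trans ?_ (hb y)
    rw [← ha (suMat b * y * suMat b⁻¹), _root_.mul_inv_rev, suMat_mul, suMat_mul]
    simp only [Matrix.mul_assoc]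
  inv_mem' := fun {a} ha y => by
    rw [← ha, inv_inv]
    have e : suMat a * suMat a⁻¹ = 1 := by rw [← suMat_mul, mul_inv_cancel, suMat_one]
    rw [show suMat a * (suMat a⁻¹ * y * suMat a) * suMat a⁻¹ = (suMat a * suMat a⁻¹) * y * (suMat a * suMat a⁻¹) by
      simp only [Matrix.mul_assoc], e, Matrix.one_mul, Matrix.mul_one]

theorem mem_algNorm {g0 : M3} {x : SU 3 F q}
    (h : suMat x * g0 * suMat x⁻¹ ∈ Algebra.adjoin F {g0}) : x ∈ algNorm g0 :=
  conj_mem_adjoin_iff (by rw [← suMat_mul, inv_mul_cancel, suMat_one]) h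

/-- An element of the normaliser fixing two independent vectors is trivial. -/
theorem fix_two {g0 : M3} {h : F[X]} (hh : Irreducible h) (hd : h.natDegree = 3) (hg0 : aeval g0 h = 0)
    {t : SU 3 F q} (ht : t ∈ algNorm g0) {v w : Fin 3 → F} (hv : v ≠ 0) (hw : w ∉ Submodule.span F {v})
    (htv : suMat t *ᵥ v = v) (htw : suMat t *ᵥ w = w) : t = 1 := by
  have hli := pow_linearIndependent hh hg0 hv (d := 3) (by omega)
  let B := basisOfLinearIndependentOfCardEqFinrank hli (by simp)
  obtain ⟨p, rfl⟩ : ∃ p : F[X], aeval g0 p *ᵥ v = w := by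
    refine ⟨∑ i : Fin 3, C (B.repr w i) * X ^ (i : ℕ), ?_⟩
    rw [map_sum, sum_mulVec]
    conv_rhs => rw [← B.sum_repr w]
    refine Finset.sum_congr rfl fun i _ => ?_
    simp [B, map_mul, aeval_C, ← Algebra.smul_def, smul_mulVec]
  have hcom : suMat t * aeval g0 p = aeval g0 p * suMat t := by
    have hmem := (ht (aeval g0 p)).2 (aeval_mem_adjoin_singleton F g0)
    rw [Algebra.adjoin_singleton_eq_range_aeval] at hmem
    obtain ⟨r, hr⟩ := hmem
    change aeval g0 r = _ at hr
    have h1 : suMat t⁻¹ *ᵥ v = v := suMat_inv_fix htv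
    have hz := eval_mulVec_eq_zero hh hg0 hv (p := r - p) (by
      rw [map_sub, sub_mulVec, hr, ← mulVec_mulVec, ← mulVec_mulVec, h1, htw, sub_self])
    rw [map_sub, sub_eq_zero, hr] at hz
    conv_rhs => rw [← hz.2]
    rw [Matrix.mul_assoc _ (suMat t⁻¹), ← suMat_mul, inv_mul_cancel, suMat_one, Matrix.mul_one]
  rcases scalar_or_root hh hg0 (by rw [hd]; norm_num) p with ⟨c, hc⟩ | ⟨f, hf, hfd, hfp⟩
  · refine absurd ?_ hw
    rw [hc, smul_mulVec, one_mulVec]
    exact Submodule.smul_mem _ c (Submodule.mem_span_singleton_self v)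
  · have hli' := pow_linearIndependent hf hfp hv (d := 3) (by omega)
    have hsp : Submodule.span F (Set.range fun i : Fin 3 => aeval g0 p ^ (i : ℕ) *ᵥ v) = ⊤ :=
      Submodule.eq_top_of_finrank_eq (by rw [finrank_span_eq_card hli']; simp)
    refine suMat_ext fun z => ?_
    rw [suMat_one, one_mulVec]
    have hz : z ∈ Submodule.span F (Set.range fun i : Fin 3 => aeval g0 p ^ (i : ℕ) *ᵥ v) := hsp ▸ Submodule.mem_top
    induction hz using Submodule.span_induction with
    | mem z hz =>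
      obtain ⟨i, rfl⟩ := hz
      have hci : Commute (suMat t) (aeval g0 p ^ (i : ℕ)) := (show Commute (suMat t) (aeval g0 p) from hcom).pow_right _
      rw [mulVec_mulVec, hci.eq, ← mulVec_mulVec, htv]
    | zero => simp
    | add x y _ _ hx hy => rw [mulVec_add, hx, hy]
    | smul a x _ hx => rw [mulVec_smul, hx]

include hF

/-- `GL`-conjugate unitary matrices are conjugate by a unitary matrix. -/
theorem gu_conj {A B P : M3} (hA : H51.adj hF A * A = 1) (hB : H51.adj hF B * B = 1) (hP : P.det ≠ 0)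
    (h : P * A = B * P) : ∃ u : M3, H51.adj hF u * u = 1 ∧ u * A = B * u := by
  let A' := H51.mkGL hF A hA
  let B' := H51.mkGL hF B hB
  let P' := GeneralLinearGroup.mkOfDetNeZero P hP
  obtain ⟨u, hu, hu'⟩ := H51.gu_conj_of_gl_conj hF (H51.mkGL_mem hF A hA) (H51.mkGL_mem hF B hB)
    (A := A') (B := B') (isConj_iff.2 ⟨P', by
      rw [mul_inv_eq_iff_eq_mul]; exact Units.ext h⟩)
  refine ⟨u, (H51.mem_GU_iff hF u).1 hu, ?_⟩
  rw [mul_inv_eq_iff_eq_mul] at hu'
  exact congrArg (fun z : GL (Fin 3) F => (z : M3)) hu'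

/-- Inside the algebra of a semisimple element of norm one the determinant is adjustable. -/
theorem exists_su_conj {g0 : M3} (hg0 : H51.adj hF g0 * g0 = 1) (hm : ∃ m : ℕ, (m : F) ≠ 0 ∧ g0 ^ m = 1)
    {u A B : M3} (hu : H51.adj hF u * u = 1) (h : u * A = B * u) :
    ∃ (x : SU 3 F q) (s s' : M3), s' * s = 1 ∧ s * g0 = g0 * s ∧ suMat x * A * suMat x⁻¹ = s * B * s' := by
  have hdet : u.det ^ q * u.det = 1 := by
    have := congrArg Matrix.det hu
    rwa [det_mul, H51.det_adj, det_one] at this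
  obtain ⟨s, hs, hsc, hsd⟩ := exists_commuting_unitary_det hF hg0 hm (by norm_num) (l := u.det ^ q) (by
    rw [pow_succ, pow_q_pow_q hF, mul_comm, hdet])
  have hiso : ∀ {M : M3}, H51.adj hF M * M = 1 → IsIso q M := fun {M} hM a b => by
    rw [h_mulVec_left hF, mulVec_mulVec, hM, one_mulVec]
  let x : SU 3 F q := mkSU (s * u) ((hiso hs).mul (hiso hu)) (by rw [det_mul, hsd, hdet])
  refine ⟨x, s, H51.adj hF s, hs, hsc, ?_⟩
  have hx : suMat x = s * u := rfl
  have hxi : suMat x⁻¹ = H51.adj hF u * H51.adj hF s := by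
    refine left_inv_eq_right_inv (a := suMat x) (by rw [← suMat_mul, inv_mul_cancel, suMat_one]) ?_
    rw [hx, Matrix.mul_assoc, ← Matrix.mul_assoc u, mul_eq_one_comm.1 hu, Matrix.one_mul, mul_eq_one_comm.1 hs]
  rw [hxi, hx]
  calc s * u * A * (H51.adj hF u * H51.adj hF s) = s * (B * (u * H51.adj hF u)) * H51.adj hF s := by
        rw [← Matrix.mul_assoc B, ← h]; simp only [Matrix.mul_assoc]
    _ = _ := by rw [mul_eq_one_comm.1 hu, Matrix.mul_one]

/-- Regular unipotent matrices of size three are similar to a fixed one. -/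
theorem regular_basis {g : M3} (h3 : (g - 1) ^ 3 = 0) (h2 : (g - 1) ^ 2 ≠ 0) :
    ∃ P : M3, P.det ≠ 0 ∧ g * P = P * !![1, 0, 0; 1, 1, 0; 0, 1, 1] := by
  obtain ⟨v, hv⟩ : ∃ v, (g - 1) ^ 2 *ᵥ v ≠ 0 := by
    by_contra hc
    push Not at hc
    exact h2 (Matrix.ext_iff_mulVec.2 fun v => by rw [hc, zero_mulVec])
  set N := g - 1 with hN
  let P : M3 := Matrix.of fun i j => ![v, N *ᵥ v, N ^ 2 *ᵥ v] j i
  have hPc : ∀ c : Fin 3 → F, P *ᵥ c = c 0 • v + c 1 • (N *ᵥ v) + c 2 • (N ^ 2 *ᵥ v) := fun c => by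
    funext i; simp [P, Matrix.mulVec, dotProduct, Fin.sum_univ_three]; ring
  refine ⟨P, fun hP => ?_, Matrix.ext_iff_mulVec.2 fun c => ?_⟩
  · obtain ⟨c, hc, hc0⟩ := Matrix.exists_mulVec_eq_zero_iff.2 hP
    rw [hPc] at hc0
    have e : ∀ k, N ^ k *ᵥ (c 0 • v + c 1 • (N *ᵥ v) + c 2 • (N ^ 2 *ᵥ v)) =
        c 0 • (N ^ k *ᵥ v) + c 1 • (N ^ (k + 1) *ᵥ v) + c 2 • (N ^ (k + 2) *ᵥ v) := fun k => by
      rw [mulVec_add, mulVec_add, mulVec_smul, mulVec_smul, mulVec_smul, mulVec_mulVec, mulVec_mulVec,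
        ← pow_succ, ← pow_add]
    have z : ∀ k, 3 ≤ k → N ^ k = 0 := fun k hk => by
      rw [← Nat.sub_add_cancel hk, pow_add, h3, mul_zero]
    have e2 := e 2
    rw [hc0, mulVec_zero, z (2 + 1) le_rfl, z (2 + 2) (by omega), zero_mulVec, smul_zero, smul_zero,
      add_zero, add_zero] at e2
    have c0 := (smul_eq_zero.1 e2.symm).resolve_right hv
    have e1 := e 1
    rw [hc0, mulVec_zero, z (1 + 2) le_rfl, c0, zero_smul, zero_mulVec, smul_zero, zero_add, add_zero] at e1
    have c1 := (smul_eq_zero.1 e1.symm).resolve_right hv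
    rw [c0, c1, zero_smul, zero_smul, zero_add, zero_add] at hc0
    exact hc (funext fun i => by fin_cases i; exacts [c0, c1, (smul_eq_zero.1 hc0).resolve_right hv])
  · rw [← mulVec_mulVec, ← mulVec_mulVec, hPc, hPc]
    have hg : ∀ w, g *ᵥ w = w + N *ᵥ w := fun w => by rw [hN, sub_mulVec, one_mulVec, add_sub_cancel]
    have h3v : N ^ 3 *ᵥ v = 0 := by rw [h3, zero_mulVec]
    rw [mulVec_add, mulVec_add, mulVec_smul, mulVec_smul, mulVec_smul, hg, hg (N *ᵥ v), hg (N ^ 2 *ᵥ v),
      mulVec_mulVec, mulVec_mulVec, ← pow_two, ← pow_succ', h3v]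
    simp [Matrix.mulVec, dotProduct, Fin.sum_univ_three]
    module

/-- A subspace with two independent vectors is not totally isotropic. -/
theorem exists_aniso {a b : Fin 3 → F} (hli : LinearIndependent F ![a, b]) :
    ∃ c d : F, hermForm 3 F q (c • a + d • b) (c • a + d • b) ≠ 0 := by
  by_contra hc
  push Not at hc
  have haa : hermForm 3 F q a a = 0 := by simpa using hc 1 0
  have hbb : hermForm 3 F q b b = 0 := by simpa using hc 0 1
  have hab : hermForm 3 F q a b = 0 := by
    by_contra hz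
    obtain ⟨d, hd⟩ := exists_trace_ne_zero hF
    have h1 := hc (d / hermForm 3 F q a b) 1
    simp only [one_smul, h_add_left, h_add_right hF, h_smul_left, h_smul_right hF, haa, hbb, mul_zero,
      add_zero, zero_add, h_symm hF a b] at h1
    rw [← mul_pow, div_mul_cancel₀ _ hz] at h1
    exact hd (by linear_combination h1)
  have := totIsotropic_card_le hF hli (fun i j => by
    fin_cases i <;> fin_cases j <;> simp [haa, hbb, hab, (h_eq_zero_comm hF).1 hab])
  omega

variable [CharP F 3]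

theorem sub_one_cube (M : M3) : (M - 1) ^ 3 = M ^ 3 - 1 := by
  have : Fact (Nat.Prime 3) := ⟨Nat.prime_three⟩
  have h0 : (3 : F) = 0 := CharP.cast_eq_zero F 3
  have h3 : (3 : M3) = 0 := by
    rw [← map_ofNat (algebraMap F M3) 3, h0, map_zero]
  have : (M - 1) ^ 3 = M ^ 3 - 1 + (3 : M3) * (M - M ^ 2) := by noncomm_ring
  rw [this, h3, zero_mul, add_zero]

/-- A non-scalar trichotomy for the elements of `SU_3`. -/
theorem trichotomy (g : SU 3 F q) : (∃ (v : Fin 3 → F) (μ : F), hermForm 3 F q v v ≠ 0 ∧ suMat g *ᵥ v = μ • v) ∨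
    (∀ a : F, ¬ (suMat g).charpoly.IsRoot a) ∨ ((suMat g - 1) ^ 3 = 0 ∧ (suMat g - 1) ^ 2 ≠ 0) := by
  by_cases hr : ∃ a : F, (suMat g).charpoly.IsRoot a
  swap
  · push Not at hr; exact Or.inr (Or.inl hr)
  by_contra hno
  simp only [not_or, not_exists, not_and] at hno
  obtain ⟨hH, -, hU⟩ := hno
  have hH' : ∀ v μ, suMat g *ᵥ v = μ • v → hermForm 3 F q v v = 0 := fun v μ e => by
    by_contra hv; exact hH v μ hv e
  have hiso : IsIso q (suMat g) := SU_isIso g
  obtain ⟨μ, hμ⟩ := hr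
  rw [IsRoot, Matrix.eval_charpoly] at hμ
  obtain ⟨v, hv0, hgv⟩ := Matrix.exists_mulVec_eq_zero_iff.2 hμ
  rw [sub_mulVec, sub_eq_zero] at hgv
  replace hgv : suMat g *ᵥ v = μ • v := by rw [← hgv]; simp
  have hvv := hH' v μ hgv
  have hμ0 : μ ≠ 0 := fun e => hv0 (hiso.injective hF (by simp [hgv, e]))
  obtain ⟨f, hf⟩ := exists_hyp_partner hF hv0 hvv
  obtain ⟨u, hu1, huv, huf⟩ := exists_norm_one_perp_hyp hF le_rfl hf
  have hli : LinearIndependent F ![v, u, f] := by
    rw [Fintype.linearIndependent_iff]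
    intro c hc
    simp [Fin.sum_univ_three] at hc
    have h1 := congrArg (fun z => hermForm 3 F q z v) hc
    have h2 := congrArg (fun z => hermForm 3 F q z u) hc
    have h3 := congrArg (fun z => hermForm 3 F q z f) hc
    simp only [h_add_left, h_smul_left, hvv, huv, h_zero_left, (hf.symm hF).2.2, (h_eq_zero_comm hF).1 huv,
      (h_eq_zero_comm hF).1 huf, hu1, hf.2.2, huf, hf.2.1, mul_zero, mul_one, zero_add, add_zero] at h1 h2 h3
    intro i; fin_cases i
    · exact h3
    · exact h2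
    · exact h1
  have hsp : ∀ z, ∃ a b c : F, z = a • v + b • u + c • f := fun z => by
    let B := basisOfLinearIndependentOfCardEqFinrank hli (by simp)
    refine ⟨B.repr z 0, B.repr z 1, B.repr z 2, ?_⟩
    conv_lhs => rw [← B.sum_repr z]
    simp [B, Fin.sum_univ_three]
  obtain ⟨s, ν, c, hgu⟩ := hsp (suMat g *ᵥ u)
  have hc0 : c = 0 := by
    have h1 := hiso u v
    rw [hgv, h_smul_right hF, huv] at h1
    have h2 := (mul_eq_zero.1 h1).resolve_left (pow_ne_zero _ hμ0)
    rw [hgu] at h2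
    simpa [h_add_left, h_smul_left, hvv, huv, (hf.symm hF).2.2] using h2
  rw [hc0, zero_smul, add_zero] at hgu
  have hν : ν ^ (q + 1) = 1 := by
    have h1 := hiso u u
    rw [hgu] at h1
    simpa [h_add_left, h_add_right hF, h_smul_left, h_smul_right hF, hvv, huv,
      (h_eq_zero_comm hF).1 huv, hu1, pow_succ, mul_comm] using h1
  have hνμ : ν = μ := by
    by_contra hne
    have hne' : ν - μ ≠ 0 := sub_ne_zero.2 hne
    have e : ν * (s / (ν - μ)) = s + s / (ν - μ) * μ := by field_simp; ring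
    have h1 := hH' (u + (s / (ν - μ)) • v) ν (by
      rw [mulVec_add, mulVec_smul, hgu, hgv, smul_add, smul_smul, smul_smul, e, add_smul]
      abel)
    simp [h_add_left, h_add_right hF, h_smul_left, h_smul_right hF, hvv, huv, (h_eq_zero_comm hF).1 huv,
      hu1] at h1
  subst hνμ
  obtain ⟨γ, β, α, hgf⟩ := hsp (suMat g *ᵥ f)
  have hα : α = ν := by
    have h1 := hiso f v
    rw [hgv, h_smul_right hF, hgf, (hf.symm hF).2.2] at h1
    simp only [h_add_left, h_smul_left, hvv, huv, (hf.symm hF).2.2, mul_zero, mul_one, zero_add] at h1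
    have h2 : ν ^ q * α = ν ^ q * ν := by rw [h1, ← pow_succ, hν]
    exact mul_left_cancel₀ (pow_ne_zero _ hμ0) h2
  subst hα
  set N := suMat g - α • (1 : M3) with hN
  have hN3 : N ^ 3 = 0 := by
    refine Matrix.ext_iff_mulVec.2 fun z => ?_
    obtain ⟨a, b, c, rfl⟩ := hsp z
    have hNv : N *ᵥ v = 0 := by rw [hN, sub_mulVec, smul_mulVec, one_mulVec, hgv, sub_self]
    have hNu : N *ᵥ u = s • v := by
      rw [hN, sub_mulVec, smul_mulVec, one_mulVec, hgu]; abel
    have hNf : N *ᵥ f = γ • v + β • u := by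
      rw [hN, sub_mulVec, smul_mulVec, one_mulVec, hgf]; abel
    rw [pow_succ, pow_two, ← mulVec_mulVec, ← mulVec_mulVec, zero_mulVec]
    simp [mulVec_add, mulVec_smul, hNv, hNu, hNf]
  have h0 : (3 : F) = 0 := CharP.cast_eq_zero F 3
  have hcube : suMat g ^ 3 = α ^ 3 • (1 : M3) := by
    have e : N ^ 3 = suMat g ^ 3 - α ^ 3 • (1 : M3) + (3 : F) • (α ^ 2 • suMat g - α • suMat g ^ 2) := by
      rw [hN, pow_succ, pow_two, pow_succ (suMat g) 2, pow_two]
      simp only [sub_mul, mul_sub, smul_mul_assoc, mul_smul_comm, Matrix.one_mul, Matrix.mul_one, smul_smul,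
        smul_sub]
      module
    rw [hN3, h0, zero_smul, add_zero] at e
    exact sub_eq_zero.1 e.symm
  have hα1 : α = 1 := by
    have e := congrArg Matrix.det hcube
    rw [det_pow, show (suMat g).det = 1 from g.1.2, one_pow, det_smul, det_one, mul_one, Fintype.card_fin] at e
    have h9 : (α ^ 3 - 1) ^ 3 = 0 := by linear_combination -e + (α ^ 3 - α ^ 6) * h0
    have h3' := eq_zero_of_pow_eq_zero h9
    have h1 : (α - 1) ^ 3 = 0 := by linear_combination h3' + (α - α ^ 2) * h0
    exact sub_eq_zero.1 (eq_zero_of_pow_eq_zero h1)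
  subst hα1
  rw [hN, one_smul] at hN3
  have hsq := hU hN3
  rw [not_not] at hsq
  by_cases hvker : ∀ z, (suMat g - 1) *ᵥ z = 0
  · exact one_ne_zero (hu1.symm.trans (hH' u 1 (by
      rw [one_smul, ← sub_eq_zero]; simpa [sub_mulVec] using hvker u)))
  push Not at hvker
  obtain ⟨z, hz⟩ := hvker
  set T := Matrix.mulVecLin (suMat g - 1)
  have hker : 2 ≤ Module.finrank F (LinearMap.ker T) := by
    have h1 := LinearMap.finrank_range_add_finrank_ker T
    have hle : LinearMap.range T ≤ LinearMap.ker T := by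
      rintro _ ⟨x, rfl⟩
      simp only [LinearMap.mem_ker, T, Matrix.mulVecLin_apply, mulVec_mulVec, ← pow_two, hsq, zero_mulVec]
    have := Submodule.finrank_mono hle
    simp at h1
    omega
  let b := Module.finBasis F (LinearMap.ker T)
  let i0 : Fin (Module.finrank F (LinearMap.ker T)) := ⟨0, by omega⟩
  let i1 : Fin (Module.finrank F (LinearMap.ker T)) := ⟨1, by omega⟩
  have hli2 : LinearIndependent F ![(b i0 : Fin 3 → F), (b i1 : Fin 3 → F)] := by
    rw [LinearIndependent.pair_iff]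
    intro s t hst
    have h' : s • b i0 + t • b i1 = 0 := Subtype.ext (by simpa using hst)
    have hp : LinearIndependent F ![b i0, b i1] := by
      have hc := b.linearIndependent.comp ![i0, i1]
        (by intro x y; fin_cases x <;> fin_cases y <;> simp [i0, i1, Fin.ext_iff])
      rwa [show b ∘ ![i0, i1] = ![b i0, b i1] by funext x; fin_cases x <;> rfl] at hc
    exact LinearIndependent.pair_iff.1 hp s t h'
  obtain ⟨c, d, hcd⟩ := exists_aniso hF hli2
  refine hcd (hH' _ 1 ?_)
  have hm : c • (b i0 : Fin 3 → F) + d • (b i1 : Fin 3 → F) ∈ LinearMap.ker T :=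
    add_mem (Submodule.smul_mem _ _ (b i0).2) (Submodule.smul_mem _ _ (b i1).2)
  simp only [LinearMap.mem_ker, T, Matrix.mulVecLin_apply, sub_mulVec, one_mulVec, sub_eq_zero] at hm
  rw [one_smul, hm]

theorem pow_three_dvd {a : ℕ} (hq : q = 3 ^ a) (ha : 1 ≤ a) : 3 ∣ q := hq ▸ dvd_pow_self 3 (by omega)

/-- Irreducible elements of `SU_3` have order dividing `q² - q + 1`. -/
theorem pow_irred {a : ℕ} (hq : q = 3 ^ a) (ha : 1 ≤ a) (g : SU 3 F q)
    (hr : ∀ c : F, ¬ (suMat g).charpoly.IsRoot c) : suMat g ^ (q ^ 2 - q + 1) = 1 := by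
  obtain ⟨u, v, hu, hv, hP⟩ := Spec3.charpoly_eq hF g
  obtain ⟨t, ht⟩ := Spec3.pow_scalar_irred hF g hu hv hP fun c hc => hr c (by
    rw [IsRoot, hP]; simpa using hc)
  have h3q := pow_three_dvd hF hq ha
  have hg1 : Nat.gcd 3 (q + 1) = 1 :=
    (Nat.prime_three.coprime_iff_not_dvd).2 fun h => absurd ((Nat.dvd_add_right h3q).1 h) (by norm_num)
  rw [hg1, Nat.div_one] at ht
  rw [← Spec3.suMat_pow] at ht
  obtain ⟨ht3, -⟩ := Spec3.scalar_facts hF ht
  have h0 : (3 : F) = 0 := CharP.cast_eq_zero F 3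
  have ht1 : t = 1 := sub_eq_zero.1 (eq_zero_of_pow_eq_zero (n := 3) (by
    linear_combination ht3 + (t - t ^ 2) * h0))
  rw [← Spec3.suMat_pow, ht, ht1, one_smul]

/-- An element with irreducible characteristic polynomial. -/
theorem exists_irreducible {a : ℕ} (hq : q = 3 ^ a) (ha : 1 ≤ a) :
    ∃ g : SU 3 F q, ∀ c : F, ¬ (suMat g).charpoly.IsRoot c := by
  have h3q := pow_three_dvd hF hq ha
  have hq3 : 3 ≤ q := Nat.le_of_dvd (q_pos hF) h3q
  obtain ⟨g, hg⟩ := Spec3.order_torus_three hF hq3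
  have hg1 : Nat.gcd 3 (q + 1) = 1 :=
    (Nat.prime_three.coprime_iff_not_dvd).2 fun h => absurd ((Nat.dvd_add_right h3q).1 h) (by norm_num)
  rw [hg1, Nat.div_one] at hg
  refine ⟨g, fun c hc => ?_⟩
  obtain ⟨u, v, hu, hv, hP⟩ := Spec3.charpoly_eq hF g
  rw [IsRoot, hP] at hc
  obtain ⟨b, d, hub, hvb, hprod⟩ := cubic_split hF hu hv (a := c) (by simpa using hc)
  have hfac : (suMat g).charpoly = (X - C c) * (X - C b) * (X - C d) := by
    rw [hP, hub, hvb]
    have hC : C c * C b * C d = (1 : F[X]) := by rw [← map_mul, ← map_mul, hprod, map_one]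
    simp only [map_neg, map_add, map_mul]
    linear_combination hC
  have hne : c ≠ 0 ∧ b ≠ 0 ∧ d ≠ 0 := by
    refine ⟨?_, ?_, ?_⟩ <;> rintro rfl <;> simp at hprod
  have hdiv : ∀ e : F, e ≠ 0 → (X - C e) ∣ (X ^ (q ^ 2 - 1) - 1 : F[X]) := fun e he => by
    rw [dvd_iff_isRoot]
    simp [← hF, FiniteField.pow_card_sub_one_eq_one e he]
  have h1 : (suMat g ^ (q ^ 2 - 1) - 1) ^ 3 = 0 := by
    obtain ⟨r, hr⟩ : (suMat g).charpoly ∣ (X ^ (q ^ 2 - 1) - 1 : F[X]) ^ 3 := by
      rw [hfac, pow_succ, pow_two]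
      exact mul_dvd_mul (mul_dvd_mul (hdiv c hne.1) (hdiv b hne.2.1)) (hdiv d hne.2.2)
    have e := congrArg (aeval (suMat g)) hr
    rw [map_mul, Matrix.aeval_self_charpoly, zero_mul] at e
    simpa using e
  rw [sub_one_cube hF, sub_eq_zero, ← pow_mul, ← Spec3.suMat_pow] at h1
  have hgo : (QuotientGroup.mk' (Subgroup.center (SU 3 F q)) g) ^ ((q ^ 2 - 1) * 3) = 1 := by
    rw [← map_pow, show g ^ ((q ^ 2 - 1) * 3) = 1 from SU_ext h1, map_one]
  have hdvd := hg ▸ orderOf_dvd_of_pow_eq_one hgo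
  have hle : q ≤ q ^ 2 := Nat.le_self_pow (by norm_num) q
  have hsq : q * 3 ≤ q ^ 2 := by nlinarith
  have hcop : Nat.Coprime (q ^ 2 - q + 1) 3 := by
    refine Nat.Coprime.symm ((Nat.prime_three.coprime_iff_not_dvd).2 fun h => ?_)
    have h9 : 3 ∣ q ^ 2 - q := Nat.dvd_sub (dvd_pow h3q two_ne_zero) h3q
    exact absurd ((Nat.dvd_add_right h9).1 h) (by norm_num)
  obtain ⟨j, hj⟩ := hcop.dvd_of_dvd_mul_right hdvd
  rcases j with _ | _ | j
  · rw [mul_zero] at hj; omega
  · omega
  · have : (q ^ 2 - q + 1) * (j + 1 + 1) ≥ (q ^ 2 - q + 1) * 2 := Nat.mul_le_mul_left _ (by omega)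
    omega

/-- Polynomials in an element of order dividing `q³ + 1` have adjoint the `q³`-th power. -/
theorem adj_aeval {g : M3} (hg : H51.adj hF g = g ^ q ^ 3) (p : F[X]) :
    H51.adj hF (aeval g p) = aeval g p ^ q ^ 3 := by
  obtain ⟨P, e, hP, he, hc, hq⟩ := exists_prime_pow hF
  have : Fact P.Prime := ⟨hP⟩
  induction p using Polynomial.induction_on' with
  | add a b ha hb =>
    have hab : Commute (aeval g a) (aeval g b) := (Commute.all a b).map (aeval g)
    have hqe : q ^ 3 = P ^ (e * 3) := by rw [hq, pow_mul]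
    rw [map_add, H51.adj_add, ha, hb, hqe, add_pow_char_pow_of_commute P _ hab]
  | monomial k c =>
    rw [aeval_monomial, ← Algebra.smul_def, H51.adj_smul, _root_.smul_pow]
    have hcq : c ^ q ^ 3 = c ^ q := by
      rw [show q ^ 3 = q * q * q by ring, pow_mul, pow_mul, pow_q_pow_q hF]
    rw [hcq]
    congr 1
    induction k with
    | zero => simp
    | succ k ih =>
      rw [pow_succ, H51.adj_mul, ih, hg, ← (Commute.pow_pow (Commute.self_pow g k).symm _ _).eq,
        (Commute.self_pow g k).symm.mul_pow]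

theorem cast_torus_ne (h3q : 3 ∣ q) : ((q ^ 2 - q + 1 : ℕ) : F) ≠ 0 := by
  have h9 : 3 ∣ q ^ 2 - q := Nat.dvd_sub (dvd_pow h3q two_ne_zero) h3q
  rw [Nat.cast_add, (CharP.cast_eq_zero_iff F 3 _).2 h9, Nat.cast_one, zero_add]
  exact one_ne_zero

/-- An element of the normaliser permuting the torus. -/
theorem exists_mover {g0 : M3} {h : F[X]} (hh : Irreducible h) (hd : h.natDegree = 3) (hg0 : aeval g0 h = 0)
    (hu0 : H51.adj hF g0 * g0 = 1) (hm : ∃ m : ℕ, (m : F) ≠ 0 ∧ g0 ^ m = 1) :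
    ∃ t : SU 3 F q, t ∈ algNorm g0 ∧ (suMat t - 1) ^ 3 = 0 ∧ (suMat t - 1) ^ 2 ≠ 0 := by
  classical
  set Q := Fintype.card F with hQ
  have hpow : ∀ k : ℕ, H51.adj hF (g0 ^ k) * g0 ^ k = 1 := by
    intro k
    induction k with
    | zero => simp [H51.adj_one]
    | succ k ih =>
      rw [pow_succ, H51.adj_mul, Matrix.mul_assoc, ← Matrix.mul_assoc _ (g0 ^ k), ih, Matrix.one_mul, hu0]
  obtain ⟨P, hPd, hP⟩ := exists_conj_det hh hg0 (frobenius_root hg0) (1 : F)
  obtain ⟨u, hu, hu'⟩ := gu_conj hF hu0 (hpow Q) (by rw [hPd]; exact one_ne_zero) hP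
  obtain ⟨x, s, s', hss, hsc, hx⟩ := exists_su_conj hF hu0 hm hu hu'
  have hx' : suMat x * g0 * suMat x⁻¹ = g0 ^ Q := by
    rw [hx, (show Commute s g0 from hsc).pow_right Q |>.eq, Matrix.mul_assoc, mul_eq_one_comm.1 hss,
      Matrix.mul_one]
  have hxN : x ∈ algNorm g0 := mem_algNorm (by
    rw [hx']; exact pow_mem (Algebra.self_mem_adjoin_singleton F g0) Q)
  have hiter : ∀ k : ℕ, suMat (x ^ k) * g0 * suMat (x ^ k)⁻¹ = g0 ^ Q ^ k := by
    intro k
    induction k with
    | zero => simp [suMat_one]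
    | succ k ih =>
      rw [pow_succ' x, _root_.mul_inv_rev, suMat_mul, suMat_mul,
        show suMat x * suMat (x ^ k) * g0 * (suMat (x ^ k)⁻¹ * suMat x⁻¹) =
          suMat x * (suMat (x ^ k) * g0 * suMat (x ^ k)⁻¹) * suMat x⁻¹ by simp only [Matrix.mul_assoc], ih]
      have e1 : ∀ j, suMat x * g0 ^ j * suMat x⁻¹ = (suMat x * g0 * suMat x⁻¹) ^ j := by
        intro j
        induction j with
        | zero => rw [pow_zero, pow_zero, Matrix.mul_one, ← suMat_mul, mul_inv_cancel, suMat_one]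
        | succ j ihj =>
          rw [pow_succ, pow_succ, ← ihj]
          calc _ = suMat x * g0 ^ j * (suMat x⁻¹ * suMat x) * g0 * suMat x⁻¹ := by
                rw [← suMat_mul, inv_mul_cancel, suMat_one, Matrix.mul_one, ← Matrix.mul_assoc (suMat x)]
            _ = _ := by simp only [Matrix.mul_assoc]
      rw [e1, hx', ← pow_mul, ← pow_succ']
  let C : Subgroup (SU 3 F q) :=
    { carrier := {y | suMat y * g0 = g0 * suMat y}
      one_mem' := by simp [suMat_one]
      mul_mem' := fun {a b} ha hb => by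
        show suMat (a * b) * g0 = _
        rw [suMat_mul, Matrix.mul_assoc, hb, ← Matrix.mul_assoc, ha, Matrix.mul_assoc]
      inv_mem' := fun {a} ha => by
        show suMat a⁻¹ * g0 = g0 * suMat a⁻¹
        calc suMat a⁻¹ * g0 = suMat a⁻¹ * (g0 * (suMat a * suMat a⁻¹)) := by
              rw [← suMat_mul a, mul_inv_cancel, suMat_one, Matrix.mul_one]
          _ = suMat a⁻¹ * (suMat a * g0) * suMat a⁻¹ := by rw [ha]; simp only [Matrix.mul_assoc]
          _ = _ := by rw [← Matrix.mul_assoc, ← suMat_mul, inv_mul_cancel, suMat_one, Matrix.one_mul] }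
  have memC : ∀ k, x ^ k ∈ C ↔ g0 ^ Q ^ k = g0 := fun k => by
    show suMat (x ^ k) * g0 = g0 * suMat (x ^ k) ↔ _
    rw [← hiter k]
    constructor
    · intro e
      rw [e, Matrix.mul_assoc, ← suMat_mul, mul_inv_cancel, suMat_one, Matrix.mul_one]
    · intro e
      conv_rhs => rw [← e]
      rw [Matrix.mul_assoc _ (suMat (x ^ k)⁻¹), ← suMat_mul, inv_mul_cancel, suMat_one, Matrix.mul_one]
  have hx3 : x ^ 3 ∈ C := (memC 3).2 (by
    have := frobenius_period hh hg0
    rwa [hd] at this)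
  have hx1 : x ∉ C := fun hc => frobenius_ne hh hg0 (by omega)
    (by simpa using (memC 1).1 (by rwa [pow_one]))
  obtain ⟨e, m', hm', hord⟩ := Nat.exists_eq_pow_mul_and_not_dvd (orderOf_pos x).ne' 3 (by norm_num)
  set t := x ^ m' with ht
  have htN : t ∈ algNorm g0 := pow_mem hxN m'
  have htC : t ∉ C := fun hc => hx1 (by
    have hg : (Nat.gcd 3 m' : ℤ) = 1 := by exact_mod_cast (Nat.prime_three.coprime_iff_not_dvd).2 hm'
    rw [Nat.gcd_eq_gcd_ab] at hg
    rw [← zpow_one x, ← hg, _root_.zpow_add, _root_.zpow_mul, _root_.zpow_mul, zpow_natCast, zpow_natCast]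
    exact mul_mem (C.zpow_mem hx3 _) (C.zpow_mem hc _))
  have htp : suMat t ^ 3 ^ e = 1 := by
    rw [← Spec3.suMat_pow, ht, ← pow_mul, mul_comm, ← hord, pow_orderOf_eq_one, suMat_one]
  have hnil : (suMat t - 1) ^ 3 ^ e = 0 := by
    have : Fact (Nat.Prime 3) := ⟨Nat.prime_three⟩
    rw [sub_pow_char_pow_of_commute 3 _ (Commute.one_right _), htp, one_pow, sub_self]
  have h3 : (suMat t - 1) ^ 3 = 0 := by
    have hint := IsIntegral.of_finite F (suMat t - 1)
    have hdvd : minpoly F (suMat t - 1) ∣ (X : F[X]) ^ 3 ^ e := minpoly.dvd F _ (by simp [hnil])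
    obtain ⟨i, hi, hass⟩ := (dvd_prime_pow Polynomial.prime_X _).1 hdvd
    have heq : minpoly F (suMat t - 1) = X ^ i :=
      eq_of_monic_of_associated (minpoly.monic hint) (monic_X_pow i) hass
    have hi3 : i ≤ 3 := by
      have := natDegree_le_of_dvd (Matrix.minpoly_dvd_charpoly (suMat t - 1))
        (Matrix.charpoly_monic _).ne_zero
      rw [heq, natDegree_X_pow, Matrix.charpoly_natDegree_eq_dim, Fintype.card_fin] at this
      exact this
    have e1 := minpoly.aeval F (suMat t - 1)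
    rw [heq, map_pow, aeval_X] at e1
    exact pow_eq_zero_of_le hi3 e1
  refine ⟨t, htN, h3, fun h2 => htC ?_⟩
  suffices t = 1 by rw [this]; exact C.one_mem
  set T := Matrix.mulVecLin (suMat t - 1)
  have hker : 2 ≤ Module.finrank F (LinearMap.ker T) := by
    have h1 := LinearMap.finrank_range_add_finrank_ker T
    have hle : LinearMap.range T ≤ LinearMap.ker T := by
      rintro _ ⟨z, rfl⟩
      simp only [LinearMap.mem_ker, T, Matrix.mulVecLin_apply, mulVec_mulVec, ← pow_two, h2, zero_mulVec]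
    have := Submodule.finrank_mono hle
    simp at h1
    omega
  obtain ⟨v, hv, hv0⟩ := (Submodule.ne_bot_iff (LinearMap.ker T)).1 fun e0 => by
    rw [e0] at hker; simp at hker
  obtain ⟨w, hw, hwv⟩ : ∃ w ∈ LinearMap.ker T, w ∉ Submodule.span F {v} := by
    by_contra hc
    push Not at hc
    have := Submodule.finrank_mono (show LinearMap.ker T ≤ Submodule.span F {v} from hc)
    rw [finrank_span_singleton hv0] at this
    omega
  simp only [LinearMap.mem_ker, T, Matrix.mulVecLin_apply, sub_mulVec, one_mulVec, sub_eq_zero] at hv hw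
  exact fix_two hh hd hg0 htN hv0 hwv hv hw

/-- The clause for `PSU_3(3^a)`. -/
theorem twoCover {a : ℕ} (hq : q = 3 ^ a) (ha : 1 ≤ a) : TwoCover (PSU 3 F q) := by
  classical
  obtain ⟨γ, hγ⟩ := exists_irreducible hF hq ha
  set g0 := suMat γ with hg0def
  set h := g0.charpoly with hhdef
  have hd : h.natDegree = 3 := by rw [hhdef, Matrix.charpoly_natDegree_eq_dim, Fintype.card_fin]
  have hh : Irreducible h := irreducible_of_degree_le_three_of_not_isRoot (by rw [hd]; decide) hγ
  have hg0 : aeval g0 h = 0 := Matrix.aeval_self_charpoly g0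
  have hu0 : H51.adj hF g0 * g0 = 1 := Spec3.adj_suMat hF γ
  have h3q := pow_three_dvd hF hq ha
  have hle : q ≤ q ^ 2 := Nat.le_self_pow (by norm_num) q
  have hm : ∃ m : ℕ, (m : F) ≠ 0 ∧ g0 ^ m = 1 :=
    ⟨_, cast_torus_ne hF h3q, pow_irred hF hq ha γ hγ⟩
  have hq3 : (q + 1) * (q ^ 2 - q + 1) = q ^ 3 + 1 := Spec3.cyc_mul
  obtain ⟨t, htN, ht3, ht2⟩ := exists_mover hF hh hd hg0 hu0 hm
  let p : Fin 3 → F := Pi.single 0 1
  have hp : hermForm 3 F q p p = 1 := by simp [p, h_single_single hF]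
  have hH : subStab (Submodule.span F {p}) ≠ (⊤ : Subgroup (SU 3 F q)) := by
    intro htop
    obtain ⟨x, hx⟩ := exists_SU_of_sameGram hF (ι := Unit) (b := fun _ => p)
      (b' := fun _ => (Pi.single 1 1 : Fin 3 → F))
      (fun a ha => funext fun _ => by simpa [h_smul_left, hp] using ha ())
      (fun _ _ => hp.trans (by simp [h_single_single hF])) (by simp)
    have h1 := ((htop ▸ Subgroup.mem_top x : x ∈ subStab (Submodule.span F {p})) p).2
      (Submodule.mem_span_singleton_self p)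
    rw [hx ()] at h1
    obtain ⟨k, hk⟩ := Submodule.mem_span_singleton.1 h1
    simpa [p] using congrFun hk 1
  have hK : algNorm g0 ≠ (⊤ : Subgroup (SU 3 F q)) := by
    intro htop
    obtain ⟨e, f, hef⟩ := exists_hyp hF (n := 3) (by norm_num)
    obtain ⟨z, hzz, hze, hzf⟩ := exists_norm_one_perp_hyp hF le_rfl hef
    obtain ⟨c, hc0, hc⟩ := exists_trace_zero_ne_zero hF
    let y : SU 3 F q := mkSU (unitaryTransvection 3 q e c) (ut_isIso_isotropic hF hef.1 hc)
      (by rw [ut_det, hef.1, mul_zero, add_zero])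
    have hyM : suMat y = unitaryTransvection 3 q e c := rfl
    have hye : suMat y *ᵥ e = e := by rw [hyM, ut_mulVec, hef.1]; simp
    have hyz : suMat y *ᵥ z = z := by rw [hyM, ut_mulVec, hze]; simp
    have hz : z ∉ Submodule.span F {e} := fun hmem => by
      obtain ⟨k, hk⟩ := Submodule.mem_span_singleton.1 hmem
      have : k = 0 := by
        have := congrArg (fun w => hermForm 3 F q w f) hk
        simpa [h_smul_left, hef.2.2, hzf] using this
      rw [this, zero_smul] at hk
      exact one_ne_zero (α := F) (by rw [← hzz, ← hk, h_zero_left])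
    have hy := fix_two hh hd hg0 (htop ▸ Subgroup.mem_top y : y ∈ algNorm g0) (hef.fst_ne_zero hF) hz hye hyz
    have hyf := congrArg (fun x => suMat x *ᵥ f) hy
    simp only [hyM, ut_mulVec, suMat_one, one_mulVec, (hef.symm hF).2.2, mul_one, add_eq_left] at hyf
    exact (smul_eq_zero.1 hyf).elim hc0 (hef.fst_ne_zero hF)
  have hcent : Subgroup.center (SU 3 F q) ≤ algNorm g0 := by
    intro z hz
    obtain ⟨l, hl⟩ := (mem_center_iff_scalar hF (by norm_num)).1 hz
    refine mem_algNorm ?_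
    rw [show suMat z * g0 = g0 * suMat z by rw [hl]; simp, Matrix.mul_assoc, ← suMat_mul, mul_inv_cancel,
      suMat_one, Matrix.mul_one]
    exact Algebra.self_mem_adjoin_singleton F g0
  refine TwoCover.quotient _ _ _ hH hK (center_le_subStab hF (by norm_num) _) hcent fun g => ?_
  rcases trichotomy hF g with ⟨v, μ, hv, hgv⟩ | hr | ⟨hg3, hg2⟩
  · left
    obtain ⟨c, hc⟩ := exists_norm_eq hF (c := (hermForm 3 F q v v)⁻¹) (by rw [inv_pow, h_self_fixed hF])
    have hc0 : c ≠ 0 := fun e0 => by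
      rw [e0, zero_pow (by omega)] at hc
      exact hv (inv_eq_zero.1 hc.symm)
    have hvc : hermForm 3 F q (c • v) (c • v) = 1 := by
      rw [h_smul_left, h_smul_right hF, ← mul_assoc, ← pow_succ', hc, inv_mul_cancel₀ hv]
    obtain ⟨x, hx⟩ := exists_SU_of_sameGram hF (ι := Unit) (b := fun _ => c • v) (b' := fun _ => p)
      (fun a ha => funext fun _ => by simpa [h_smul_left, hvc] using ha ())
      (fun _ _ => hvc.trans hp.symm) (by simp)
    refine ⟨x, conj_mem_subStab hF (W := Submodule.span F {c • v}) (fun w hw => ?_) ?_⟩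
    · obtain ⟨k, rfl⟩ := Submodule.mem_span_singleton.1 hw
      rw [mulVec_smul, mulVec_smul, hgv, smul_smul c μ, mul_comm c μ, ← smul_smul μ c]
      exact Submodule.smul_mem _ _ (Submodule.smul_mem _ _ (Submodule.mem_span_singleton_self _))
    · rw [Submodule.map_span, Set.image_singleton, Matrix.mulVecLin_apply, hx ()]
  · right
    have hP : Irreducible (suMat g).charpoly := irreducible_of_degree_le_three_of_not_isRoot
      (by rw [Matrix.charpoly_natDegree_eq_dim, Fintype.card_fin]; decide) hr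
    obtain ⟨r, hrh⟩ := exists_root_polynomial (suMat g) hh fun f hf hfm hfd => by
      rw [hd, natDegree_eq_of_degree_eq (degree_eq_degree_of_associated
        (hf.associated_of_dvd hP (hfd.trans (Matrix.minpoly_dvd_charpoly _)))),
        Matrix.charpoly_natDegree_eq_dim, Fintype.card_fin]
    have hgq : suMat g ^ (q ^ 3 + 1) = 1 := by
      rw [← hq3, mul_comm, pow_mul, pow_irred hF hq ha g hr, one_pow]
    have hgadj : H51.adj hF (suMat g) = suMat g ^ q ^ 3 :=
      left_inv_eq_right_inv (Spec3.adj_suMat hF g) (by rw [← pow_succ', hgq])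
    have hhdvd : h ∣ X ^ (q ^ 3 + 1) - 1 := by
      have hv : (Pi.single 0 1 : Fin 3 → F) ≠ 0 := by simp
      refine (eval_mulVec_eq_zero hh hg0 hv ?_).1
      rw [map_sub, map_pow, aeval_X, map_one, ← hq3, mul_comm, pow_mul, pow_irred hF hq ha γ hγ, one_pow,
        sub_self, zero_mulVec]
    have hrU : H51.adj hF (aeval (suMat g) r) * aeval (suMat g) r = 1 := by
      rw [adj_aeval hF hgadj, ← pow_succ]
      obtain ⟨s, hs⟩ := hhdvd
      have e := congrArg (aeval (aeval (suMat g) r)) hs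
      rwa [map_mul, hrh, zero_mul, map_sub, map_pow, aeval_X, map_one, sub_eq_zero] at e
    obtain ⟨P, hPd, hP'⟩ := exists_conj_det hh hrh hg0 (1 : F)
    obtain ⟨u, hu, hu'⟩ := gu_conj hF hrU hu0 (by rw [hPd]; exact one_ne_zero) hP'
    obtain ⟨x, s, s', hss, hsc, hx⟩ := exists_su_conj hF hu0 hm hu hu'
    rw [hsc, Matrix.mul_assoc g0 s s', mul_eq_one_comm.1 hss, Matrix.mul_one] at hx
    refine ⟨x, mem_algNorm ?_⟩
    have hcomm : Commute (suMat g) (aeval (suMat g) r) :=
      Algebra.commute_of_mem_adjoin_self (aeval_mem_adjoin_singleton F (suMat g) (p := r))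
    have h1 : suMat x⁻¹ * suMat x = 1 := by rw [← suMat_mul, inv_mul_cancel, suMat_one]
    have h2 : suMat x * suMat x⁻¹ = 1 := by rw [← suMat_mul, mul_inv_cancel, suMat_one]
    have e : suMat (x * g * x⁻¹) * g0 * suMat (x * g * x⁻¹)⁻¹ = g0 := by
      have hgg : suMat g * suMat g⁻¹ = 1 := by rw [← suMat_mul, mul_inv_cancel, suMat_one]
      rw [show (x * g * x⁻¹)⁻¹ = x * g⁻¹ * x⁻¹ by group, suMat_mul, suMat_mul, suMat_mul, suMat_mul]
      conv_lhs => rw [← hx]
      calc _ = suMat x * (suMat g * (suMat x⁻¹ * suMat x) * aeval (suMat g) r * (suMat x⁻¹ * suMat x) *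
            suMat g⁻¹) * suMat x⁻¹ := by simp only [Matrix.mul_assoc]
        _ = suMat x * (aeval (suMat g) r * (suMat g * suMat g⁻¹)) * suMat x⁻¹ := by
          rw [h1, Matrix.mul_one, Matrix.mul_one, hcomm.eq, Matrix.mul_assoc (aeval (suMat g) r)]
        _ = _ := by rw [hgg, Matrix.mul_one, hx]
    rw [e]
    exact Algebra.self_mem_adjoin_singleton F g0
  · right
    obtain ⟨P1, hP1, h1⟩ := regular_basis hF hg3 hg2
    obtain ⟨P2, hP2, h2⟩ := regular_basis hF ht3 ht2
    have hinv : P1 * P1⁻¹ = 1 := Matrix.mul_nonsing_inv P1 (IsUnit.mk0 _ hP1)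
    have hinv' : P1⁻¹ * P1 = 1 := Matrix.nonsing_inv_mul P1 (IsUnit.mk0 _ hP1)
    have hPAB : P2 * P1⁻¹ * suMat g = suMat t * (P2 * P1⁻¹) := by
      rw [← Matrix.mul_assoc (suMat t), h2]
      calc P2 * P1⁻¹ * suMat g = P2 * P1⁻¹ * (suMat g * P1) * P1⁻¹ := by
            simp only [Matrix.mul_assoc, hinv, Matrix.mul_one]
        _ = P2 * (P1⁻¹ * P1) * !![1, 0, 0; 1, 1, 0; 0, 1, 1] * P1⁻¹ := by
            rw [h1]; simp only [Matrix.mul_assoc]
        _ = _ := by rw [hinv', Matrix.mul_one]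
    obtain ⟨u, hu, hu'⟩ := gu_conj hF (Spec3.adj_suMat hF g) (Spec3.adj_suMat hF t)
      (by rw [det_mul]; exact mul_ne_zero hP2 (fun e0 => by
        have := congrArg Matrix.det hinv; rw [det_mul, e0, mul_zero, det_one] at this
        exact zero_ne_one this)) hPAB
    obtain ⟨x, s, s', hss, hsc, hx⟩ := exists_su_conj hF hu0 hm hu hu'
    refine ⟨x, mem_algNorm ?_⟩
    have hss' : s * s' = 1 := mul_eq_one_comm.1 hss
    have hx' : suMat (x * g * x⁻¹) = s * suMat t * s' := by rw [suMat_mul, suMat_mul, hx]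
    have hxi : suMat (x * g * x⁻¹)⁻¹ = s * suMat t⁻¹ * s' := by
      refine left_inv_eq_right_inv (a := suMat (x * g * x⁻¹)) (by rw [← suMat_mul, inv_mul_cancel, suMat_one]) ?_
      rw [hx']
      calc s * suMat t * s' * (s * suMat t⁻¹ * s') = s * suMat t * (s' * s) * suMat t⁻¹ * s' := by
            simp only [Matrix.mul_assoc]
        _ = _ := by rw [hss, Matrix.mul_one, Matrix.mul_assoc s, ← suMat_mul, mul_inv_cancel, suMat_one,
            Matrix.mul_one, hss']
    rw [hx', hxi]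
    have hcs : s' * g0 = g0 * s' := by
      calc s' * g0 = s' * (g0 * (s * s')) := by rw [hss', Matrix.mul_one]
        _ = s' * (s * g0) * s' := by rw [hsc]; simp only [Matrix.mul_assoc]
        _ = _ := by rw [← Matrix.mul_assoc, hss, Matrix.one_mul]
    obtain ⟨R, hR⟩ : ∃ R : F[X], aeval g0 R = suMat t * g0 * suMat t⁻¹ := by
      have := (htN g0).2 (Algebra.self_mem_adjoin_singleton F g0)
      rwa [Algebra.adjoin_singleton_eq_range_aeval] at this
    have hsR : s * aeval g0 R = aeval g0 R * s := by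
      have : Commute s g0 := hsc
      exact (commute_aeval_of_commute hF this R).eq
    have : s * suMat t * s' * g0 * (s * suMat t⁻¹ * s') = aeval g0 R := by
      calc _ = s * suMat t * (s' * g0) * s * suMat t⁻¹ * s' := by simp only [Matrix.mul_assoc]
        _ = s * (suMat t * g0 * (s' * s) * suMat t⁻¹) * s' := by rw [hcs]; simp only [Matrix.mul_assoc]
        _ = _ := by rw [hss, Matrix.mul_one, ← hR, hsR, Matrix.mul_assoc, hss', Matrix.mul_one]
    rw [this]
    exact aeval_mem_adjoin_singleton F g0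

end H2.Cover.SU3
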