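import Cfsg.Agent.H51.Witt
import Cfsg.Agent.H2.Cover.SUBase

/-!
`PSU_4` is covered by the conjugates of the stabiliser of a non-isotropic point and of a totally isotropic plane.
-/

set_option autoImplicit false
set_option linter.unusedSectionVars false

namespace H2.Cover.SU4

open H50 Matrix Polynomial Cfsg H2.Cover.SUC

variable {F : Type*} [Field F] [Fintype F] {q : ℕ} (hF : Fintype.card F = q ^ 2)
variable {g : Matrix (Fin 4) (Fin 4) F}

/-- A non-isotropic eigenvector. -/
def AnisoEigen (q : ℕ) (g : Matrix (Fin 4) (Fin 4) F) : Prop :=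
  ∃ (v : Fin 4 → F) (μ : F), hermForm 4 F q v v ≠ 0 ∧ g *ᵥ v = μ • v

/-- An invariant totally isotropic plane. -/
def IsoPlane (q : ℕ) (g : Matrix (Fin 4) (Fin 4) F) : Prop :=
  ∃ e : Fin 2 → Fin 4 → F, LinearIndependent F e ∧ (∀ i j, hermForm 4 F q (e i) (e j) = 0) ∧
    ∀ i, g *ᵥ e i ∈ Submodule.span F (Set.range e)

include hF

theorem isoPlane_pair {a b : Fin 4 → F} (ha : a ≠ 0) (hb : b ∉ Submodule.span F {a})
    (haa : hermForm 4 F q a a = 0) (hbb : hermForm 4 F q b b = 0) (hba : hermForm 4 F q b a = 0)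
    (hga : g *ᵥ a ∈ Submodule.span F {a, b}) (hgb : g *ᵥ b ∈ Submodule.span F {a, b}) : IsoPlane q g := by
  have hr : Set.range ![a, b] = {a, b} := by simp [Matrix.range_cons, Set.pair_comm]
  refine ⟨![a, b], ?_, ?_, ?_⟩
  · rw [LinearIndependent.pair_iff]
    intro s t h
    have ht : t = 0 := by
      by_contra ht
      refine hb (Submodule.mem_span_singleton.2 ⟨-(s / t), ?_⟩)
      have h1 : b = (-(s / t)) • a + t⁻¹ • (s • a + t • b) := by
        rw [smul_add, smul_smul, smul_smul, inv_mul_cancel₀ ht, one_smul, ← add_assoc, ← add_smul]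
        simp [div_eq_inv_mul]
      rw [h, smul_zero, add_zero] at h1
      exact h1.symm
    rw [ht, zero_smul, add_zero] at h
    exact ⟨(smul_eq_zero.1 h).resolve_right ha, ht⟩
  · intro i j
    fin_cases i <;> fin_cases j <;> simp [haa, hbb, hba, (h_eq_zero_comm hF).1 hba]
  · intro i
    rw [hr]
    fin_cases i <;> assumption

theorem isoPlane_of_factor (hg : IsIso q g) {f : F[X]} (hf : Irreducible f) (hm : f.Monic)
    (hd : f.natDegree = 2) {x : Fin 4 → F} (hx : x ≠ 0) (hfx : aeval g f *ᵥ x = 0) : IsoPlane q g := by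
  have hiso := kerPoly_isotropic hF hg hf (by rw [hd]; exact even_two)
  have hx1 : g *ᵥ (g *ᵥ x) = -(f.coeff 1) • (g *ᵥ x) + -(f.coeff 0) • x := by
    have e := hfx
    rw [aeval_eq_sum_range, hd] at e
    simp only [Finset.sum_range_succ, Finset.sum_range_zero, zero_add, pow_zero, pow_one,
      show f.coeff 2 = 1 by rw [← hd]; exact hm, one_smul, add_mulVec, smul_mulVec, one_mulVec,
      pow_two, ← mulVec_mulVec] at e
    linear_combination (norm := module) e
  have hgx : aeval g f *ᵥ (g *ᵥ x) = 0 := by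
    rw [mulVec_mulVec, ← (Algebra.commute_of_mem_adjoin_self (aeval_mem_adjoin_singleton F g (p := f))).eq,
      ← mulVec_mulVec, hfx, mulVec_zero]
  have mk : ∀ y, aeval g f *ᵥ y = 0 → y ∈ LinearMap.ker (Matrix.mulVecLin (aeval g f)) := fun y hy => by
    simpa using hy
  refine isoPlane_pair hF (a := x) (b := g *ᵥ x) hx ?_ (hiso x (mk _ hfx) x (mk _ hfx))
    (hiso _ (mk _ hgx) _ (mk _ hgx)) (hiso _ (mk _ hgx) x (mk _ hfx)) (Submodule.subset_span (by simp)) ?_
  · intro h
    obtain ⟨μ, hμ⟩ := Submodule.mem_span_singleton.1 h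
    have hroot : f.IsRoot μ := by
      rw [← hμ, mulVec_smul, ← hμ, smul_smul, smul_smul, ← add_smul] at hx1
      have h0 : (μ * μ - (-f.coeff 1 * μ + -f.coeff 0)) • x = 0 := by rw [sub_smul, sub_eq_zero]; exact hx1
      have h1 := (smul_eq_zero.1 h0).resolve_right hx
      rw [IsRoot, eval_eq_sum_range, hd]
      simp only [Finset.sum_range_succ, Finset.sum_range_zero, show f.coeff 2 = 1 by rw [← hd]; exact hm]
      linear_combination h1
    have h2 := degree_eq_one_of_irreducible_of_root hf hroot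
    rw [degree_eq_natDegree hf.ne_zero, hd] at h2
    norm_num at h2
  · rw [hx1]
    exact add_mem (Submodule.smul_mem _ _ (Submodule.subset_span (by simp)))
      (Submodule.smul_mem _ _ (Submodule.subset_span (by simp)))

omit hF in
theorem eigen_of_root {μ : F} (h : g.charpoly.IsRoot μ) : ∃ v ≠ 0, g *ᵥ v = μ • v := by
  rw [IsRoot, Matrix.eval_charpoly] at h
  obtain ⟨v, hv, hgv⟩ := Matrix.exists_mulVec_eq_zero_iff.2 h
  rw [sub_mulVec, sub_eq_zero] at hgv
  exact ⟨v, hv, by rw [← hgv]; simp⟩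

theorem plane_of_no_eigen (hg : IsIso q g) (hno : ¬ ∃ v ≠ 0, ∃ μ : F, g *ᵥ v = μ • v) : IsoPlane q g := by
  have hdeg : 0 < (minpoly F g).natDegree := minpoly.natDegree_pos (IsIntegral.of_finite F g)
  obtain ⟨f, hm, hf, hfd⟩ := exists_monic_irreducible_factor _ (not_isUnit_of_natDegree_pos _ hdeg)
  obtain ⟨r, hr⟩ := hfd
  have hm0 := minpoly.ne_zero (IsIntegral.of_finite F g)
  have hr0 : r ≠ 0 := fun e => hm0 (by rw [hr, e, mul_zero])
  have hrg : aeval g r ≠ 0 := fun e => by
    have := natDegree_le_of_dvd (minpoly.dvd F g e) hr0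
    rw [hr, natDegree_mul hf.ne_zero hr0] at this
    have := hf.natDegree_pos
    omega
  obtain ⟨y, hy⟩ : ∃ y, aeval g r *ᵥ y ≠ 0 := by
    by_contra hc
    push Not at hc
    exact hrg (Matrix.ext_iff_mulVec.2 fun v => by rw [hc, zero_mulVec])
  have hfx : aeval g f *ᵥ (aeval g r *ᵥ y) = 0 := by
    rw [mulVec_mulVec, ← map_mul, ← hr, minpoly.aeval, zero_mulVec]
  obtain ⟨s, hs⟩ : f ∣ g.charpoly := (Dvd.intro r hr.symm).trans g.minpoly_dvd_charpoly
  have hs0 : s ≠ 0 := fun e => g.charpoly_monic.ne_zero (by rw [hs, e, mul_zero])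
  have hsd := congrArg natDegree hs
  rw [natDegree_mul hf.ne_zero hs0, Matrix.charpoly_natDegree_eq_dim, Fintype.card_fin] at hsd
  have hroot : ∀ p : F[X], p ∣ g.charpoly → p.natDegree ≠ 1 := fun p hp h1 => by
    obtain ⟨μ, hμ⟩ := Polynomial.exists_root_of_degree_eq_one
      ((Polynomial.degree_eq_iff_natDegree_eq_of_pos one_pos).2 h1)
    obtain ⟨v, hv, hgv⟩ := eigen_of_root (hμ.dvd hp)
    exact hno ⟨v, hv, μ, hgv⟩
  have h1 := hroot f ⟨s, hs⟩
  have h3 := hroot s ⟨f, by rw [hs, mul_comm]⟩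
  have := hf.natDegree_pos
  rcases (by omega : f.natDegree = 2 ∨ f.natDegree = 4) with hd | hd
  · exact isoPlane_of_factor hF hg hf hm hd hy hfx
  · exfalso
    have hev : Even f.natDegree := by rw [hd]; decide
    have hmf : minpoly F g = f := by
      have hle := natDegree_le_of_dvd g.minpoly_dvd_charpoly g.charpoly_monic.ne_zero
      rw [Matrix.charpoly_natDegree_eq_dim, Fintype.card_fin, hr, natDegree_mul hf.ne_zero hr0, hd] at hle
      exact (eq_of_monic_of_dvd_of_natDegree_le hm (minpoly.monic (IsIntegral.of_finite F g))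
        ⟨r, hr⟩ (by rw [hr, natDegree_mul hf.ne_zero hr0]; omega))
    refine not_dvd_conjRefl hF hf hev ?_
    refine hmf ▸ minpoly.dvd F g (Matrix.ext_iff_mulVec.2 fun x => ?_)
    rw [zero_mulVec]
    refine eq_zero_of_h_left hF fun z => ?_
    obtain ⟨y', -, rfl⟩ := exists_preimage hF hg (W := ⊤) (fun _ _ => Submodule.mem_top)
      f.natDegree (y := z) Submodule.mem_top
    rw [hmf, h_conjRefl hF hg le_rfl, ← hmf, minpoly.aeval, zero_mulVec, h_zero_right hF]

theorem exists_third {v u : Fin 4 → F} {P : Submodule F (Fin 4 → F)} (hP : Module.finrank F P = 3)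
    (hv : v ∈ P) (hu : u ∈ P) (hv0 : v ≠ 0) (huv : u ∉ Submodule.span F {v}) :
    ∃ w ∈ P, w ∉ Submodule.span F {v, u} ∧ ∀ z ∈ P, ∃ a b c : F, z = a • v + b • u + c • w := by
  classical
  set S := Submodule.span F ({v, u} : Set (Fin 4 → F))
  have hS : Module.finrank F S ≤ 2 := by
    refine (finrank_span_le_card (R := F) ({v, u} : Set (Fin 4 → F))).trans ?_
    simpa using Finset.card_le_two
  obtain ⟨w, hw, hwS⟩ : ∃ w ∈ P, w ∉ S := by
    by_contra hc
    push Not at hc
    have := Submodule.finrank_mono (show P ≤ S from hc)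
    omega
  refine ⟨w, hw, hwS, fun z hz => ?_⟩
  have hli : LinearIndependent F ![v, u, w] := by
    rw [Fintype.linearIndependent_iff]
    intro c hc
    simp [Fin.sum_univ_three] at hc
    have h2 : c 2 = 0 := by
      by_contra h2
      refine hwS ?_
      have : w = (-(c 0) / c 2) • v + (-(c 1) / c 2) • u +
          (c 2)⁻¹ • (c 0 • v + c 1 • u + c 2 • w) := by
        simp only [smul_add, smul_smul, inv_mul_cancel₀ h2, one_smul, div_eq_inv_mul, mul_neg, neg_smul]
        module
      rw [this, hc, smul_zero, add_zero]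
      exact add_mem (Submodule.smul_mem _ _ (Submodule.subset_span (by simp)))
        (Submodule.smul_mem _ _ (Submodule.subset_span (by simp)))
    rw [h2, zero_smul, add_zero] at hc
    have h1 : c 1 = 0 := by
      by_contra h1
      refine huv (Submodule.mem_span_singleton.2 ⟨-(c 0) / c 1, ?_⟩)
      have : u = (-(c 0) / c 1) • v + (c 1)⁻¹ • (c 0 • v + c 1 • u) := by
        simp only [smul_add, smul_smul, inv_mul_cancel₀ h1, one_smul, div_eq_inv_mul, mul_neg, neg_smul]
        module
      rw [hc, smul_zero, add_zero] at this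
      exact this.symm
    rw [h1, zero_smul, add_zero] at hc
    intro i
    fin_cases i
    · exact (smul_eq_zero.1 hc).resolve_right hv0
    · exact h1
    · exact h2
  have hle : Submodule.span F (Set.range ![v, u, w]) ≤ P := by
    rw [Submodule.span_le]
    rintro _ ⟨i, rfl⟩
    fin_cases i <;> assumption
  have heq := Submodule.eq_of_le_of_finrank_eq hle (by rw [finrank_span_eq_card hli, hP]; simp)
  rw [← heq] at hz
  obtain ⟨c, hc⟩ := (Submodule.mem_span_range_iff_exists_fun F).1 hz
  exact ⟨c 0, c 1, c 2, by rw [← hc]; simp [Fin.sum_univ_three]⟩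

theorem aniso_eigen_shift {v u : Fin 4 → F} {μ r s : F} (hv : g *ᵥ v = μ • v) (hvv : hermForm 4 F q v v = 0)
    (huv : hermForm 4 F q u v = 0) (hu : g *ᵥ u = r • u + s • v) (hr : r ≠ μ)
    (huu : hermForm 4 F q u u ≠ 0) : AnisoEigen q g := by
  refine ⟨u + (s / (r - μ)) • v, r, ?_, ?_⟩
  · simpa [h_add_left, h_add_right hF, h_smul_left, h_smul_right hF, hvv, huv, (h_eq_zero_comm hF).1 huv]
      using huu
  · have hr' : r - μ ≠ 0 := sub_ne_zero.2 hr
    have e : r * (s / (r - μ)) = s + s / (r - μ) * μ := by field_simp; ring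
    rw [mulVec_add, mulVec_smul, hu, hv, smul_smul, smul_add, smul_smul, e, add_smul, add_assoc]

theorem dichotomy (hg : IsIso q g) : AnisoEigen q g ∨ IsoPlane q g := by
  by_cases hex : ∃ v ≠ 0, ∃ μ : F, g *ᵥ v = μ • v
  swap
  · exact Or.inr (plane_of_no_eigen hF hg hex)
  obtain ⟨v, hv0, μ, hμv⟩ := hex
  by_cases hvv : hermForm 4 F q v v = 0
  swap
  · exact Or.inl ⟨v, μ, hvv, hμv⟩
  have hμ0 : μ ≠ 0 := fun e => hv0 (hg.injective hF (by simp [hμv, e]))
  set P := perp q (Set.range (fun _ : Unit => v)) with hPdef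
  have hP : Module.finrank F P = 3 := by
    have := finrank_perp_range hF (linearIndependent_single_vec hF hv0)
    simp only [Fintype.card_unit] at this
    rw [hPdef]
    omega
  have memP : ∀ z, z ∈ P ↔ hermForm 4 F q z v = 0 := fun z => by rw [hPdef, mem_perp_range]; simp
  have hgP : ∀ z ∈ P, g *ᵥ z ∈ P := by
    intro z hz
    rw [memP] at hz ⊢
    have h1 := hg z v
    rw [hμv, h_smul_right hF, hz] at h1
    exact (mul_eq_zero.1 h1).resolve_left (pow_ne_zero _ hμ0)
  have hvP : v ∈ P := (memP v).2 hvv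
  obtain ⟨u, huP, huv⟩ : ∃ u ∈ P, u ∉ Submodule.span F {v} := by
    by_contra hc
    push Not at hc
    have := Submodule.finrank_mono (show P ≤ Submodule.span F {v} from hc)
    rw [finrank_span_singleton hv0] at this
    omega
  obtain ⟨w, hwP, hwS, hspan⟩ := exists_third hF hP hvP huP hv0 huv
  obtain ⟨e₁, a, c, hgu⟩ := hspan _ (hgP u huP)
  obtain ⟨e₂, b, d, hgw⟩ := hspan _ (hgP w hwP)
  by_cases hroot : ∃ r : F, r ^ 2 - (a + d) * r + (a * d - b * c) = 0
  swap
  · -- irreducible action on the quotient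
    refine Or.inr ?_
    set p : F[X] := X ^ 2 - C (a + d) * X + C (a * d - b * c) with hp
    have hpd : p.natDegree = 2 := by rw [hp]; compute_degree!
    have hpm : p.Monic := by rw [hp]; monicity!
    have hpe : ∀ r, p.eval r = r ^ 2 - (a + d) * r + (a * d - b * c) := fun r => by simp [hp]
    have hpr : ∀ r, ¬ p.IsRoot r := fun r hr => hroot ⟨r, by rw [← hpe]; exact hr⟩
    have hpi : Irreducible p := by
      rw [Polynomial.irreducible_iff_roots_eq_zero_of_degree_le_three (by omega) (by omega)]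
      exact Multiset.eq_zero_of_forall_notMem fun r hr => hpr r (isRoot_of_mem_roots hr)
    have haev : ∀ z, aeval g p *ᵥ z = g *ᵥ (g *ᵥ z) - (a + d) • (g *ᵥ z) + (a * d - b * c) • z := fun z => by
      simp [hp, map_sub, map_mul, aeval_C, Algebra.algebraMap_eq_smul_one, sub_mulVec, add_mulVec,
        smul_mulVec, pow_two, ← mulVec_mulVec]
      module
    set k := e₁ * μ + a * e₁ + c * e₂ - (a + d) * e₁
    have hpu : aeval g p *ᵥ u = k • v := by
      rw [haev, hgu, mulVec_add, mulVec_add, mulVec_smul, mulVec_smul, mulVec_smul, hμv, hgu, hgw]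
      simp only [k]
      module
    have hpv : aeval g p *ᵥ v = p.eval μ • v := by
      rw [haev, hμv, mulVec_smul, hμv, hpe]
      module
    refine isoPlane_of_factor hF hg hpi hpm hpd (x := u + (-k / p.eval μ) • v) (fun h => huv ?_) ?_
    · rw [Submodule.mem_span_singleton]
      exact ⟨k / p.eval μ, by rw [eq_neg_of_add_eq_zero_left h, neg_div, neg_smul, neg_neg]⟩
    · rw [mulVec_add, mulVec_smul, hpu, hpv, smul_smul, ← add_smul]
      rw [div_mul_cancel₀ _ (hpr μ), add_neg_cancel, zero_smul]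
  obtain ⟨r, hr⟩ := hroot
  obtain ⟨xy, hxy, hxy'⟩ := Matrix.exists_mulVec_eq_zero_iff.2
    (show (!![a - r, b; c, d - r]).det = 0 by rw [det_fin_two_of]; linear_combination hr)
  set u' := xy 0 • u + xy 1 • w with hu'
  have hu'P : u' ∈ P := add_mem (P.smul_mem _ huP) (P.smul_mem _ hwP)
  have hu'v : u' ∉ Submodule.span F {v} := by
    intro h
    obtain ⟨s, hs⟩ := Submodule.mem_span_singleton.1 h
    by_cases h1 : xy 1 = 0
    · have h0 : xy 0 ≠ 0 := fun h0 => hxy (funext fun i => by fin_cases i <;> assumption)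
      rw [hu', h1, zero_smul, add_zero] at hs
      refine huv (Submodule.mem_span_singleton.2 ⟨(xy 0)⁻¹ * s, ?_⟩)
      rw [← smul_smul, hs, inv_smul_smul₀ h0]
    · refine hwS ?_
      have : w = ((xy 1)⁻¹ * s) • v + (-((xy 1)⁻¹ * xy 0)) • u := by
        rw [← smul_smul _ s, hs, hu', smul_add, inv_smul_smul₀ h1, smul_smul]
        module
      rw [this]
      exact add_mem (Submodule.smul_mem _ _ (Submodule.subset_span (by simp)))
        (Submodule.smul_mem _ _ (Submodule.subset_span (by simp)))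
  set s := xy 0 * e₁ + xy 1 * e₂
  have hgu' : g *ᵥ u' = r • u' + s • v := by
    have h0 := congrFun hxy' 0
    have h1 := congrFun hxy' 1
    simp [Matrix.vecHead, Matrix.vecTail] at h0 h1
    rw [hu', mulVec_add, mulVec_smul, mulVec_smul, hgu, hgw]
    have e0 : xy 0 * a + xy 1 * b = r * xy 0 := by linear_combination h0
    have e1 : xy 0 * c + xy 1 * d = r * xy 1 := by linear_combination h1
    calc _ = (xy 0 * a + xy 1 * b) • u + (xy 0 * c + xy 1 * d) • w + s • v := by simp only [s]; module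
      _ = _ := by rw [e0, e1]; module
  have hu'v' := (memP u').1 hu'P
  by_cases huu : hermForm 4 F q u' u' = 0
  · refine Or.inr (isoPlane_pair hF hv0 hu'v hvv huu hu'v' ?_ ?_)
    · rw [hμv]; exact Submodule.smul_mem _ _ (Submodule.subset_span (by simp))
    · rw [hgu']; exact add_mem (Submodule.smul_mem _ _ (Submodule.subset_span (by simp)))
        (Submodule.smul_mem _ _ (Submodule.subset_span (by simp)))
  by_cases hrμ : r = μ
  swap
  · exact Or.inl (aniso_eigen_shift hF hμv hvv hu'v' hgu' hrμ huu)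
  subst hrμ
  obtain ⟨y, hyP, hyS, -⟩ := exists_third hF hP hvP hu'P hv0 hu'v
  set t := hermForm 4 F q y u' / hermForm 4 F q u' u' with ht
  set w' := y - t • u' with hw'
  have hw'P : w' ∈ P := sub_mem hyP (P.smul_mem _ hu'P)
  have hw'u : hermForm 4 F q w' u' = 0 := by
    rw [hw', h_sub_left, h_smul_left, ht, div_mul_cancel₀ _ huu, sub_self]
  have hw'v := (memP w').1 hw'P
  have hw'S : ∀ α β : F, w' ≠ α • v + β • u' := fun α β h => hyS (by
    have : y = α • v + (β + t) • u' := by rw [add_smul, ← add_assoc, ← h, hw']; abel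
    rw [this]
    exact add_mem (Submodule.smul_mem _ _ (Submodule.subset_span (by simp)))
      (Submodule.smul_mem _ _ (Submodule.subset_span (by simp))))
  obtain ⟨w₂, -, hw₂S, hspan₂⟩ := exists_third hF hP hvP hu'P hv0 hu'v
  have hw'span : ∀ z ∈ P, ∃ α β γ : F, z = α • v + β • u' + γ • w' := by
    obtain ⟨α₀, β₀, γ₀, h0⟩ := hspan₂ w' hw'P
    have hγ : γ₀ ≠ 0 := fun e => hw'S α₀ β₀ (by rw [h0, e, zero_smul, add_zero])
    have hw₂ : w₂ = (-(γ₀⁻¹ * α₀)) • v + (-(γ₀⁻¹ * β₀)) • u' + γ₀⁻¹ • w' := by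
      rw [h0, smul_add, smul_add, inv_smul_smul₀ hγ, smul_smul, smul_smul]
      module
    intro z hz
    obtain ⟨α, β, γ, h⟩ := hspan₂ z hz
    exact ⟨α + γ * -(γ₀⁻¹ * α₀), β + γ * -(γ₀⁻¹ * β₀), γ * γ₀⁻¹, by rw [h, hw₂]; module⟩
  obtain ⟨c', σ, ρ, hgw'⟩ := hw'span _ (hgP w' hw'P)
  have hσ : σ = 0 := by
    have h1 := hg w' u'
    rw [hgu', hw'u, h_add_right hF, h_smul_right hF, h_smul_right hF] at h1
    rw [(memP _).1 (hgP w' hw'P), mul_zero, add_zero] at h1
    have h2 := (mul_eq_zero.1 h1).resolve_left (pow_ne_zero _ hμ0)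
    rw [hgw', h_add_left, h_add_left, h_smul_left, h_smul_left, h_smul_left, hw'u,
      (h_eq_zero_comm hF).1 hu'v', mul_zero, mul_zero, zero_add, add_zero] at h2
    exact (mul_eq_zero.1 h2).resolve_right huu
  rw [hσ, zero_smul, add_zero, add_comm] at hgw'
  have hw'nv : w' ∉ Submodule.span F {v} := fun h => by
    obtain ⟨α, hα⟩ := Submodule.mem_span_singleton.1 h
    exact hw'S α 0 (by rw [zero_smul, add_zero, hα])
  by_cases hww : hermForm 4 F q w' w' = 0
  · refine Or.inr (isoPlane_pair hF hv0 hw'nv hvv hww hw'v ?_ ?_)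
    · rw [hμv]; exact Submodule.smul_mem _ _ (Submodule.subset_span (by simp))
    · rw [hgw']; exact add_mem (Submodule.smul_mem _ _ (Submodule.subset_span (by simp)))
        (Submodule.smul_mem _ _ (Submodule.subset_span (by simp)))
  by_cases hρ : ρ = r
  swap
  · exact Or.inl (aniso_eigen_shift hF hμv hvv hw'v hgw' hρ hww)
  subst hρ
  obtain ⟨τ, hτ⟩ := exists_norm_eq hF (c := -(hermForm 4 F q u' u') / hermForm 4 F q w' w')
    (by rw [div_pow, neg_pow_q hF, h_self_fixed hF, h_self_fixed hF])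
  set x := u' + τ • w' with hxdef
  have hxx : hermForm 4 F q x x = 0 := by
    rw [hxdef]
    simp only [h_add_left, h_add_right hF, h_smul_left, h_smul_right hF, hw'u,
      (h_eq_zero_comm hF).1 hw'u]
    have hτ' : τ ^ (q + 1) * hermForm 4 F q w' w' = -hermForm 4 F q u' u' := by
      rw [hτ, div_mul_cancel₀ _ hww]
    rw [pow_succ] at hτ'
    linear_combination hτ'
  refine Or.inr (isoPlane_pair hF hv0 (b := x) ?_ hvv hxx ?_ ?_ ?_)
  · intro h
    obtain ⟨α, hα⟩ := Submodule.mem_span_singleton.1 h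
    by_cases hτ0 : τ = 0
    · rw [hxdef, hτ0, zero_smul, add_zero] at hα
      exact hu'v (Submodule.mem_span_singleton.2 ⟨α, hα⟩)
    · refine hw'S (τ⁻¹ * α) (-τ⁻¹) ?_
      rw [← smul_smul, hα, hxdef, smul_add, inv_smul_smul₀ hτ0]
      module
  · rw [hxdef, h_add_left, h_smul_left, hu'v', hw'v, mul_zero, add_zero]
  · rw [hμv]; exact Submodule.smul_mem _ _ (Submodule.subset_span (by simp))
  · have : g *ᵥ x = ρ • x + (s + τ * c') • v := by
      rw [hxdef, mulVec_add, mulVec_smul, hgu', hgw']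
      module
    rw [this]
    exact add_mem (Submodule.smul_mem _ _ (Submodule.subset_span (by simp)))
      (Submodule.smul_mem _ _ (Submodule.subset_span (by simp)))

/-- An isometry stabilising the span of a totally isotropic pair with any determinant of norm one. -/
theorem exists_det_fix {e : Fin 2 → Fin 4 → F} (he : LinearIndependent F e)
    (hee : ∀ i j, hermForm 4 F q (e i) (e j) = 0) {δ : F} (hδ : δ ^ (q + 1) = 1) :
    ∃ D : Matrix (Fin 4) (Fin 4) F, IsIso q D ∧ D.det = δ ∧
      ∀ v ∈ Submodule.span F (Set.range e), D *ᵥ v ∈ Submodule.span F (Set.range e) := by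
  classical
  obtain ⟨f, hef, hff⟩ := exists_hyp_completion hF he hee
  obtain ⟨a, ha0, ha⟩ := H51.exists_hilbert90 hF (x := δ) (by rw [← pow_succ']; exact hδ)
  have hli := GramND.linearIndependent hF (hypFrame_gramND hF hee hef hff)
  set d : Fin 2 ⊕ Fin 2 → F := Sum.elim ![a, 1] ![(a ^ q)⁻¹, 1] with hd
  have hfe : ∀ i j, hermForm 4 F q (f i) (e j) = if i = j then 1 else 0 := fun i j => by
    rw [h_symm hF, hef]
    by_cases h : i = j <;> simp [h, eq_comm (a := j), zero_pow (q_ne_zero hF)]
  have hsame : SameGram q (Sum.elim e f) fun k => d k • Sum.elim e f k := by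
    intro i j
    simp only [h_smul_left, h_smul_right hF]
    rcases i with i | i <;> rcases j with j | j <;> simp only [Sum.elim_inl, Sum.elim_inr, hd]
    · simp [hee]
    · rw [hef]; fin_cases i <;> fin_cases j <;> simp [ha0, pow_q_pow_q hF]
    · rw [hfe]; fin_cases i <;> fin_cases j <;> simp [ha0]
    · simp [hff]
  obtain ⟨D, hD, hDb⟩ := exists_iso_of_basis hF (by simp) hli hsame
  refine ⟨D, hD, ?_, ?_⟩
  · let B := basisOfLinearIndependentOfCardEqFinrank hli (by simp)
    have hB : ⇑B = Sum.elim e f := coe_basisOfLinearIndependentOfCardEqFinrank hli _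
    have hT : LinearMap.toMatrix B B (Matrix.toLin' D) = diagonal d := by
      ext i j
      rw [LinearMap.toMatrix_apply, Matrix.toLin'_apply, hB, hDb, ← hB, map_smul, Finsupp.smul_apply,
        B.repr_self, Finsupp.single_apply, diagonal_apply]
      by_cases h : i = j
      · subst h; simp
      · simp [h, Ne.symm h]
    have h1 : LinearMap.det (Matrix.toLin' D) = D.det := LinearMap.det_toLin' D
    rw [← h1, ← LinearMap.det_toMatrix B, hT, det_diagonal, Fintype.prod_sum_type]
    simp [hd, Fin.prod_univ_two]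
    field_simp
    linear_combination -ha
  · intro v hv
    induction hv using Submodule.span_induction with
    | mem v hv =>
      obtain ⟨i, rfl⟩ := hv
      have hDi : D *ᵥ e i = d (Sum.inl i) • e i := hDb (Sum.inl i)
      rw [hDi]
      exact Submodule.smul_mem _ _ (Submodule.subset_span ⟨i, rfl⟩)
    | zero => simp
    | add x y _ _ hx hy => rw [mulVec_add]; exact add_mem hx hy
    | smul t x _ hx => rw [mulVec_smul]; exact Submodule.smul_mem _ _ hx

/-- `SU_4` is transitive on totally isotropic planes. -/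
theorem plane_trans {e e' : Fin 2 → Fin 4 → F} (he : LinearIndependent F e)
    (hee : ∀ i j, hermForm 4 F q (e i) (e j) = 0) (he' : LinearIndependent F e')
    (hee' : ∀ i j, hermForm 4 F q (e' i) (e' j) = 0) :
    ∃ x : SU 4 F q, (Submodule.span F (Set.range e)).map (Matrix.mulVecLin (suMat x)) =
      Submodule.span F (Set.range e') := by
  obtain ⟨M, hM, hMe⟩ := exists_iso_totIsotropic hF he hee he' hee'
  obtain ⟨D, hD, hDd, hDW⟩ := exists_det_fix hF he' hee' (δ := M.det⁻¹)
    (by rw [inv_pow, hM.det_norm hF, inv_one])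
  refine ⟨mkSU (D * M) (hD.mul hM) (by rw [det_mul, hDd, inv_mul_cancel₀ (hM.det_ne_zero hF)]), ?_⟩
  refine Submodule.eq_of_le_of_finrank_eq ?_ ?_
  · rw [Submodule.map_span_le]
    rintro _ ⟨i, rfl⟩
    rw [Matrix.mulVecLin_apply]
    show (D * M) *ᵥ e i ∈ _
    rw [← mulVec_mulVec, hMe]
    exact hDW _ (Submodule.subset_span ⟨i, rfl⟩)
  · rw [← LinearEquiv.finrank_eq (Submodule.equivMapOfInjective _ ((hD.mul hM).injective hF) _),
      finrank_span_eq_card he, finrank_span_eq_card he']

/-- The clause for `PSU_4`. -/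
theorem twoCover : TwoCover (PSU 4 F q) := by
  obtain ⟨θ, hθ⟩ := exists_norm_eq hF (c := -1) (by rw [neg_pow_q hF, one_pow])
  have hθ0 : θ ≠ 0 := fun h => by simp [h] at hθ
  rw [pow_succ] at hθ
  let e : Fin 2 → Fin 4 → F := ![![1, θ, 0, 0], ![0, 0, 1, θ]]
  let e' : Fin 2 → Fin 4 → F := ![![1, 0, θ, 0], ![0, 1, 0, θ]]
  have hee : ∀ i j, hermForm 4 F q (e i) (e j) = 0 := by
    intro i j
    fin_cases i <;> fin_cases j <;>
      simp [e, hermForm, Fin.sum_univ_four, zero_pow (q_ne_zero hF)] <;> linear_combination hθ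
  have hee' : ∀ i j, hermForm 4 F q (e' i) (e' j) = 0 := by
    intro i j
    fin_cases i <;> fin_cases j <;>
      simp [e', hermForm, Fin.sum_univ_four, zero_pow (q_ne_zero hF)] <;> linear_combination hθ
  have he : LinearIndependent F e := by
    refine LinearIndependent.pair_iff.2 fun s t h => ⟨?_, ?_⟩
    · simpa [e] using congrFun h 0
    · simpa [e] using congrFun h 2
  have he' : LinearIndependent F e' := by
    refine LinearIndependent.pair_iff.2 fun s t h => ⟨?_, ?_⟩
    · simpa [e'] using congrFun h 0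
    · simpa [e'] using congrFun h 1
  let p : Fin 4 → F := Pi.single 0 1
  have hp : hermForm 4 F q p p = 1 := by simp [p, h_single_single hF]
  have htrans : ∀ v : Fin 4 → F, hermForm 4 F q v v ≠ 0 →
      ∃ x : SU 4 F q, (Submodule.span F {v}).map (Matrix.mulVecLin (suMat x)) = Submodule.span F {p} := by
    intro v hv
    obtain ⟨c, hc⟩ := exists_norm_eq hF (c := (hermForm 4 F q v v)⁻¹) (by rw [inv_pow, h_self_fixed hF])
    have hc0 : c ≠ 0 := fun h => by
      rw [h, zero_pow (by omega)] at hc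
      exact hv (inv_eq_zero.1 hc.symm)
    have hvc : hermForm 4 F q (c • v) (c • v) = 1 := by
      rw [h_smul_left, h_smul_right hF, ← mul_assoc, ← pow_succ', hc, inv_mul_cancel₀ hv]
    obtain ⟨x, hx⟩ := exists_SU_of_sameGram hF (ι := Unit) (b := fun _ => c • v) (b' := fun _ => p)
      (fun a ha => funext fun _ => by simpa [h_smul_left, hvc] using ha ())
      (fun _ _ => hvc.trans hp.symm) (by simp)
    refine ⟨x, ?_⟩
    rw [← Submodule.span_singleton_smul_eq (IsUnit.mk0 c hc0) v, Submodule.map_span, Set.image_singleton,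
      Matrix.mulVecLin_apply, hx ()]
  have hH : subStab (Submodule.span F {p}) ≠ (⊤ : Subgroup (SU 4 F q)) := by
    intro htop
    obtain ⟨x, hx⟩ := exists_SU_of_sameGram hF (ι := Unit) (b := fun _ => p)
      (b' := fun _ => (Pi.single 1 1 : Fin 4 → F))
      (fun a ha => funext fun _ => by simpa [h_smul_left, hp] using ha ())
      (fun _ _ => hp.trans (by simp [h_single_single hF])) (by simp)
    have h1 := ((htop ▸ Subgroup.mem_top x : x ∈ subStab (Submodule.span F {p})) p).2
      (Submodule.mem_span_singleton_self p)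
    rw [hx ()] at h1
    obtain ⟨k, hk⟩ := Submodule.mem_span_singleton.1 h1
    simpa [p] using congrFun hk 1
  have hK : subStab (Submodule.span F (Set.range e)) ≠ (⊤ : Subgroup (SU 4 F q)) := by
    intro htop
    obtain ⟨x, hx⟩ := plane_trans hF he hee he' hee'
    have h1 : e' 0 ∈ Submodule.span F (Set.range e) := by
      obtain ⟨u, hu, hu'⟩ := (hx ▸ Submodule.subset_span ⟨0, rfl⟩ :
        e' 0 ∈ (Submodule.span F (Set.range e)).map (Matrix.mulVecLin (suMat x)))
      rw [← hu', Matrix.mulVecLin_apply]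
      exact ((htop ▸ Subgroup.mem_top x : x ∈ subStab (Submodule.span F (Set.range e))) u).2 hu
    obtain ⟨k, hk⟩ := (Submodule.mem_span_range_iff_exists_fun F).1 h1
    have k0 := congrFun hk 0
    have k1 := congrFun hk 1
    simp [Fin.sum_univ_two, e, e', hθ0] at k0 k1
    rw [k1] at k0
    exact zero_ne_one k0
  refine TwoCover.quotient _ _ _ hH hK (center_le_subStab hF (by norm_num) _)
    (center_le_subStab hF (by norm_num) _) fun g => ?_
  rcases dichotomy hF (SU_isIso g) with ⟨v, μ, hv, hgv⟩ | ⟨b, hb, hbb, hgb⟩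
  · obtain ⟨x, hx⟩ := htrans v hv
    refine Or.inl ⟨x, conj_mem_subStab hF (fun u hu => ?_) hx⟩
    obtain ⟨k, rfl⟩ := Submodule.mem_span_singleton.1 hu
    rw [mulVec_smul, hgv, smul_smul]
    exact Submodule.smul_mem _ _ (Submodule.mem_span_singleton_self v)
  · obtain ⟨x, hx⟩ := plane_trans hF hb hbb he hee
    refine Or.inr ⟨x, conj_mem_subStab hF (fun u hu => ?_) hx⟩
    induction hu using Submodule.span_induction with
    | mem u hu => obtain ⟨i, rfl⟩ := hu; exact hgb i
    | zero => simp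
    | add x y _ _ hx hy => rw [mulVec_add]; exact add_mem hx hy
    | smul t x _ hx => rw [mulVec_smul]; exact Submodule.smul_mem _ _ hx

end H2.Cover.SU4
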