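import Cfsg.Agent.H48.Form
import Cfsg.Agent.H2.Cover.FieldMatrix
import Cfsg.Agent.H2.Cover.Common

/-!
`Sp_6` in characteristic three: self-adjoint matrices generating a cubic field and the two subgroups of the cover.
-/

set_option autoImplicit false
set_option linter.unusedSectionVars false

namespace H2.Cover.Sp6

open H48 Matrix Polynomial

variable {F : Type*} [Field F]

/-- The index type. -/
abbrev I6 := Fin 3 ⊕ Fin 3

/-- The vectors. -/
abbrev V6 (F : Type*) := I6 → F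

/-- The matrices. -/
abbrev M6 (F : Type*) := Matrix I6 I6 F

/-- The group. -/
abbrev S6 (F : Type*) [Field F] := Matrix.symplecticGroup (Fin 3) F

theorem smat_inv_mul (g : S6 F) : (g⁻¹ : S6 F).1 * g.1 = 1 := congrArg Subtype.val (inv_mul_cancel g)

theorem smat_mul_inv (g : S6 F) : g.1 * (g⁻¹ : S6 F).1 = 1 := congrArg Subtype.val (mul_inv_cancel g)

theorem sf_adj (g : S6 F) (x y : V6 F) : sf (g.1 *ᵥ x) y = sf x ((g⁻¹ : S6 F).1 *ᵥ y) :=
  sf_smul_left g x y

theorem sf_adj' (g : S6 F) (x y : V6 F) : sf ((g⁻¹ : S6 F).1 *ᵥ x) y = sf x (g.1 *ᵥ y) := by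
  rw [sf_adj, inv_inv]

/-- Self-adjoint. -/
def SA (M : M6 F) : Prop := ∀ x y : V6 F, sf (M *ᵥ x) y = sf x (M *ᵥ y)

theorem SA.aeval {M : M6 F} (hM : SA M) (p : F[X]) : SA (aeval M p) := by
  induction p using Polynomial.induction_on' with
  | add a b ha hb =>
    intro x y
    rw [map_add, add_mulVec, add_mulVec, map_add, LinearMap.add_apply, map_add, ha, hb]
  | monomial k c =>
    intro x y
    rw [aeval_monomial, ← Algebra.smul_def, smul_mulVec, smul_mulVec, map_smul, LinearMap.smul_apply,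
      map_smul]
    congr 1
    induction k generalizing x y with
    | zero => simp
    | succ k ih =>
      calc sf (M ^ (k + 1) *ᵥ x) y = sf (M ^ k *ᵥ (M *ᵥ x)) y := by rw [pow_succ, ← mulVec_mulVec]
        _ = sf x (M *ᵥ (M ^ k *ᵥ y)) := by rw [ih, hM]
        _ = _ := by rw [mulVec_mulVec, ← pow_succ']

variable [CharP F 3]

theorem three_eq : (3 : F) = 0 := CharP.cast_eq_zero F 3

theorem two_ne : (2 : F) ≠ 0 := fun h => one_ne_zero (α := F) (by linear_combination (three_eq (F := F)) - h)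

theorem eq_zero_of_eq_neg {a : F} (h : a = -a) : a = 0 :=
  (mul_eq_zero.1 (show (2 : F) * a = 0 by linear_combination h)).resolve_left two_ne

theorem SA.orth {M : M6 F} (hM : SA M) (p r : F[X]) (v : V6 F) :
    sf (Polynomial.aeval M p *ᵥ v) (Polynomial.aeval M r *ᵥ v) = 0 := by
  rw [hM.aeval p, mulVec_mulVec, ← map_mul]
  refine eq_zero_of_eq_neg ?_
  conv_lhs => rw [← hM.aeval (p * r) v v]
  rw [sf_swap]

/-- The orbit of a pair under the algebra of a matrix root. -/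
def fam (T : M6 F) (v w : V6 F) : I6 → V6 F :=
  Sum.elim (fun i => T ^ (i : ℕ) *ᵥ v) (fun i => T ^ (i : ℕ) *ᵥ w)

section Adapted

variable {h : F[X]} (hh : Irreducible h) (hm : h.Monic) (hd : h.natDegree = 3)
variable {T : M6 F} (hT : SA T) (hTh : aeval T h = 0) {v w : V6 F}
include hh hd hT hTh

theorem fam_linearIndependent (hv : v ≠ 0) (hw : ∃ p : F[X], sf (aeval T p *ᵥ v) w ≠ 0) :
    LinearIndependent F (fam T v w) := by
  obtain ⟨p0, hp0⟩ := hw
  rw [Fintype.linearIndependent_iff]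
  intro c hc
  set p : F[X] := ∑ i : Fin 3, C (c (Sum.inl i)) * X ^ (i : ℕ) with hp
  set r : F[X] := ∑ i : Fin 3, C (c (Sum.inr i)) * X ^ (i : ℕ) with hr
  have hpr : aeval T p *ᵥ v + aeval T r *ᵥ w = 0 := by
    rw [← hc, Fintype.sum_sum_type, hp, hr, map_sum, map_sum, sum_mulVec, sum_mulVec]
    simp [fam, map_mul, aeval_C, ← Algebra.smul_def, smul_mulVec]
  have hrd : h ∣ r := by
    by_contra hnd
    obtain ⟨a, b, hab⟩ := hh.coprime_iff_not_dvd.2 hnd
    apply hp0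
    have e : w = -(aeval T (b * p) *ᵥ v) := by
      have e1 := congrArg (fun P => aeval T P *ᵥ w) hab
      simp only [map_add, map_mul, map_one, one_mulVec, hTh, mul_zero, zero_add,
        ← mulVec_mulVec] at e1
      rw [eq_neg_of_add_eq_zero_right hpr, mulVec_neg] at e1
      rw [map_mul, ← mulVec_mulVec]
      exact e1.symm
    rw [e, map_neg, hT.orth, neg_zero]
  have hlt : ∀ (d : Fin 3 → F), (∑ i : Fin 3, C (d i) * X ^ (i : ℕ)).degree < h.degree := fun d => by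
    rw [degree_eq_natDegree hh.ne_zero, hd]
    exact degree_sum_fin_lt d
  have hr0 : r = 0 := eq_zero_of_dvd_of_degree_lt hrd (hlt _)
  rw [hr0, map_zero, zero_mulVec, add_zero] at hpr
  have hp' : p = 0 := eq_zero_of_dvd_of_degree_lt (eval_mulVec_eq_zero hh hTh hv hpr).1 (hlt _)
  intro i
  rcases i with i | i
  · have := congrArg (fun P => P.coeff (i : ℕ)) hp'
    simpa [hp, finsetSum_coeff, coeff_C_mul, coeff_X_pow, Fin.val_inj] using this
  · have := congrArg (fun P => P.coeff (i : ℕ)) hr0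
    simpa [hr, finsetSum_coeff, coeff_C_mul, coeff_X_pow, Fin.val_inj] using this

include hm in
theorem mulVec_mod (p : F[X]) (u : V6 F) :
    aeval T p *ᵥ u = ∑ i : Fin 3, (p %ₘ h).coeff i • (T ^ (i : ℕ) *ᵥ u) := by
  conv_lhs => rw [← modByMonic_add_div p h, map_add, map_mul, hTh, zero_mul, add_zero,
    aeval_eq_sum_range' (n := 3) (hd ▸ natDegree_modByMonic_lt p hm (fun e => by rw [e] at hd; simp at hd)) T]
  rw [sum_mulVec, Fin.sum_univ_eq_sum_range (fun i => (p %ₘ h).coeff i • (T ^ i *ᵥ u)) 3]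
  simp [smul_mulVec]

include hm in
theorem exists_basis_coord (hv : v ≠ 0) (hw : ∃ p : F[X], sf (aeval T p *ᵥ v) w ≠ 0) (z : V6 F) :
    ∃ p r : F[X], z = aeval T p *ᵥ v + aeval T r *ᵥ w := by
  let B := basisOfLinearIndependentOfCardEqFinrank (fam_linearIndependent hh hd hT hTh hv hw) (by simp)
  refine ⟨∑ i : Fin 3, C (B.repr z (Sum.inl i)) * X ^ (i : ℕ),
    ∑ i : Fin 3, C (B.repr z (Sum.inr i)) * X ^ (i : ℕ), ?_⟩
  conv_lhs => rw [← B.sum_repr z, Fintype.sum_sum_type]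
  simp [B, fam, map_sum, sum_mulVec, map_mul, aeval_C, ← Algebra.smul_def, smul_mulVec]

omit hh in
include hm in
theorem sf_mod {T' : M6 F} (hT'h : aeval T' h = 0) {v' w' : V6 F}
    (hg : ∀ i : Fin 3, sf (T ^ (i : ℕ) *ᵥ v) w = sf (T' ^ (i : ℕ) *ᵥ v') w') (p : F[X]) :
    sf (aeval T p *ᵥ v) w = sf (aeval T' p *ᵥ v') w' := by
  have e : ∀ (S : M6 F) (u : V6 F), aeval S h = 0 →
      aeval S p *ᵥ u = ∑ i : Fin 3, (p %ₘ h).coeff i • (S ^ (i : ℕ) *ᵥ u) := fun S u hS => by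
    conv_lhs => rw [← modByMonic_add_div p h, map_add, map_mul, hS, zero_mul, add_zero,
      aeval_eq_sum_range' (n := 3) (hd ▸ natDegree_modByMonic_lt p hm (fun e => by rw [e] at hd; simp at hd)) S]
    rw [sum_mulVec, Fin.sum_univ_eq_sum_range (fun i => (p %ₘ h).coeff i • (S ^ i *ᵥ u)) 3]
    simp [smul_mulVec]
  simp only [e T v hTh, e T' v' hT'h, map_sum, map_smul, LinearMap.sum_apply, LinearMap.smul_apply, hg]

include hm in
/-- Two adapted pairs are related by an element of the group. -/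
theorem exists_map {T' : M6 F} (hT' : SA T') (hT'h : aeval T' h = 0) {v' w' : V6 F}
    (hw : ∃ p : F[X], sf (aeval T p *ᵥ v) w ≠ 0)
    (hg : ∀ i : Fin 3, sf (T ^ (i : ℕ) *ᵥ v) w = sf (T' ^ (i : ℕ) *ᵥ v') w') :
    ∃ x : S6 F, ∀ p : F[X], x.1 *ᵥ (aeval T p *ᵥ v) = aeval T' p *ᵥ v' ∧
      x.1 *ᵥ (aeval T p *ᵥ w) = aeval T' p *ᵥ w' := by
  have hm' := sf_mod hm hd hT hTh hT'h hg
  have hw' : ∃ p : F[X], sf (aeval T' p *ᵥ v') w' ≠ 0 := by simpa [← hm'] using hw
  have hv : v ≠ 0 := by rintro rfl; simp at hw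
  have hv' : v' ≠ 0 := by rintro rfl; simp at hw'
  have hpow : ∀ (S : M6 F) (i : ℕ), aeval S (X ^ i : F[X]) = S ^ i := by simp
  obtain ⟨x, -, hx⟩ := witt (fam T v w) (fam T' v' w') (fam_linearIndependent hh hd hT hTh hv hw)
    (fam_linearIndependent hh hd hT' hT'h hv' hw') (by
      intro i j
      rcases i with i | i <;> rcases j with j | j <;> simp only [fam, Sum.elim_inl, Sum.elim_inr] <;>
        simp only [← hpow]
      · rw [hT.orth, hT'.orth]
      · rw [hT.aeval, hT'.aeval, mulVec_mulVec, mulVec_mulVec, ← map_mul, ← map_mul, ← hT.aeval, ← hT'.aeval, hm']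
      · rw [sf_swap, sf_swap (aeval T' (X ^ (j : ℕ) : F[X]) *ᵥ v')]
        rw [hT.aeval, hT'.aeval, mulVec_mulVec, mulVec_mulVec, ← map_mul, ← map_mul, ← hT.aeval, ← hT'.aeval, hm']
      · rw [hT.orth, hT'.orth])
  refine ⟨x, fun p => ⟨?_, ?_⟩⟩
  · rw [mulVec_mod hh hm hd hT hTh, mulVec_mod hh hm hd hT' hT'h, mulVec_sum]
    exact Finset.sum_congr rfl fun i _ => by rw [mulVec_smul]; exact congrArg _ (hx (Sum.inl i))
  · rw [mulVec_mod hh hm hd hT hTh, mulVec_mod hh hm hd hT' hT'h, mulVec_sum]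
    exact Finset.sum_congr rfl fun i _ => by rw [mulVec_smul]; exact congrArg _ (hx (Sum.inr i))

include hm in
/-- Matrices agreeing on the orbit of an adapted pair are equal. -/
theorem ext_orbit (hw : ∃ p : F[X], sf (aeval T p *ᵥ v) w ≠ 0) {A B : M6 F}
    (hA : ∀ p : F[X], A *ᵥ (aeval T p *ᵥ v) = B *ᵥ (aeval T p *ᵥ v) ∧
      A *ᵥ (aeval T p *ᵥ w) = B *ᵥ (aeval T p *ᵥ w)) : A = B := by
  have hv : v ≠ 0 := by rintro rfl; simp at hw
  refine Matrix.ext_iff_mulVec.2 fun z => ?_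
  obtain ⟨p, r, rfl⟩ := exists_basis_coord hh hm hd hT hTh hv hw z
  rw [mulVec_add, mulVec_add, (hA p).1, (hA r).2]

/-- A prescribed functional on the orbit. -/
theorem exists_partner (hv : v ≠ 0) (lam : Fin 3 → F) : ∃ u, ∀ i : Fin 3, sf (T ^ (i : ℕ) *ᵥ v) u = lam i := by
  have hli := pow_linearIndependent hh hTh hv (d := 3) (by omega)
  obtain ⟨φ, hφ⟩ : ∃ φ : V6 F →ₗ[F] F, ∀ i : Fin 3, φ (T ^ (i : ℕ) *ᵥ v) = lam i := by
    let B := Module.Basis.span hli
    obtain ⟨φ, hφ⟩ := LinearMap.exists_extend (B.constr F lam)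
    refine ⟨φ, fun i => ?_⟩
    have := LinearMap.congr_fun hφ (B i)
    simpa [B, Module.Basis.span_apply, Finsupp.single_apply] using this
  obtain ⟨u, hu⟩ := exists_sf_eq φ
  exact ⟨u, fun i => by rw [hu, hφ]⟩

include hm in
/-- Any two self-adjoint roots are conjugate. -/
theorem exists_conj {T' : M6 F} (hT' : SA T') (hT'h : aeval T' h = 0) :
    ∃ x : S6 F, x.1 * T = T' * x.1 := by
  set e : V6 F := Pi.single (Sum.inl 0) 1 with he
  have he0 : e ≠ 0 := by simp [he]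
  obtain ⟨w, hw⟩ := exists_partner hh hd hT hTh he0 ![1, 0, 0]
  obtain ⟨w', hw'⟩ := exists_partner hh hd hT' hT'h he0 ![1, 0, 0]
  have hne : ∃ p : F[X], sf (aeval T p *ᵥ e) w ≠ 0 := ⟨1, by
    have := hw 0
    simp at this
    simp [this]⟩
  obtain ⟨x, hx⟩ := exists_map hh hm hd hT hTh hT' hT'h hne (fun i => (hw i).trans (hw' i).symm)
  refine ⟨x, ext_orbit hh hm hd hT hTh hne fun p => ⟨?_, ?_⟩⟩
  · have := (hx (X * p)).1
    simp only [map_mul, aeval_X] at this
    rw [← mulVec_mulVec, ← mulVec_mulVec, (hx p).1, mulVec_mulVec _ T, this, ← mulVec_mulVec]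
  · have := (hx (X * p)).2
    simp only [map_mul, aeval_X] at this
    rw [← mulVec_mulVec, ← mulVec_mulVec, (hx p).2, mulVec_mulVec _ T, this, ← mulVec_mulVec]

end Adapted

/-- The normaliser of the algebra of a matrix. -/
def algNorm (T : M6 F) : Subgroup (S6 F) where
  carrier := {x | ∀ y : M6 F, x.1 * y * (x⁻¹ : S6 F).1 ∈ Algebra.adjoin F {T} ↔ y ∈ Algebra.adjoin F {T}}
  one_mem' := fun y => by simp
  mul_mem' := fun {a b} ha hb y => by
    refine Iff.trans ?_ (hb y)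
    rw [← ha (b.1 * y * (b⁻¹ : S6 F).1), _root_.mul_inv_rev]
    show a.1 * b.1 * y * ((b⁻¹ : S6 F).1 * (a⁻¹ : S6 F).1) ∈ _ ↔ _
    simp only [Matrix.mul_assoc]
  inv_mem' := fun {a} ha y => by
    rw [← ha, inv_inv]
    rw [show a.1 * ((a⁻¹ : S6 F).1 * y * a.1) * (a⁻¹ : S6 F).1 = (a.1 * (a⁻¹ : S6 F).1) * y * (a.1 * (a⁻¹ : S6 F).1) by
      simp only [Matrix.mul_assoc], smat_mul_inv, Matrix.one_mul, Matrix.mul_one]

theorem mem_algNorm [Finite F] {T : M6 F} {x : S6 F} {r : F[X]} (hx : x.1 * T = aeval T r * x.1) :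
    x ∈ algNorm T :=
  conj_mem_adjoin_iff (smat_inv_mul x) (by
    rw [hx, Matrix.mul_assoc, smat_mul_inv, Matrix.mul_one]
    exact aeval_mem_adjoin_singleton F T)

/-- The stabiliser of a subspace. -/
def subStab (W : Submodule F (V6 F)) : Subgroup (S6 F) where
  carrier := {g | ∀ v, g • v ∈ W ↔ v ∈ W}
  one_mem' := fun v => by rw [one_smul]
  mul_mem' := fun {a b} ha hb v => by rw [mul_smul, ha, hb]
  inv_mem' := fun {a} ha v => by rw [← ha (a⁻¹ • v), smul_inv_smul]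

/-- The standard plane. -/
def stdPlane (F : Type*) [Field F] : Submodule F (V6 F) :=
  Submodule.span F {Pi.single (Sum.inl 0) 1, Pi.single (Sum.inr 0) 1}

/-- An invariant non-degenerate plane. -/
def PlaneInv (g : S6 F) : Prop :=
  ∃ a b : V6 F, sf a b ≠ 0 ∧ g.1 *ᵥ a ∈ Submodule.span F {a, b} ∧ g.1 *ᵥ b ∈ Submodule.span F {a, b}

theorem planeInv_conj {g : S6 F} (h : PlaneInv g) : ∃ x : S6 F, x * g * x⁻¹ ∈ subStab (stdPlane F) := by
  obtain ⟨a, b, hab, hga, hgb⟩ := h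
  set e : V6 F := Pi.single (Sum.inl 0) 1 with he
  set f : V6 F := Pi.single (Sum.inr 0) 1 with hf
  have hef : sf e f = -1 := by simp [he, hf, sf_apply, Fin.sum_univ_three]
  set t := -1 / sf a b with ht
  have ht0 : t ≠ 0 := div_ne_zero (neg_ne_zero.2 one_ne_zero) hab
  have hat : sf a (t • b) = sf e f := by rw [hef, map_smul, smul_eq_mul, ht, div_mul_cancel₀ _ hab]
  obtain ⟨x, -, hxa, hxb⟩ := witt_pair (u := a) (v := t • b) (u' := e) (v' := f)
    (by rw [hat, hef]; exact neg_ne_zero.2 one_ne_zero) hat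
  refine ⟨x, ?_⟩
  let W := Submodule.span F ({a, b} : Set (V6 F))
  have hxW : ∀ v ∈ W, x • v ∈ stdPlane F := by
    intro v hv
    obtain ⟨α, β, rfl⟩ := Submodule.mem_span_pair.1 hv
    rw [show α • a + β • b = α • a + (β * t⁻¹) • (t • b) by rw [smul_smul, inv_mul_cancel_right₀ ht0],
      smul_add, smul_comm x α, smul_comm x (β * t⁻¹), hxa, hxb]
    exact Submodule.mem_span_pair.2 ⟨α, _, rfl⟩
  have hxi : ∀ v ∈ stdPlane F, x⁻¹ • v ∈ W := by
    intro v hv
    obtain ⟨α, β, rfl⟩ := Submodule.mem_span_pair.1 hv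
    rw [← he, ← hf, ← hxa, ← hxb, smul_add, smul_comm x⁻¹ α, smul_comm x⁻¹ β, inv_smul_smul, inv_smul_smul,
      smul_smul]
    exact Submodule.mem_span_pair.2 ⟨α, _, rfl⟩
  have hgW : ∀ v ∈ W, g • v ∈ W := by
    intro v hv
    obtain ⟨α, β, rfl⟩ := Submodule.mem_span_pair.1 hv
    rw [spSmulDef, mulVec_add, mulVec_smul, mulVec_smul]
    exact add_mem (W.smul_mem _ hga) (W.smul_mem _ hgb)
  have hgW' : ∀ v, g • v ∈ W → v ∈ W := fun v hv => by
    let L : W →ₗ[F] W := (Matrix.mulVecLin g.1).restrict (fun u hu => hgW u hu)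
    have hinj : Function.Injective L := fun u u' e' =>
      Subtype.ext (MulAction.injective g (congrArg Subtype.val e'))
    obtain ⟨u, hu⟩ := LinearMap.injective_iff_surjective.1 hinj ⟨_, hv⟩
    exact (MulAction.injective g (congrArg Subtype.val hu)) ▸ u.2
  intro v
  rw [mul_smul, mul_smul]
  constructor
  · intro h1
    have := hgW' _ (by simpa using hxi _ h1)
    simpa using hxW _ this
  · intro h1
    exact hxW _ (hgW _ (hxi _ h1))

theorem neg_one_sq : (-1 : F) * -1 = 1 := by ring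

theorem center_le_subStab (W : Submodule F (V6 F)) : Subgroup.center (S6 F) ≤ subStab W := by
  intro g hg v
  obtain ⟨a, ha, hga⟩ := (H48.mem_center_iff g).1 hg
  rw [hga]
  refine ⟨fun h => ?_, W.smul_mem a⟩
  have := W.smul_mem a h
  rwa [smul_smul, ha, one_smul] at this

theorem subStab_ne_top : subStab (stdPlane F) ≠ ⊤ := by
  intro htop
  set u : V6 F := Pi.single (Sum.inl 0) 1 + Pi.single (Sum.inl 1) 1
  set f : V6 F := Pi.single (Sum.inr 0) 1
  have h1 := ((htop ▸ Subgroup.mem_top (tv u 1) : tv u 1 ∈ subStab (stdPlane F)) f).2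
    (Submodule.subset_span (by simp [f]))
  rw [tv_smul] at h1
  obtain ⟨α, β, hk⟩ := Submodule.mem_span_pair.1 h1
  have := congrFun hk (Sum.inl 1)
  simp [u, f, sf_apply, Fin.sum_univ_three] at this

variable [Finite F]

theorem center_le_algNorm (T : M6 F) : Subgroup.center (S6 F) ≤ algNorm T := by
  intro g hg
  obtain ⟨a, -, hga⟩ := (H48.mem_center_iff g).1 hg
  refine mem_algNorm (r := X) (Matrix.ext_iff_mulVec.2 fun v => ?_)
  rw [aeval_X, ← mulVec_mulVec, ← mulVec_mulVec]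
  exact (hga _).trans (by rw [← mulVec_smul]; exact congrArg _ (hga v).symm)

theorem algNorm_ne_top {h : F[X]} (hh : Irreducible h) (hd : h.natDegree = 3) {T : M6 F} (hT : SA T)
    (hTh : aeval T h = 0) : algNorm T ≠ ⊤ := by
  intro htop
  set u : V6 F := Pi.single (Sum.inl 0) 1 with hu
  have hu0 : u ≠ 0 := by simp [hu]
  have hmem := ((htop ▸ Subgroup.mem_top (tv u 1) : tv u 1 ∈ algNorm T) T).2 (Algebra.self_mem_adjoin_singleton F T)
  rw [Algebra.adjoin_singleton_eq_range_aeval] at hmem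
  obtain ⟨r, hr⟩ := hmem
  change aeval T r = _ at hr
  have htu : (tv u 1).1 *ᵥ u = u := by rw [← spSmulDef, tv_smul]; simp
  have htu' : ((tv u 1)⁻¹ : S6 F).1 *ᵥ u = u := by
    have := congrArg (((tv u 1)⁻¹ : S6 F).1 *ᵥ ·) htu
    simp only [mulVec_mulVec, smat_inv_mul, one_mulVec] at this
    exact this.symm
  have horth : sf (T *ᵥ u) u = 0 := by
    have := hT.orth X 1 u
    simpa using this
  have htT : (tv u 1).1 *ᵥ (T *ᵥ u) = T *ᵥ u := by rw [← spSmulDef, tv_smul]; simp [horth]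
  obtain ⟨-, hrX⟩ := eval_mulVec_eq_zero hh hTh hu0 (p := r - X) (by
    rw [map_sub, sub_mulVec, hr, aeval_X, ← mulVec_mulVec, ← mulVec_mulVec, htu', htT, sub_self])
  rw [map_sub, aeval_X, sub_eq_zero, hr] at hrX
  obtain ⟨x, hx⟩ := exists_sf_ne hu0
  have hx' : sf x u ≠ 0 := fun e0 => hx (sf_eq_zero_comm e0)
  have hcom : (tv u 1).1 * T = T * (tv u 1).1 := by
    conv_rhs => rw [← hrX]
    rw [Matrix.mul_assoc _ ((tv u 1)⁻¹ : S6 F).1, smat_inv_mul, Matrix.mul_one]
  have e := congrArg (fun M : M6 F => M *ᵥ x) hcom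
  simp only [← mulVec_mulVec] at e
  rw [← spSmulDef, ← spSmulDef, tv_smul, tv_smul, mulVec_add, mulVec_smul, add_right_inj, one_mul,
    one_mul] at e
  have hTu : T *ᵥ u = ((sf x u)⁻¹ * sf (T *ᵥ x) u) • u := by
    rw [← smul_smul, e, inv_smul_smul₀ hx']
  obtain ⟨hdvd, -⟩ := eval_mulVec_eq_zero hh hTh hu0 (p := X - C ((sf x u)⁻¹ * sf (T *ᵥ x) u)) (by
    rw [map_sub, sub_mulVec, aeval_X, aeval_C, Algebra.algebraMap_eq_smul_one, smul_mulVec, one_mulVec,
      hTu, sub_self])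
  have := natDegree_le_of_dvd hdvd (X_sub_C_ne_zero _)
  rw [natDegree_X_sub_C, hd] at this
  omega

end H2.Cover.Sp6
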