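import Cfsg.Agent.H2.Cover.Sp6Base
import Cfsg.Agent.H51.NormSurj

/-!
Three kinds of conjugacy classes of `Sp_6` in characteristic three, each determined by a normalised basis.
-/

set_option autoImplicit false
set_option linter.unusedSectionVars false
set_option linter.unusedSimpArgs false

namespace H2.Cover.Sp6

open H48 Matrix Polynomial

variable {F : Type*} [Field F]

/-- Conjugacy from matching bases. -/
theorem conj_of_witt {ι : Type*} [Fintype ι] (hcard : Fintype.card ι = 6) {g g' : S6 F} (u u' : ι → V6 F)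
    (hu : LinearIndependent F u) (hu' : LinearIndependent F u')
    (hgram : ∀ i j, sf (u i) (u j) = sf (u' i) (u' j))
    (hact : ∀ x : S6 F, (∀ j, x.1 *ᵥ u j = u' j) → ∀ i, x.1 *ᵥ (g.1 *ᵥ u i) = g'.1 *ᵥ u' i) :
    ∃ x : S6 F, x * g * x⁻¹ = g' := by
  have : Nonempty ι := Fintype.card_pos_iff.1 (by omega)
  obtain ⟨x, -, hx⟩ := witt u u' hu hu' hgram
  refine ⟨x, ?_⟩
  rw [mul_inv_eq_iff_eq_mul]
  let B := basisOfLinearIndependentOfCardEqFinrank hu (by simp [hcard])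
  refine Subtype.ext (Matrix.ext_iff_mulVec.2 fun z => ?_)
  have key : ∀ i, (x * g).1 *ᵥ u i = (g' * x).1 *ᵥ u i := fun i => by
    show (x.1 * g.1) *ᵥ u i = (g'.1 * x.1) *ᵥ u i
    rw [← mulVec_mulVec, ← mulVec_mulVec, hact x hx i]
    exact congrArg _ (hx i).symm
  rw [← B.sum_repr z, mulVec_sum, mulVec_sum]
  refine Finset.sum_congr rfl fun i _ => ?_
  rw [mulVec_smul, mulVec_smul]
  exact congrArg _ (by simpa [B] using key i)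

variable [CharP F 3]

theorem three_eq' : (3 : M6 F) = 0 := by
  rw [← map_ofNat (algebraMap F (M6 F)) 3, three_eq, map_zero]

theorem sub_one_cube (M : M6 F) : (M - 1) ^ 3 = M ^ 3 - 1 := by
  have : (M - 1) ^ 3 = M ^ 3 - 1 + (3 : M6 F) * (M - M ^ 2) := by noncomm_ring
  rw [this, three_eq', zero_mul, add_zero]

theorem sub_one_sq (M : M6 F) : (M - 1) ^ 2 = M ^ 2 + M + 1 := by
  have : (M - 1) ^ 2 = M ^ 2 + M + 1 - (3 : M6 F) * M := by noncomm_ring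
  rw [this, three_eq', zero_mul, sub_zero]

/-! ### Unipotent elements with `(g - 1)³ = 0 ≠ (g - 1)²` -/

section ClassA

variable {g g' : S6 F}

theorem adjA (h3 : (g.1 - 1) ^ 3 = 0) (x y : V6 F) :
    sf ((g.1 - 1) *ᵥ x) y = sf x ((g.1 - 1) ^ 2 *ᵥ y) - sf x ((g.1 - 1) *ᵥ y) := by
  have hinv : (g⁻¹ : S6 F).1 = 1 - (g.1 - 1) + (g.1 - 1) ^ 2 := by
    refine left_inv_eq_right_inv (smat_inv_mul g) ?_
    have : g.1 * (1 - (g.1 - 1) + (g.1 - 1) ^ 2) = 1 + (g.1 - 1) ^ 3 := by noncomm_ring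
    rw [this, h3, add_zero]
  rw [sub_mulVec, one_mulVec, map_sub, LinearMap.sub_apply, sf_adj, hinv, add_mulVec, sub_mulVec, one_mulVec,
    map_add, map_sub]
  simp [sub_mulVec, one_mulVec]
  ring

/-- Normalised pair. -/
def PairA (g : S6 F) (a b : V6 F) : Prop :=
  sf a ((g.1 - 1) *ᵥ a) = 0 ∧ sf b ((g.1 - 1) *ᵥ b) = 0 ∧ sf a b = 0 ∧ sf a ((g.1 - 1) *ᵥ b) = 0 ∧
    sf a ((g.1 - 1) ^ 2 *ᵥ b) = 1

theorem alt_two (h3 : (g.1 - 1) ^ 3 = 0) (x y : V6 F) :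
    sf y ((g.1 - 1) ^ 2 *ᵥ x) = -sf x ((g.1 - 1) ^ 2 *ᵥ y) := by
  rw [sf_swap ((g.1 - 1) ^ 2 *ᵥ x) y, pow_two, ← mulVec_mulVec, adjA h3, adjA h3, adjA h3]
  simp only [mulVec_mulVec, ← pow_succ', ← pow_two, ← pow_succ]
  have h4 : (g.1 - 1) ^ 4 = 0 := pow_eq_zero_of_le (by norm_num) h3
  simp [h3, h4, ← pow_succ', ← pow_two, ← pow_mul]

theorem exists_pairA (h3 : (g.1 - 1) ^ 3 = 0) (h2 : (g.1 - 1) ^ 2 ≠ 0) : ∃ a b, PairA g a b := by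
  set N := g.1 - 1 with hN
  have hA : ∀ x y, sf (N *ᵥ x) y = sf x (N *ᵥ (N *ᵥ y)) - sf x (N *ᵥ y) := fun x y => by
    rw [adjA h3, mulVec_mulVec, ← pow_two]
  have hz : ∀ x, N *ᵥ (N *ᵥ (N *ᵥ x)) = 0 := fun x => by
    rw [mulVec_mulVec, mulVec_mulVec, show N * N * N = N ^ 3 by noncomm_ring, h3, zero_mulVec]
  obtain ⟨a, b, hab⟩ : ∃ a b, sf a (N *ᵥ (N *ᵥ b)) ≠ 0 := by
    by_contra hc
    push Not at hc
    refine h2 (Matrix.ext_iff_mulVec.2 fun b => ?_)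
    rw [zero_mulVec, pow_two, ← mulVec_mulVec]
    exact eq_zero_of_sf fun a => by rw [sf_swap, hc, neg_zero]
  have hself : ∀ x, sf x (N *ᵥ (N *ᵥ x)) = 0 := fun x => eq_zero_of_eq_neg (by
    have := alt_two h3 x x
    rwa [pow_two, ← mulVec_mulVec] at this)
  have halt : ∀ x y, sf y (N *ᵥ (N *ᵥ x)) = -sf x (N *ᵥ (N *ᵥ y)) := fun x y => by
    have := alt_two h3 x y
    rwa [pow_two, ← mulVec_mulVec, ← mulVec_mulVec] at this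
  set b1 := (sf a (N *ᵥ (N *ᵥ b)))⁻¹ • b with hb1
  have e0 : sf a (N *ᵥ (N *ᵥ b1)) = 1 := by simp [-mulVec_mulVec, hb1, mulVec_smul, hab]
  set a1 := a + (-(sf a (N *ᵥ a)) / 2) • (N *ᵥ b1) with ha1
  have h2' : (2 : F) ≠ 0 := two_ne
  have e1 : sf a1 (N *ᵥ (N *ᵥ b1)) = 1 ∧ sf a1 (N *ᵥ a1) = 0 := by
    constructor
    · simp [-mulVec_mulVec, ha1, mulVec_add, mulVec_smul, hA, hz, e0]
    · simp [-mulVec_mulVec, ha1, mulVec_add, mulVec_smul, hA, hz, e0, hself, halt a b1]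
      field_simp
      ring
  obtain ⟨e1, e1'⟩ := e1
  set b2 := b1 + (sf b1 (N *ᵥ b1) / 2) • (N *ᵥ a1) with hb2
  have e2 : sf a1 (N *ᵥ (N *ᵥ b2)) = 1 ∧ sf b2 (N *ᵥ b2) = 0 := by
    constructor
    · simp [-mulVec_mulVec, hb2, mulVec_add, mulVec_smul, hA, hz, e1]
    · simp [-mulVec_mulVec, hb2, mulVec_add, mulVec_smul, hA, hz, e1, hself, halt a1 b1]
      field_simp
      ring
  obtain ⟨e2, e2'⟩ := e2
  set a2 := a1 + sf a1 (N *ᵥ b2) • (N *ᵥ a1) with ha2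
  have e3 : sf a2 (N *ᵥ (N *ᵥ b2)) = 1 ∧ sf a2 (N *ᵥ a2) = 0 ∧ sf a2 (N *ᵥ b2) = 0 := by
    refine ⟨?_, ?_, ?_⟩
    · simp [-mulVec_mulVec, ha2, mulVec_add, mulVec_smul, hA, hz, e2]
    · simp [-mulVec_mulVec, ha2, mulVec_add, mulVec_smul, hA, hz, e1', hself]
    · simp [-mulVec_mulVec, ha2, mulVec_add, mulVec_smul, hA, hz, e2]
  obtain ⟨e3, e3', e3''⟩ := e3
  set a3 := a2 + (-(sf a2 b2)) • (N *ᵥ (N *ᵥ a2)) with ha3
  refine ⟨a3, b2, ?_, e2', ?_, ?_, ?_⟩ <;> (try simp only [← hN, pow_two, ← mulVec_mulVec])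
  · simp [-mulVec_mulVec, ha3, mulVec_neg, mulVec_add, mulVec_smul, hA, hz, e3', hself]
  · simp [-mulVec_mulVec, ha3, mulVec_neg, mulVec_add, mulVec_smul, hA, hz, e3]
  · simp [-mulVec_mulVec, ha3, mulVec_neg, mulVec_add, mulVec_smul, hA, hz, e3'']
  · simp [-mulVec_mulVec, ha3, mulVec_neg, mulVec_add, mulVec_smul, hA, hz, e3]

/-- The basis of a pair. -/
def famA (g : S6 F) (a b : V6 F) : Fin 2 × Fin 3 → V6 F := fun k => (g.1 - 1) ^ (k.2 : ℕ) *ᵥ ![a, b] k.1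

theorem famA_li (h3 : (g.1 - 1) ^ 3 = 0) {a b : V6 F} (h : sf a ((g.1 - 1) ^ 2 *ᵥ b) = 1) :
    LinearIndependent F (famA g a b) := by
  set N := g.1 - 1 with hN
  have haa : sf a (N ^ 2 *ᵥ a) = 0 := eq_zero_of_eq_neg (alt_two h3 a a)
  have hbb : sf b (N ^ 2 *ᵥ b) = 0 := eq_zero_of_eq_neg (alt_two h3 b b)
  have hba : sf b (N ^ 2 *ᵥ a) = -1 := by rw [alt_two h3 a b, h]
  rw [Fintype.linearIndependent_iff]
  intro c hc
  have hz : ∀ k, 3 ≤ k → N ^ k = 0 := fun k hk => pow_eq_zero_of_le hk h3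
  have key : ∀ i : ℕ, i ≤ 2 → (∀ j : Fin 3, (j : ℕ) < 2 - i → c (0, j) = 0 ∧ c (1, j) = 0) →
      ∀ j : Fin 3, (j : ℕ) = 2 - i → c (0, j) = 0 ∧ c (1, j) = 0 := by
    intro i hi hlow j hj
    have e : ∑ k, c k • (N ^ (i + (k.2 : ℕ)) *ᵥ ![a, b] k.1) = 0 := by
      have := congrArg (N ^ i *ᵥ ·) hc
      simpa [mulVec_sum, mulVec_smul, famA, mulVec_mulVec, ← pow_add, ← hN] using this
    have hterm : ∀ k : Fin 2 × Fin 3, k.2 ≠ j → c k • (N ^ (i + (k.2 : ℕ)) *ᵥ ![a, b] k.1) = 0 := by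
      rintro ⟨k1, k2⟩ hk
      rcases lt_trichotomy (k2 : ℕ) (j : ℕ) with hlt | heq | hgt
      · obtain ⟨h0, h1⟩ := hlow k2 (by omega)
        fin_cases k1 <;> simp_all
      · exact absurd (Fin.ext heq) hk
      · rw [hz _ (by simp only; omega), zero_mulVec, smul_zero]
    have e' : c (0, j) • (N ^ 2 *ᵥ a) + c (1, j) • (N ^ 2 *ᵥ b) = 0 := by
      rw [Fintype.sum_prod_type, Fin.sum_univ_two, Finset.sum_eq_single j (fun k _ hk => hterm (0, k) hk)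
        (by simp), Finset.sum_eq_single j (fun k _ hk => hterm (1, k) hk) (by simp)] at e
      simpa [show i + (j : ℕ) = 2 by omega] using e
    have h1 := congrArg (fun v => sf a v) e'
    have h2 := congrArg (fun v => sf b v) e'
    simp [h, haa] at h1
    simp [hba, hbb] at h2
    exact ⟨h2, h1⟩
  have k0 := key 2 le_rfl (fun j hj => by omega) 0 rfl
  have k1 := key 1 (by norm_num) (fun j hj => by rw [show j = 0 from Fin.ext (by simp; omega)]; exact k0) 1 rfl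
  have k2 := key 0 (by norm_num) (fun j hj => by
    rcases (show j = 0 ∨ j = 1 by fin_cases j <;> simp at hj ⊢) with e | e <;> rw [e]
    exacts [k0, k1]) 2 rfl
  rintro ⟨k, j⟩
  fin_cases k <;> fin_cases j
  exacts [k0.1, k1.1, k2.1, k0.2, k1.2, k2.2]

theorem classA (h3 : (g.1 - 1) ^ 3 = 0) (h2 : (g.1 - 1) ^ 2 ≠ 0) (h3' : (g'.1 - 1) ^ 3 = 0)
    (h2' : (g'.1 - 1) ^ 2 ≠ 0) : ∃ x : S6 F, x * g * x⁻¹ = g' := by
  obtain ⟨a, b, p1, p2, p3, p4, p5⟩ := exists_pairA h3 h2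
  obtain ⟨a', b', q1, q2, q3, q4, q5⟩ := exists_pairA h3' h2'
  refine conj_of_witt (by simp) (famA g a b) (famA g' a' b') (famA_li h3 p5) (famA_li h3' q5) ?_ ?_
  · have m : ∀ {g : S6 F}, (g.1 - 1) ^ 3 = 0 → ∀ a b, PairA g a b → ∀ (k l : Fin 2) (j : ℕ),
        sf (![a, b] k) ((g.1 - 1) ^ j *ᵥ ![a, b] l) =
          if j = 2 then (![![0, 1], ![-1, 0]] : Fin 2 → Fin 2 → F) k l
          else if j = 1 then (![![0, 0], ![-1, 0]] : Fin 2 → Fin 2 → F) k l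
          else 0 := by
      intro g h3 a b ⟨r1, r2, r3, r4, r5⟩ k l j
      rcases j with _ | _ | _ | j
      · simp only [pow_zero, one_mulVec]
        fin_cases k <;> fin_cases l <;> simp [r3, sf_swap a b]
      · simp only [zero_add, pow_one]
        have hba : sf b ((g.1 - 1) *ᵥ a) = -1 := by
          rw [sf_swap ((g.1 - 1) *ᵥ a) b, adjA h3, r4, r5, sub_zero]
        fin_cases k <;> fin_cases l <;> simp [r1, r2, r4, hba]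
      · have hba : sf b ((g.1 - 1) ^ 2 *ᵥ a) = -1 := by rw [alt_two h3 a b, r5]
        fin_cases k <;> fin_cases l <;>
          simp [eq_zero_of_eq_neg (alt_two h3 a a), eq_zero_of_eq_neg (alt_two h3 b b), hba, r5]
      · rw [show (g.1 - 1) ^ (j + 1 + 1 + 1) = 0 from pow_eq_zero_of_le (by omega) h3]
        simp
    have key : ∀ (i : ℕ) (k l : Fin 2) (j : ℕ),
        sf ((g.1 - 1) ^ i *ᵥ ![a, b] k) ((g.1 - 1) ^ j *ᵥ ![a, b] l) =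
          sf ((g'.1 - 1) ^ i *ᵥ ![a', b'] k) ((g'.1 - 1) ^ j *ᵥ ![a', b'] l) := by
      intro i
      induction i with
      | zero =>
        intro k l j
        simp only [pow_zero, one_mulVec]
        rw [m h3 a b ⟨p1, p2, p3, p4, p5⟩, m h3' a' b' ⟨q1, q2, q3, q4, q5⟩]
      | succ i ih =>
        intro k l j
        have e1 : ∀ (g : S6 F) (u : V6 F), (g.1 - 1) ^ (i + 1) *ᵥ u = (g.1 - 1) ^ i *ᵥ ((g.1 - 1) *ᵥ u) :=
          fun g u => by rw [mulVec_mulVec, ← pow_succ]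
        have e2 : ∀ (g : S6 F), (g.1 - 1) ^ 3 = 0 → ∀ u w : V6 F, sf ((g.1 - 1) ^ (i + 1) *ᵥ u) w =
            sf ((g.1 - 1) ^ i *ᵥ u) ((g.1 - 1) ^ 2 *ᵥ w) - sf ((g.1 - 1) ^ i *ᵥ u) ((g.1 - 1) *ᵥ w) :=
          fun g h u w => by rw [pow_succ', ← mulVec_mulVec, adjA h]
        rw [e2 g h3, e2 g' h3', mulVec_mulVec, mulVec_mulVec, mulVec_mulVec, mulVec_mulVec, ← pow_add,
          ← pow_add, ← pow_succ', ← pow_succ', ih, ih]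
    intro i j
    exact key _ _ _ _
  · rintro x hx ⟨k, i⟩
    have hg : ∀ (g : S6 F) (u : V6 F), g.1 *ᵥ u = u + (g.1 - 1) *ᵥ u := fun g u => by
      rw [sub_mulVec, one_mulVec, add_sub_cancel]
    rw [hg g, hg g', mulVec_add, hx]
    congr 1
    simp only [famA, mulVec_mulVec _ (g.1 - 1), mulVec_mulVec _ (g'.1 - 1), ← pow_succ']
    fin_cases i
    · exact hx (k, 1)
    · exact hx (k, 2)
    · simp [h3, h3']

end ClassA

/-! ### Regular unipotent elements -/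

section ClassB

variable {g g' : S6 F}

theorem adjB (h6 : (g.1 - 1) ^ 6 = 0) (x y : V6 F) :
    sf ((g.1 - 1) *ᵥ x) y = -sf x ((g.1 - 1) ^ 1 *ᵥ y) + sf x ((g.1 - 1) ^ 2 *ᵥ y) -
      sf x ((g.1 - 1) ^ 3 *ᵥ y) + sf x ((g.1 - 1) ^ 4 *ᵥ y) - sf x ((g.1 - 1) ^ 5 *ᵥ y) := by
  set N := g.1 - 1 with hN
  have hinv : (g⁻¹ : S6 F).1 = 1 - N ^ 1 + N ^ 2 - N ^ 3 + N ^ 4 - N ^ 5 := by
    refine left_inv_eq_right_inv (smat_inv_mul g) ?_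
    rw [show g.1 = 1 + N by rw [hN, add_sub_cancel]]
    have : (1 + N) * (1 - N ^ 1 + N ^ 2 - N ^ 3 + N ^ 4 - N ^ 5) = 1 - N ^ 6 := by noncomm_ring
    rw [this, h6, sub_zero]
  conv_lhs => rw [hN, sub_mulVec, one_mulVec, map_sub, LinearMap.sub_apply, sf_adj, hinv]
  simp only [sub_mulVec, add_mulVec, one_mulVec, map_add, map_sub]
  ring

theorem moment_rel (h6 : (g.1 - 1) ^ 6 = 0) (v : V6 F) :
    sf v ((g.1 - 1) ^ 4 *ᵥ v) = 2 * sf v ((g.1 - 1) ^ 5 *ᵥ v) ∧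
      sf v ((g.1 - 1) ^ 2 *ᵥ v) = sf v ((g.1 - 1) ^ 3 *ᵥ v) + 2 * sf v ((g.1 - 1) ^ 5 *ᵥ v) := by
  set N := g.1 - 1 with hN
  have hA := adjB h6
  rw [← hN] at hA
  have hz : ∀ k, 6 ≤ k → N ^ k *ᵥ v = 0 := fun k hk => by rw [pow_eq_zero_of_le hk h6, zero_mulVec]
  have hs : ∀ i j, sf (N ^ (i + 1) *ᵥ v) (N ^ j *ᵥ v) = -sf (N ^ i *ᵥ v) (N ^ (1 + j) *ᵥ v) +
      sf (N ^ i *ᵥ v) (N ^ (2 + j) *ᵥ v) - sf (N ^ i *ᵥ v) (N ^ (3 + j) *ᵥ v) +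
      sf (N ^ i *ᵥ v) (N ^ (4 + j) *ᵥ v) - sf (N ^ i *ᵥ v) (N ^ (5 + j) *ᵥ v) := fun i j => by
    rw [pow_succ', ← mulVec_mulVec, hA]
    simp only [mulVec_mulVec, ← pow_add]
  have h0 : sf (N ^ 4 *ᵥ v) (N ^ 0 *ᵥ v) = -sf (N ^ 0 *ᵥ v) (N ^ 4 *ᵥ v) := sf_swap _ _
  have h0' : sf (N ^ 2 *ᵥ v) (N ^ 0 *ᵥ v) = -sf (N ^ 0 *ᵥ v) (N ^ 2 *ᵥ v) := sf_swap _ _
  have s4 : ∀ j, sf (N ^ 4 *ᵥ v) (N ^ j *ᵥ v) = _ := fun j => hs 3 j
  have s3 : ∀ j, sf (N ^ 3 *ᵥ v) (N ^ j *ᵥ v) = _ := fun j => hs 2 j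
  have s2 : ∀ j, sf (N ^ 2 *ᵥ v) (N ^ j *ᵥ v) = _ := fun j => hs 1 j
  have s1 : ∀ j, sf (N ^ 1 *ᵥ v) (N ^ j *ᵥ v) = _ := fun j => hs 0 j
  rw [s4] at h0
  rw [s2] at h0'
  simp only [s3, s2, s1, Nat.reduceAdd] at h0 h0'
  simp [hz] at h0 h0'
  have h2 : (2 : F) ≠ 0 := two_ne
  have r4 : sf v (N ^ 4 *ᵥ v) = 2 * sf v (N ^ 5 *ᵥ v) :=
    mul_left_cancel₀ h2 (by linear_combination h0)
  refine ⟨r4, mul_left_cancel₀ h2 ?_⟩
  linear_combination h0' - 3 * r4 - 2 * sf v (N ^ 5 *ᵥ v) * three_eq (F := F)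

theorem adjB_pow (h6 : (g.1 - 1) ^ 6 = 0) (u w : V6 F) :
    sf ((g.1 - 1) ^ 2 *ᵥ u) w = sf u ((g.1 - 1) ^ 2 *ᵥ w) - 2 * sf u ((g.1 - 1) ^ 3 *ᵥ w) +
        3 * sf u ((g.1 - 1) ^ 4 *ᵥ w) - 4 * sf u ((g.1 - 1) ^ 5 *ᵥ w) ∧
      sf ((g.1 - 1) ^ 3 *ᵥ u) w = -sf u ((g.1 - 1) ^ 3 *ᵥ w) + 3 * sf u ((g.1 - 1) ^ 4 *ᵥ w) -
        6 * sf u ((g.1 - 1) ^ 5 *ᵥ w) ∧
      sf ((g.1 - 1) ^ 4 *ᵥ u) w = sf u ((g.1 - 1) ^ 4 *ᵥ w) - 4 * sf u ((g.1 - 1) ^ 5 *ᵥ w) ∧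
      sf ((g.1 - 1) ^ 5 *ᵥ u) w = -sf u ((g.1 - 1) ^ 5 *ᵥ w) := by
  set N := g.1 - 1 with hN
  have hA := adjB h6
  rw [← hN] at hA
  have hz : ∀ k, 6 ≤ k → ∀ v, N ^ k *ᵥ v = 0 := fun k hk v => by rw [pow_eq_zero_of_le hk h6, zero_mulVec]
  have hA' : ∀ x y, sf (N ^ 1 *ᵥ x) y = _ := fun x y => (by rw [pow_one] : sf (N ^ 1 *ᵥ x) y = sf (N *ᵥ x) y).trans (hA x y)
  have e2 : ∀ u w, sf (N ^ 2 *ᵥ u) w = sf u (N ^ 2 *ᵥ w) - 2 * sf u (N ^ 3 *ᵥ w) +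
      3 * sf u (N ^ 4 *ᵥ w) - 4 * sf u (N ^ 5 *ᵥ w) := fun u w => by
    rw [show N ^ 2 *ᵥ u = N ^ 1 *ᵥ (N ^ 1 *ᵥ u) by rw [mulVec_mulVec, ← pow_add]]
    simp only [hA']
    simp only [mulVec_mulVec, ← pow_add, Nat.reduceAdd]
    simp [hz]
    ring
  have step : ∀ k, ∀ u w, sf (N ^ (k + 1) *ᵥ u) w = sf (N ^ k *ᵥ (N *ᵥ u)) w := fun k u w => by
    rw [mulVec_mulVec, ← pow_succ]
  have e3 : ∀ u w, sf (N ^ 3 *ᵥ u) w = -sf u (N ^ 3 *ᵥ w) + 3 * sf u (N ^ 4 *ᵥ w) -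
      6 * sf u (N ^ 5 *ᵥ w) := fun u w => by
    rw [step 2, e2, hA, hA, hA, hA]
    simp only [mulVec_mulVec, ← pow_add, Nat.reduceAdd]
    simp [hz]
    ring
  have e4 : ∀ u w, sf (N ^ 4 *ᵥ u) w = sf u (N ^ 4 *ᵥ w) - 4 * sf u (N ^ 5 *ᵥ w) := fun u w => by
    rw [step 3, e3, hA, hA, hA]
    simp only [mulVec_mulVec, ← pow_add, Nat.reduceAdd]
    simp [hz]
    ring
  refine ⟨e2 u w, e3 u w, e4 u w, ?_⟩
  rw [step 4, e4, hA, hA]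
  simp only [mulVec_mulVec, ← pow_add, Nat.reduceAdd]
  simp [hz]

theorem exists_startB (h6 : (g.1 - 1) ^ 6 = 0) (h5 : (g.1 - 1) ^ 5 ≠ 0) :
    ∃ v, sf v ((g.1 - 1) ^ 5 *ᵥ v) ≠ 0 := by
  set N := g.1 - 1 with hN
  have hA := adjB h6
  rw [← hN] at hA
  have hzv : ∀ k, 6 ≤ k → ∀ v, N ^ k *ᵥ v = 0 := fun k hk v => by rw [pow_eq_zero_of_le hk h6, zero_mulVec]
  have q2 := fun u w => (adjB_pow h6 u w).1
  have q4 := fun u w => (adjB_pow h6 u w).2.2.1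
  have q5 := fun u w => (adjB_pow h6 u w).2.2.2
  rw [← hN] at q2 q4 q5
  have hsym : ∀ u w, sf w (N ^ 5 *ᵥ u) = sf u (N ^ 5 *ᵥ w) := fun u w => by
    rw [sf_swap (N ^ 5 *ᵥ u) w, q5, neg_neg]
  by_contra hc
  push Not at hc
  refine h5 (Matrix.ext_iff_mulVec.2 fun b => ?_)
  rw [zero_mulVec]
  refine eq_zero_of_sf fun a => ?_
  have := hc (a + b)
  simp only [mulVec_add, map_add, LinearMap.add_apply, hc, zero_add, add_zero, hsym b a] at this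
  rw [sf_swap, (mul_eq_zero.1 (show (2 : F) * sf a (N ^ 5 *ᵥ b) = 0 by
    rw [hsym b a] at *; linear_combination this)).resolve_left two_ne, neg_zero]

theorem normB (h6 : (g.1 - 1) ^ 6 = 0) {v : V6 F} (hv : sf v ((g.1 - 1) ^ 5 *ᵥ v) ≠ 0) :
    ∃ v', sf v' ((g.1 - 1) ^ 1 *ᵥ v') = 0 ∧ sf v' ((g.1 - 1) ^ 3 *ᵥ v') = 0 ∧
      sf v' ((g.1 - 1) ^ 5 *ᵥ v') = sf v ((g.1 - 1) ^ 5 *ᵥ v) := by
  set N := g.1 - 1 with hN
  have hA := adjB h6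
  rw [← hN] at hA
  have hzv : ∀ k, 6 ≤ k → ∀ v, N ^ k *ᵥ v = 0 := fun k hk v => by rw [pow_eq_zero_of_le hk h6, zero_mulVec]
  have q2 := fun u w => (adjB_pow h6 u w).1
  have q4 := fun u w => (adjB_pow h6 u w).2.2.1
  have q5 := fun u w => (adjB_pow h6 u w).2.2.2
  rw [← hN] at q2 q4 q5
  have hsym : ∀ u w, sf w (N ^ 5 *ᵥ u) = sf u (N ^ 5 *ᵥ w) := fun u w => by
    rw [sf_swap (N ^ 5 *ᵥ u) w, q5, neg_neg]
  have h2 : (2 : F) ≠ 0 := two_ne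
  set μ := sf v (N ^ 5 *ᵥ v) with hμ
  set v1 := v + (-(sf v (N ^ 3 *ᵥ v)) / (2 * μ)) • (N ^ 2 *ᵥ v) with hv1
  have e5 : sf v1 (N ^ 5 *ᵥ v1) = μ := by
    simp [hv1, mulVec_add, mulVec_smul, mulVec_mulVec, ← pow_add, q2, hzv, hμ]
  have e3 : sf v1 (N ^ 3 *ᵥ v1) = 0 := by
    simp [hv1, mulVec_add, mulVec_smul, mulVec_mulVec, ← pow_add, q2, hzv, ← hμ]
    field_simp
    ring
  set v2 := v1 + (-(sf v1 (N ^ 1 *ᵥ v1)) / (2 * μ)) • (N ^ 4 *ᵥ v1) with hv2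
  refine ⟨v2, ?_, ?_, ?_⟩
  · simp only [hv2, mulVec_add, mulVec_smul, map_add, LinearMap.add_apply, map_smul, LinearMap.smul_apply,
      smul_eq_mul, q4]
    simp only [mulVec_mulVec, ← pow_add, Nat.reduceAdd]
    simp [hzv, e5]
    field_simp
    ring
  · simp only [hv2, mulVec_add, mulVec_smul, map_add, LinearMap.add_apply, map_smul, LinearMap.smul_apply,
      smul_eq_mul, q4]
    simp only [mulVec_mulVec, ← pow_add, Nat.reduceAdd]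
    simp [hzv, e3]
  · simp only [hv2, mulVec_add, mulVec_smul, map_add, LinearMap.add_apply, map_smul, LinearMap.smul_apply,
      smul_eq_mul, q4]
    simp only [mulVec_mulVec, ← pow_add, Nat.reduceAdd]
    simp [hzv, e5]

theorem classB_li (h6 : (g.1 - 1) ^ 6 = 0) {v : V6 F} (hv : (g.1 - 1) ^ 5 *ᵥ v ≠ 0) :
    LinearIndependent F (fun i : Fin 6 => (g.1 - 1) ^ (i : ℕ) *ᵥ v) := by
  set N := g.1 - 1
  rw [Fintype.linearIndependent_iff]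
  intro c hc i
  obtain ⟨i, hi⟩ := i
  induction i using Nat.strong_induction_on with
  | _ i ih =>
    have e := congrArg (N ^ (5 - i) *ᵥ ·) hc
    simp only [mulVec_sum, mulVec_smul, mulVec_mulVec, ← pow_add, mulVec_zero] at e
    rw [Finset.sum_eq_single (⟨i, hi⟩ : Fin 6)] at e
    · simp only [show 5 - i + i = 5 by omega] at e
      exact (smul_eq_zero.1 e).resolve_right hv
    · rintro ⟨j, hj⟩ _ hne
      simp only [ne_eq, Fin.mk.injEq] at hne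
      rcases lt_or_gt_of_ne hne with hlt | hgt
      · rw [ih j hlt hj, zero_smul]
      · rw [pow_eq_zero_of_le (by simp only; omega) h6, zero_mulVec, smul_zero]
    · simp

theorem classB (h6 : (g.1 - 1) ^ 6 = 0) (h6' : (g'.1 - 1) ^ 6 = 0) {v v' : V6 F}
    (p1 : sf v ((g.1 - 1) ^ 1 *ᵥ v) = sf v' ((g'.1 - 1) ^ 1 *ᵥ v'))
    (p3 : sf v ((g.1 - 1) ^ 3 *ᵥ v) = sf v' ((g'.1 - 1) ^ 3 *ᵥ v'))
    (p5 : sf v ((g.1 - 1) ^ 5 *ᵥ v) = sf v' ((g'.1 - 1) ^ 5 *ᵥ v'))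
    (hv : sf v ((g.1 - 1) ^ 5 *ᵥ v) ≠ 0) : ∃ x : S6 F, x * g * x⁻¹ = g' := by
  have hne : (g.1 - 1) ^ 5 *ᵥ v ≠ 0 := fun e => hv (by simp [e])
  have hne' : (g'.1 - 1) ^ 5 *ᵥ v' ≠ 0 := fun e => hv (by rw [p5]; simp [e])
  refine conj_of_witt (by simp) _ _ (classB_li h6 hne) (classB_li h6' hne') ?_ ?_
  · have key : ∀ i j, sf ((g.1 - 1) ^ i *ᵥ v) ((g.1 - 1) ^ j *ᵥ v) =
        sf ((g'.1 - 1) ^ i *ᵥ v') ((g'.1 - 1) ^ j *ᵥ v') := by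
      intro i
      induction i with
      | zero =>
        intro j
        simp only [pow_zero, one_mulVec]
        rcases j with _ | _ | _ | _ | _ | _ | j
        · simp
        · exact p1
        · rw [(moment_rel h6 v).2, (moment_rel h6' v').2, p3, p5]
        · exact p3
        · rw [(moment_rel h6 v).1, (moment_rel h6' v').1, p5]
        · exact p5
        · rw [pow_eq_zero_of_le (by omega : 6 ≤ j + 1 + 1 + 1 + 1 + 1 + 1) h6,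
            pow_eq_zero_of_le (by omega : 6 ≤ j + 1 + 1 + 1 + 1 + 1 + 1) h6']
          simp
      | succ i ih =>
        intro j
        have e2 : ∀ (g : S6 F), (g.1 - 1) ^ 6 = 0 → ∀ u w : V6 F, sf ((g.1 - 1) ^ (i + 1) *ᵥ u) w = _ :=
          fun g h u w => (by rw [pow_succ', ← mulVec_mulVec] : _ = sf ((g.1 - 1) *ᵥ ((g.1 - 1) ^ i *ᵥ u)) w).trans
            (adjB h _ _)
        rw [e2 g h6, e2 g' h6']
        simp only [mulVec_mulVec, ← pow_add, ih]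
    intro i j
    exact key _ _
  · rintro x hx i
    have hg : ∀ (g : S6 F) (u : V6 F), g.1 *ᵥ u = u + (g.1 - 1) *ᵥ u := fun g u => by
      rw [sub_mulVec, one_mulVec, add_sub_cancel]
    rw [hg g, hg g', mulVec_add, hx]
    congr 1
    rw [mulVec_mulVec _ (g.1 - 1), mulVec_mulVec _ (g'.1 - 1), ← pow_succ', ← pow_succ']
    fin_cases i
    · exact hx 1
    · exact hx 2
    · exact hx 3
    · exact hx 4
    · exact hx 5
    · simp [h6, h6']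

end ClassB

/-! ### Regular elements with two distinct eigenvalues -/

/-- The sum of an element and its inverse. -/
def zMat (g : S6 F) : M6 F := g.1 + (g⁻¹ : S6 F).1

theorem zMat_sa (g : S6 F) : SA (zMat g) := fun x y => by
  rw [zMat, add_mulVec, add_mulVec, map_add, LinearMap.add_apply, map_add, sf_adj, sf_adj', add_comm]

theorem zMat_commute (g : S6 F) : Commute g.1 (zMat g) := by
  show g.1 * (g.1 + (g⁻¹ : S6 F).1) = (g.1 + (g⁻¹ : S6 F).1) * g.1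
  rw [mul_add, add_mul, smat_mul_inv, smat_inv_mul]

theorem sq_eq (g : S6 F) (u : V6 F) : g.1 *ᵥ (g.1 *ᵥ u) = zMat g *ᵥ (g.1 *ᵥ u) - u := by
  rw [zMat, add_mulVec, mulVec_mulVec _ (g⁻¹ : S6 F).1, smat_inv_mul, one_mulVec, add_sub_cancel_right]

/-- The nilpotent part. -/
def nMat (c : F) (g : S6 F) : M6 F := zMat g - c • 1

theorem nMat_sa (c : F) (g : S6 F) : SA (nMat c g) := fun x y => by
  rw [nMat, sub_mulVec, sub_mulVec, smul_mulVec, smul_mulVec, one_mulVec, one_mulVec, map_sub,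
    LinearMap.sub_apply, map_sub, zMat_sa g, map_smul, LinearMap.smul_apply, map_smul]

theorem nMat_commute (c : F) (g : S6 F) : Commute g.1 (nMat c g) :=
  (zMat_commute g).sub_right ((Commute.one_right _).smul_right c)

theorem nMat_pow_sa (c : F) (g : S6 F) (i : ℕ) : SA (nMat c g ^ i) := by
  have := (nMat_sa c g).aeval (X ^ i)
  simpa using this

theorem n_orth (c : F) (g : S6 F) (i j : ℕ) (v : V6 F) :
    sf (nMat c g ^ i *ᵥ v) (nMat c g ^ j *ᵥ v) = 0 := by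
  have := (nMat_sa c g).orth (X ^ i) (X ^ j) v
  simpa using this

theorem n_swap (c : F) (g : S6 F) (k : ℕ) (v w : V6 F) :
    sf w (nMat c g ^ k *ᵥ v) = -sf v (nMat c g ^ k *ᵥ w) := by
  rw [sf_swap, nMat_pow_sa]

theorem g_n_g (c : F) (g : S6 F) (u : V6 F) :
    g.1 *ᵥ (g.1 *ᵥ u) = c • (g.1 *ᵥ u) + nMat c g *ᵥ (g.1 *ᵥ u) - u := by
  rw [sq_eq, nMat, sub_mulVec, smul_mulVec, one_mulVec, add_sub_cancel]

section ClassC

variable {c : F} {g g' : S6 F}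

theorem exists_vecC [Finite F] (hc : c ^ 2 ≠ 1) (h3 : nMat c g ^ 3 = 0) (h2 : nMat c g ^ 2 ≠ 0) :
    ∃ v, sf v (g.1 *ᵥ v) = 0 ∧ sf v (nMat c g *ᵥ (g.1 *ᵥ v)) = 0 ∧
      sf v (nMat c g ^ 2 *ᵥ (g.1 *ᵥ v)) = 1 := by
  set n := nMat c g with hn
  have h4 : ∀ k, 3 ≤ k → n ^ k = 0 := fun k hk => pow_eq_zero_of_le hk h3
  have hcomm : ∀ k u, g.1 *ᵥ (n ^ k *ᵥ u) = n ^ k *ᵥ (g.1 *ᵥ u) := fun k u => by
    rw [mulVec_mulVec, mulVec_mulVec, ((nMat_commute c g).pow_right k).eq]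
  have hinvn : ∀ u, n ^ 2 *ᵥ ((g⁻¹ : S6 F).1 *ᵥ u) = c • (n ^ 2 *ᵥ u) - n ^ 2 *ᵥ (g.1 *ᵥ u) := fun u => by
    have : (g⁻¹ : S6 F).1 *ᵥ u = c • u + n *ᵥ u - g.1 *ᵥ u := by
      simp [hn, nMat, zMat, sub_mulVec, add_mulVec, smul_mulVec]
    rw [this, mulVec_sub, mulVec_add, mulVec_smul, mulVec_mulVec _ (n ^ 2), ← pow_succ, h3, zero_mulVec, add_zero]
  have hgi : (g⁻¹ : S6 F).1 * n ^ 2 = n ^ 2 * (g⁻¹ : S6 F).1 := by
    have e := ((nMat_commute c g).pow_right 2).eq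
    calc _ = (g⁻¹ : S6 F).1 * (n ^ 2 * g.1) * (g⁻¹ : S6 F).1 := by
          rw [Matrix.mul_assoc, Matrix.mul_assoc, smat_mul_inv, Matrix.mul_one]
      _ = _ := by rw [hn, ← e, ← Matrix.mul_assoc, smat_inv_mul, Matrix.one_mul]
  obtain ⟨v, hv⟩ : ∃ v, sf v (n ^ 2 *ᵥ (g.1 *ᵥ v)) ≠ 0 := by
    by_contra hcon
    push Not at hcon
    have hz : ∀ u : V6 F, n ^ 2 *ᵥ (g.1 *ᵥ u) - n ^ 2 *ᵥ ((g⁻¹ : S6 F).1 *ᵥ u) = 0 := fun b => by
      refine eq_zero_of_sf fun a => ?_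
      have h1 := hcon (a + b)
      simp only [mulVec_add, map_add, LinearMap.add_apply, hcon, zero_add, add_zero] at h1
      have h2 : sf b (n ^ 2 *ᵥ (g.1 *ᵥ a)) = -sf a (n ^ 2 *ᵥ ((g⁻¹ : S6 F).1 *ᵥ b)) := by
        rw [sf_swap, nMat_pow_sa, sf_adj, ← hn]
        congr 2
        rw [mulVec_mulVec, mulVec_mulVec, hgi]
      rw [h2] at h1
      rw [sf_swap, map_sub, neg_eq_zero]
      linear_combination h1
    refine h2 (Matrix.ext_iff_mulVec.2 fun u => ?_)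
    rw [zero_mulVec]
    have e1 := hz u
    have e2 := hz (g.1 *ᵥ u)
    rw [hinvn] at e1
    rw [mulVec_mulVec _ (g⁻¹ : S6 F).1, smat_inv_mul, one_mulVec, g_n_g c g u, mulVec_sub, mulVec_add,
      mulVec_smul, ← hn, mulVec_mulVec _ (n ^ 2) n, ← pow_succ, h3, zero_mulVec, add_zero] at e2
    have e3 : (c ^ 2 - 1) • (n ^ 2 *ᵥ u) = 0 := by
      have h30 := three_eq (F := F)
      have : (c ^ 2 - 1) • (n ^ 2 *ᵥ u) = (-c) • ((n ^ 2 *ᵥ (g.1 *ᵥ u)) - (c • (n ^ 2 *ᵥ u) - n ^ 2 *ᵥ (g.1 *ᵥ u)))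
          + (2 : F) • (c • (n ^ 2 *ᵥ (g.1 *ᵥ u)) - n ^ 2 *ᵥ u - n ^ 2 *ᵥ u) + (3 : F) • (n ^ 2 *ᵥ u) := by
        module
      rw [this, e1, e2, h30, smul_zero, smul_zero, zero_smul, add_zero, add_zero]
    exact (smul_eq_zero.1 e3).resolve_left (sub_ne_zero.2 hc)
  set μ := sf v (n ^ 2 *ᵥ (g.1 *ᵥ v)) with hμ
  obtain ⟨a, b, hab⟩ := H51.field_quad_rep c 1 μ⁻¹ (by
    intro e; exact hc (by linear_combination e + three_eq (F := F)))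
  set v1 := a • v + b • (g.1 *ᵥ v) with hv1
  have hn0 : sf v (n ^ 2 *ᵥ v) = 0 := by simpa using n_orth c g 0 2 v
  have hn1 : sf (g.1 *ᵥ v) (n ^ 2 *ᵥ (g.1 *ᵥ v)) = 0 := by simpa using n_orth c g 0 2 (g.1 *ᵥ v)
  have hn2 : sf (g.1 *ᵥ v) (n ^ 2 *ᵥ v) = -μ := by rw [n_swap, ← hn]
  have e2 : sf v1 (n ^ 2 *ᵥ (g.1 *ᵥ v1)) = 1 := by
    have hgg : n ^ 2 *ᵥ (g.1 *ᵥ (g.1 *ᵥ v)) = c • (n ^ 2 *ᵥ (g.1 *ᵥ v)) - n ^ 2 *ᵥ v := by
      rw [g_n_g c g v, mulVec_sub, mulVec_add, mulVec_smul, ← hn, mulVec_mulVec _ (n ^ 2) n, ← pow_succ, h3,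
        zero_mulVec, add_zero]
    simp [-mulVec_mulVec, hv1, mulVec_add, mulVec_smul, hgg, hn0, hn1, hn2, ← hμ]
    have hμ0 : μ ≠ 0 := hv
    calc a * (a * μ + b * (c * μ)) + b * (b * μ) = μ * (a ^ 2 + c * a * b + 1 * b ^ 2) := by ring
      _ = 1 := by rw [hab, mul_inv_cancel₀ hμ0]
  have hsh : ∀ (i j : ℕ) (x y : V6 F), sf (n ^ i *ᵥ x) (n ^ j *ᵥ y) = sf x (n ^ (i + j) *ᵥ y) := fun i j x y => by
    rw [nMat_pow_sa, mulVec_mulVec, ← pow_add]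
  have h2' : (2 : F) ≠ 0 := two_ne
  have hn' : ∀ u, n *ᵥ u = n ^ 1 *ᵥ u := fun u => by rw [pow_one]
  set v2 := v1 + (-(sf v1 (n ^ 1 *ᵥ (g.1 *ᵥ v1))) / 2) • (n ^ 1 *ᵥ v1) with hv2
  have f2 : sf v2 (n ^ 2 *ᵥ (g.1 *ᵥ v2)) = 1 := by
    have h21 : ∀ u : V6 F, n ^ 2 *ᵥ (n ^ 1 *ᵥ u) = 0 := fun u => by rw [mulVec_mulVec, ← pow_add, h3, zero_mulVec]
    simp only [hv2, mulVec_add, mulVec_smul, hcomm, h21, map_add, LinearMap.add_apply, map_smul, LinearMap.smul_apply,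
      smul_eq_mul, hsh, Nat.reduceAdd, h3, zero_mulVec, map_zero, mul_zero, add_zero, e2]
  have f1 : sf v2 (n ^ 1 *ᵥ (g.1 *ᵥ v2)) = 0 := by
    simp only [hv2, mulVec_add, mulVec_smul, hcomm, map_add, LinearMap.add_apply, map_smul, LinearMap.smul_apply,
      smul_eq_mul, hsh]
    have hz : ∀ u : V6 F, n ^ 3 *ᵥ u = 0 := fun u => by rw [h3, zero_mulVec]
    have h11 : ∀ u : V6 F, n ^ 1 *ᵥ (n ^ 1 *ᵥ u) = n ^ 2 *ᵥ u := fun u => by rw [mulVec_mulVec, ← pow_add]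
    have h21 : ∀ u : V6 F, n ^ 2 *ᵥ (n ^ 1 *ᵥ u) = 0 := fun u => by rw [mulVec_mulVec, ← pow_add, h3, zero_mulVec]
    simp only [Nat.reduceAdd, h11, h21, map_zero, e2, mul_zero, mul_one, add_zero]
    field_simp
    ring
  set v3 := v2 + (-(sf v2 (g.1 *ᵥ v2)) / 2) • (n ^ 2 *ᵥ v2) with hv3
  have hk : ∀ k : ℕ, 1 ≤ k → ∀ u : V6 F, n ^ k *ᵥ (n ^ 2 *ᵥ u) = 0 := fun k hk u => by
    rw [mulVec_mulVec, ← pow_add, h4 _ (by omega), zero_mulVec]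
  have hz : ∀ k, 3 ≤ k → ∀ u : V6 F, n ^ k *ᵥ u = 0 := fun k hk u => by rw [h4 k hk, zero_mulVec]
  refine ⟨v3, ?_, ?_, ?_⟩
  · have hs0 : ∀ x y : V6 F, sf (n ^ 2 *ᵥ x) y = sf x (n ^ 2 *ᵥ y) := nMat_pow_sa c g 2
    simp only [hv3, mulVec_add, mulVec_smul, hcomm, map_add, LinearMap.add_apply, map_smul, LinearMap.smul_apply,
      smul_eq_mul, hs0, hk 2 (by norm_num), map_zero, f2, mul_zero, mul_one, add_zero]
    field_simp
    ring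
  · rw [hn' (g.1 *ᵥ v3)]
    simp only [hv3, mulVec_add, mulVec_smul, hcomm, hk 1 le_rfl, map_add, LinearMap.add_apply, map_smul,
      LinearMap.smul_apply, smul_eq_mul, hsh, hz (2 + 1) le_rfl, f1, map_zero, mul_zero, add_zero]
  · simp only [hv3, mulVec_add, mulVec_smul, hcomm, hk 2 (by norm_num), map_add, LinearMap.add_apply, map_smul,
      LinearMap.smul_apply, smul_eq_mul, hsh, hz (2 + 2) (by norm_num), f2, map_zero, mul_zero, add_zero]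

/-- The basis of a vector. -/
def famC (c : F) (g : S6 F) (v : V6 F) : Fin 2 × Fin 3 → V6 F :=
  fun k => nMat c g ^ (k.2 : ℕ) *ᵥ ![v, g.1 *ᵥ v] k.1

theorem gramC (h3 : nMat c g ^ 3 = 0) {v : V6 F} (p0 : sf v (g.1 *ᵥ v) = 0)
    (p1 : sf v (nMat c g *ᵥ (g.1 *ᵥ v)) = 0) (p2 : sf v (nMat c g ^ 2 *ᵥ (g.1 *ᵥ v)) = 1) (k l : Fin 2)
    (i j : ℕ) : sf (nMat c g ^ i *ᵥ ![v, g.1 *ᵥ v] k) (nMat c g ^ j *ᵥ ![v, g.1 *ᵥ v] l) =
      if i + j = 2 then (![![0, 1], ![-1, 0]] : Fin 2 → Fin 2 → F) k l else 0 := by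
  have e : ∀ x y : V6 F, sf (nMat c g ^ i *ᵥ x) (nMat c g ^ j *ᵥ y) = sf x (nMat c g ^ (i + j) *ᵥ y) := fun x y => by
    rw [nMat_pow_sa, mulVec_mulVec, ← pow_add]
  rw [e]
  have o : ∀ (m : ℕ) (u : V6 F), sf u (nMat c g ^ m *ᵥ u) = 0 := fun m u => by simpa using n_orth c g 0 m u
  generalize i + j = m
  fin_cases k <;> fin_cases l
  · simp [-mulVec_mulVec, o m v]
  · rcases m with _ | _ | _ | m
    · simp [-mulVec_mulVec, p0]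
    · simp [-mulVec_mulVec, p1]
    · simp [-mulVec_mulVec, p2]
    · simp [pow_eq_zero_of_le (show 3 ≤ m + 1 + 1 + 1 by omega) h3]
  · rcases m with _ | _ | _ | m
    · simp [sf_swap v (g.1 *ᵥ v), p0]
    · simp only [zero_add, pow_one]
      have := n_swap c g 1 v (g.1 *ᵥ v)
      rw [pow_one] at this
      simp [-mulVec_mulVec, this, p1]
    · simp [-mulVec_mulVec, n_swap c g 2 v (g.1 *ᵥ v), p2]
    · simp [pow_eq_zero_of_le (show 3 ≤ m + 1 + 1 + 1 by omega) h3]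
  · simp [-mulVec_mulVec, o m (g.1 *ᵥ v)]

theorem famC_li (h3 : nMat c g ^ 3 = 0) {v : V6 F} (p0 : sf v (g.1 *ᵥ v) = 0)
    (p1 : sf v (nMat c g *ᵥ (g.1 *ᵥ v)) = 0) (p2 : sf v (nMat c g ^ 2 *ᵥ (g.1 *ᵥ v)) = 1) :
    LinearIndependent F (famC c g v) := by
  rw [Fintype.linearIndependent_iff]
  rintro d hd ⟨k, i⟩
  have e := congrArg (fun z => sf (nMat c g ^ (2 - (i : ℕ)) *ᵥ ![v, g.1 *ᵥ v] (1 - k)) z) hd
  simp only [famC, map_sum, map_smul, smul_eq_mul, map_zero, gramC h3 p0 p1 p2] at e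
  rw [Finset.sum_eq_single (k, i)] at e
  · simp only [show 2 - (i : ℕ) + (i : ℕ) = 2 by omega, if_true] at e
    fin_cases k <;> simpa using e
  · rintro ⟨k', i'⟩ _ hne
    by_cases hi : i' = i
    · subst hi
      have hk : k' ≠ k := fun e => hne (by rw [e])
      fin_cases k <;> fin_cases k' <;> simp_all
    · rw [if_neg (fun e => hi (Fin.ext (by simp only at e ⊢; omega))), mul_zero]
  · simp

theorem classC (h3 : nMat c g ^ 3 = 0) (h3' : nMat c g' ^ 3 = 0) {v v' : V6 F} (p0 : sf v (g.1 *ᵥ v) = 0)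
    (p1 : sf v (nMat c g *ᵥ (g.1 *ᵥ v)) = 0) (p2 : sf v (nMat c g ^ 2 *ᵥ (g.1 *ᵥ v)) = 1)
    (q0 : sf v' (g'.1 *ᵥ v') = 0) (q1 : sf v' (nMat c g' *ᵥ (g'.1 *ᵥ v')) = 0)
    (q2 : sf v' (nMat c g' ^ 2 *ᵥ (g'.1 *ᵥ v')) = 1) : ∃ x : S6 F, x * g * x⁻¹ = g' := by
  refine conj_of_witt (by simp) (famC c g v) (famC c g' v') (famC_li h3 p0 p1 p2) (famC_li h3' q0 q1 q2) ?_ ?_
  · rintro ⟨k, i⟩ ⟨l, j⟩
    simp only [famC]
    rw [gramC h3 p0 p1 p2, gramC h3' q0 q1 q2]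
  · rintro x hx ⟨k, i⟩
    have hcomm : ∀ (g : S6 F) (m : ℕ) (u : V6 F),
        g.1 *ᵥ (nMat c g ^ m *ᵥ u) = nMat c g ^ m *ᵥ (g.1 *ᵥ u) := fun g m u => by
      rw [mulVec_mulVec, mulVec_mulVec, ((nMat_commute c g).pow_right m).eq]
    have hm : ∀ (k : Fin 2) (m : ℕ), x.1 *ᵥ (nMat c g ^ m *ᵥ ![v, g.1 *ᵥ v] k) =
        nMat c g' ^ m *ᵥ ![v', g'.1 *ᵥ v'] k := by
      intro k m
      by_cases h : m < 3
      · exact hx (k, ⟨m, h⟩)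
      · rw [pow_eq_zero_of_le (by omega : 3 ≤ m) h3, pow_eq_zero_of_le (by omega : 3 ≤ m) h3', zero_mulVec,
          zero_mulVec, mulVec_zero]
    simp only [famC, hcomm]
    fin_cases k
    · exact hm 1 _
    · show x.1 *ᵥ (nMat c g ^ (i : ℕ) *ᵥ (g.1 *ᵥ (g.1 *ᵥ v))) = nMat c g' ^ (i : ℕ) *ᵥ (g'.1 *ᵥ (g'.1 *ᵥ v'))
      rw [g_n_g c g, g_n_g c g', mulVec_sub, mulVec_add, mulVec_smul, mulVec_sub, mulVec_add, mulVec_smul,
        mulVec_mulVec _ (nMat c g ^ (i : ℕ)) (nMat c g), ← pow_succ, mulVec_sub, mulVec_add, mulVec_smul,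
        mulVec_mulVec _ (nMat c g' ^ (i : ℕ)) (nMat c g'), ← pow_succ]
      exact congrArg₂ _ (congrArg₂ _ (congrArg _ (hm 1 i)) (hm 1 (i + 1))) (hm 0 i)

end ClassC

end H2.Cover.Sp6
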