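import Cfsg.Agent.H2.Cover.Sp6Classes

/-!
Elements of the normaliser of a cubic field in `Sp_6` in characteristic three meeting three kinds of classes.
-/

set_option autoImplicit false
set_option linter.unusedSectionVars false
set_option linter.unusedSimpArgs false

namespace H2.Cover.Sp6

open H48 Matrix Polynomial

variable {F : Type*} [Field F] [CharP F 3]

section Witness

variable {h : F[X]} (hh : Irreducible h) (hm : h.Monic) (hd : h.natDegree = 3) (hshift : h.comp (X + 1) = h)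
variable {T : M6 F} (hT : SA T) (hTh : aeval T h = 0) {v w : V6 F}
variable (hvw : ∀ i : Fin 3, sf (T ^ (i : ℕ) *ᵥ v) w = (![0, 0, 1] : Fin 3 → F) i)
include hh hm hd hT hTh

theorem map_comm {T' : M6 F} (hw : ∃ p : F[X], sf (aeval T p *ᵥ v) w ≠ 0) {v' w' : V6 F} {x : S6 F}
    (hx : ∀ p : F[X], x.1 *ᵥ (aeval T p *ᵥ v) = aeval T' p *ᵥ v' ∧
      x.1 *ᵥ (aeval T p *ᵥ w) = aeval T' p *ᵥ w') : x.1 * T = T' * x.1 := by
  refine ext_orbit hh hm hd hT hTh hw fun p => ⟨?_, ?_⟩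
  · have := (hx (X * p)).1
    simp only [map_mul, aeval_X] at this
    rw [← mulVec_mulVec, ← mulVec_mulVec, (hx p).1, mulVec_mulVec _ T, this, ← mulVec_mulVec]
  · have := (hx (X * p)).2
    simp only [map_mul, aeval_X] at this
    rw [← mulVec_mulVec, ← mulVec_mulVec, (hx p).2, mulVec_mulVec _ T, this, ← mulVec_mulVec]

include hvw

theorem sf_sq : sf (T ^ 2 *ᵥ v) w = 1 := by simpa using hvw 2

theorem hw_ne : ∃ p : F[X], sf (aeval T p *ᵥ v) w ≠ 0 :=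
  ⟨X ^ 2, by rw [map_pow, aeval_X, sf_sq hh hm hd hT hTh hvw]; exact one_ne_zero⟩

include hshift

theorem shift_root : SA (T + 1) ∧ aeval (T + 1) h = 0 ∧
    ∀ i : Fin 3, sf ((T + 1) ^ (i : ℕ) *ᵥ v) w = sf (T ^ (i : ℕ) *ᵥ v) w := by
  have e : T + 1 = aeval T (X + 1 : F[X]) := by simp
  refine ⟨e ▸ hT.aeval _, by rw [e, ← aeval_comp, hshift, hTh], fun i => ?_⟩
  have h0 := hvw 0
  have h1 := hvw 1
  simp at h0 h1
  fin_cases i
  · simp
  · simp [add_mulVec, h0]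
  · simp [pow_two, add_mulVec, mulVec_add, ← mulVec_mulVec, h0, h1]

theorem exists_shift [Finite F] (τ : F) : ∃ y ∈ algNorm T, ∀ p r : F[X],
    y.1 *ᵥ (aeval T p *ᵥ v + aeval T r *ᵥ w) =
      aeval T (p.comp (X + 1) + C τ * X ^ 2 * r.comp (X + 1)) *ᵥ v + aeval T (r.comp (X + 1)) *ᵥ w := by
  obtain ⟨hT1, hT1h, hg⟩ := shift_root hh hm hd hshift hT hTh hvw
  have hw := hw_ne hh hm hd hT hTh hvw
  have e : T + 1 = aeval T (X + 1 : F[X]) := by simp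
  obtain ⟨y, hy⟩ := exists_map hh hm hd hT hTh hT1 hT1h (v' := v) (w' := w + τ • (T ^ 2 *ᵥ v)) hw (fun i => by
    rw [map_add, map_smul, hg, e]
    have := hT.orth ((X + 1) ^ (i : ℕ)) (X ^ 2) v
    rw [map_pow, map_pow, aeval_X] at this
    rw [this, smul_zero, add_zero])
  refine ⟨y, mem_algNorm (r := X + 1) ?_, fun p r => ?_⟩
  · rw [← e]
    exact map_comm hh hm hd hT hTh hw hy
  · have hc : ∀ q : F[X], aeval (T + 1) q = aeval T (q.comp (X + 1)) := fun q => by rw [aeval_comp, ← e]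
    rw [mulVec_add, (hy p).1, (hy r).2, hc, hc, mulVec_add, mulVec_smul, map_add, add_mulVec,
      mul_comm (C τ) (X ^ 2), mul_assoc, mul_comm (X ^ 2 : F[X]) (C τ * _), map_mul, map_mul, map_pow, aeval_X,
      aeval_C, ← Algebra.smul_def, smul_mul_assoc, smul_mulVec, mulVec_mulVec]
    abel

theorem shift_facts [Finite F] (τ : F) : ∃ y ∈ algNorm T,
    (∀ p r : F[X], (y.1 - 1) ^ 3 *ᵥ (aeval T p *ᵥ v + aeval T r *ᵥ w) = (2 * τ) • (aeval T r *ᵥ v)) ∧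
    (y.1 - 1) ^ 2 *ᵥ (T ^ 2 *ᵥ v) = (2 : F) • v := by
  obtain ⟨y, hy, hyf⟩ := exists_shift hh hm hd hshift hT hTh hvw τ
  refine ⟨y, hy, fun p r => ?_, ?_⟩
  · have h3 : (3 : F[X]) = 0 := by rw [← map_ofNat C 3, three_eq, map_zero]
    have hper : ∀ q : F[X], ((q.comp (X + 1)).comp (X + 1)).comp (X + 1) = q := fun q => by
      rw [comp_assoc, comp_assoc]
      simp only [add_comp, X_comp, one_comp]
      rw [show (X + 1 + 1 + 1 : F[X]) = X by linear_combination h3, comp_X]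
    rw [sub_one_cube, sub_mulVec, one_mulVec, show y.1 ^ 3 = y.1 * (y.1 * y.1) by noncomm_ring,
      ← mulVec_mulVec, ← mulVec_mulVec, hyf, hyf, hyf]
    simp only [add_comp, mul_comp, C_comp, pow_comp, X_comp, one_comp]
    rw [hper, hper, show p + C τ * (X + 1 + 1) ^ 2 * r + C τ * (X + 1) ^ 2 * r + C τ * X ^ 2 * r =
        p + C (2 * τ) * r by rw [map_mul, map_ofNat]; linear_combination (C τ * r * (X ^ 2 + 2 * X + 1)) * h3,
      map_add, add_mulVec, map_mul, aeval_C, ← Algebra.smul_def, smul_mulVec]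
    abel
  · have h30 : (3 : F[X]) = 0 := by rw [← map_ofNat C 3, three_eq, map_zero]
    have hz : ∀ u : V6 F, u = u + aeval T (0 : F[X]) *ᵥ w := fun u => by simp
    have e1 : T ^ 2 *ᵥ v = aeval T (X ^ 2 : F[X]) *ᵥ v := by simp
    rw [sub_one_sq, pow_two, add_mulVec, add_mulVec, ← mulVec_mulVec, one_mulVec, e1, hz (aeval T _ *ᵥ v),
      hyf, hyf]
    simp only [add_comp, mul_comp, C_comp, pow_comp, X_comp, one_comp, zero_comp, mul_zero, add_zero, map_zero,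
      zero_mulVec]
    rw [← add_mulVec, ← add_mulVec, ← map_add, ← map_add, show ((X : F[X]) + 1 + 1) ^ 2 + (X + 1) ^ 2 + X ^ 2 = C 2 by
      rw [map_ofNat]
      linear_combination (X ^ 2 + 2 * X + 1) * h30,
      aeval_C, Algebra.algebraMap_eq_smul_one, smul_mulVec, one_mulVec]

/-- The witness of the class of elements with `(g - 1)³ = 0 ≠ (g - 1)²`. -/
theorem witnessA [Finite F] : ∃ y ∈ algNorm T, (y.1 - 1) ^ 3 = 0 ∧ (y.1 - 1) ^ 2 ≠ 0 := by
  obtain ⟨y, hy, h3, h2⟩ := shift_facts hh hm hd hshift hT hTh hvw 0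
  have hw := hw_ne hh hm hd hT hTh hvw
  refine ⟨y, hy, ext_orbit hh hm hd hT hTh hw fun p => ⟨?_, ?_⟩, fun e => ?_⟩
  · simpa using h3 p 0
  · simpa using h3 0 p
  · rw [e, zero_mulVec] at h2
    obtain ⟨p, hp⟩ := hw
    have hv0 : v ≠ 0 := by rintro rfl; simp at hp
    exact hv0 ((smul_eq_zero.1 h2.symm).resolve_left two_ne)

/-- The witness of a class of regular unipotent elements. -/
theorem witnessB [Finite F] (μ : F) : ∃ y ∈ algNorm T, (y.1 - 1) ^ 6 = 0 ∧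
    ∃ u : V6 F, sf u ((y.1 - 1) ^ 5 *ᵥ u) = μ := by
  obtain ⟨y, hy, h3, h2⟩ := shift_facts hh hm hd hshift hT hTh hvw (-μ)
  have hw := hw_ne hh hm hd hT hTh hvw
  refine ⟨y, hy, ext_orbit hh hm hd hT hTh hw fun p => ⟨?_, ?_⟩, T ^ 2 *ᵥ w, ?_⟩
  · have e1 := h3 p 0
    simp [-mulVec_mulVec] at e1
    rw [show (y.1 - 1) ^ 6 = (y.1 - 1) ^ 3 * (y.1 - 1) ^ 3 by rw [← pow_add], ← mulVec_mulVec, e1]
    simp
  · have e1 := h3 0 p
    simp [-mulVec_mulVec] at e1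
    have e2 := h3 p 0
    simp [-mulVec_mulVec] at e2
    rw [show (y.1 - 1) ^ 6 = (y.1 - 1) ^ 3 * (y.1 - 1) ^ 3 by rw [← pow_add], ← mulVec_mulVec, e1]
    simp [-mulVec_mulVec, mulVec_smul, e2, mulVec_neg]
  · have e1 := h3 0 (X ^ 2)
    simp [-mulVec_mulVec] at e1
    rw [show (y.1 - 1) ^ 5 = (y.1 - 1) ^ 2 * (y.1 - 1) ^ 3 by rw [← pow_add], ← mulVec_mulVec, e1]
    simp only [mulVec_smul, mulVec_neg, h2, map_smul, map_neg]
    have e2 : sf (T ^ 2 *ᵥ w) v = -1 := by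
      have hsa := hT.aeval (X ^ 2) w v
      simp at hsa
      rw [hsa, sf_swap, sf_sq hh hm hd hT hTh hvw]
    rw [e2]
    simp
    linear_combination μ * three_eq (F := F)

/-- Matrices agreeing on the six standard vectors of the pair are equal. -/
theorem ext_six {A B : M6 F} (h1 : A *ᵥ v = B *ᵥ v) (h2 : A *ᵥ (T *ᵥ v) = B *ᵥ (T *ᵥ v))
    (h3 : A *ᵥ (T *ᵥ (T *ᵥ v)) = B *ᵥ (T *ᵥ (T *ᵥ v))) (h4 : A *ᵥ w = B *ᵥ w)
    (h5 : A *ᵥ (T *ᵥ w) = B *ᵥ (T *ᵥ w)) (h6 : A *ᵥ (T *ᵥ (T *ᵥ w)) = B *ᵥ (T *ᵥ (T *ᵥ w))) : A = B := by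
  refine ext_orbit hh hm hd hT hTh (hw_ne hh hm hd hT hTh hvw) fun p => ⟨?_, ?_⟩
  · rw [mulVec_mod hh hm hd hT hTh]
    simp [-mulVec_mulVec, Fin.sum_univ_three, mulVec_add, mulVec_smul, pow_two, ← mulVec_mulVec, h1, h2, h3]
  · rw [mulVec_mod hh hm hd hT hTh]
    simp [-mulVec_mulVec, Fin.sum_univ_three, mulVec_add, mulVec_smul, pow_two, ← mulVec_mulVec, h4, h5, h6]

/-- The witness of the classes with two distinct eigenvalues. -/
theorem witnessC [Finite F] (c : F) (hc : c ^ 2 ≠ 1) :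
    ∃ y ∈ algNorm T, nMat c y ^ 3 = 0 ∧ nMat c y ^ 2 ≠ 0 := by
  obtain ⟨hT1, hT1h, hg⟩ := shift_root hh hm hd hshift hT hTh hvw
  have hw := hw_ne hh hm hd hT hTh hvw
  have e : T + 1 = aeval T (X + 1 : F[X]) := by simp
  obtain ⟨y, hy⟩ := exists_map hh hm hd hT hTh hT1 hT1h (v' := w) (w' := -v + c • w) hw (fun i => by
    have hs := hT1.aeval (X ^ (i : ℕ)) w v
    rw [map_pow, aeval_X] at hs
    have ho := hT1.orth (X ^ (i : ℕ)) 1 w
    simp at ho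
    rw [map_add, map_neg, map_smul, ho, smul_zero, add_zero, hs, ← sf_swap w, hg])
  refine ⟨y, mem_algNorm (r := X + 1) (by rw [← e]; exact map_comm hh hm hd hT hTh hw hy), ?_⟩
  have hinv : ∀ s u : V6 F, y.1 *ᵥ s = u → (y⁻¹ : S6 F).1 *ᵥ u = s := fun s u hsu => by
    rw [← hsu, mulVec_mulVec, smat_inv_mul, one_mulVec]
  have g0 : y.1 *ᵥ v = w := by simpa using (hy 1).1
  have g0' : y.1 *ᵥ w = -v + c • w := by simpa using (hy 1).2
  have g1 : y.1 *ᵥ (T *ᵥ v) = T *ᵥ w + w := by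
    have := (hy X).1
    simpa [add_mulVec] using this
  have g1' : y.1 *ᵥ (T *ᵥ w) = -(T *ᵥ v) - v + c • (T *ᵥ w + w) := by
    have := (hy X).2
    simp only [aeval_X] at this
    rw [this]
    simp [-mulVec_mulVec, add_mulVec, mulVec_add, mulVec_neg, mulVec_smul, smul_add]
    module
  have g2 : y.1 *ᵥ (T *ᵥ (T *ᵥ v)) = T *ᵥ (T *ᵥ w) + (2 : F) • (T *ᵥ w) + w := by
    have := (hy (X ^ 2)).1
    simp only [map_pow, aeval_X] at this
    simp only [pow_two, ← mulVec_mulVec] at this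
    rw [this]
    simp [-mulVec_mulVec, add_mulVec, mulVec_add]
    module
  have g2' : y.1 *ᵥ (T *ᵥ (T *ᵥ w)) = -(T *ᵥ (T *ᵥ v) + (2 : F) • (T *ᵥ v) + v) +
      c • (T *ᵥ (T *ᵥ w) + (2 : F) • (T *ᵥ w) + w) := by
    have := (hy (X ^ 2)).2
    simp only [map_pow, aeval_X] at this
    simp only [pow_two, ← mulVec_mulVec] at this
    rw [this]
    simp [-mulVec_mulVec, add_mulVec, mulVec_add, mulVec_neg, mulVec_smul]
    module
  have i0 := hinv (c • v - w) v (by rw [mulVec_sub, mulVec_smul, g0, g0']; module)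
  have i0' := hinv v w g0
  have i1 := hinv (c • (T *ᵥ v - v) - (T *ᵥ w - w)) (T *ᵥ v) (by
    rw [mulVec_sub, mulVec_smul, mulVec_sub, mulVec_sub, g1, g0, g1', g0']; module)
  have i1' := hinv (T *ᵥ v - v) (T *ᵥ w) (by rw [mulVec_sub, g1, g0]; module)
  have i2 := hinv (c • (T *ᵥ (T *ᵥ v) - (2 : F) • (T *ᵥ v) + v) - (T *ᵥ (T *ᵥ w) - (2 : F) • (T *ᵥ w) + w))
    (T *ᵥ (T *ᵥ v)) (by
      simp only [mulVec_sub, mulVec_add, mulVec_smul, g2, g1, g0, g2', g1', g0']; module)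
  have i2' := hinv (T *ᵥ (T *ᵥ v) - (2 : F) • (T *ᵥ v) + v) (T *ᵥ (T *ᵥ w)) (by
    simp only [mulVec_sub, mulVec_add, mulVec_smul, g2, g1, g0]; module)
  have hn : ∀ u : V6 F, nMat c y *ᵥ u = y.1 *ᵥ u + (y⁻¹ : S6 F).1 *ᵥ u - c • u := fun u => by
    rw [nMat, zMat, sub_mulVec, add_mulVec, smul_mulVec, one_mulVec]
  have n0 : nMat c y *ᵥ v = 0 := by rw [hn, g0, i0]; module
  have n0' : nMat c y *ᵥ w = 0 := by rw [hn, g0', i0']; module
  have n1 : nMat c y *ᵥ (T *ᵥ v) = (-c) • v + (2 : F) • w := by rw [hn, g1, i1]; module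
  have n1' : nMat c y *ᵥ (T *ᵥ w) = (-2 : F) • v + c • w := by rw [hn, g1', i1']; module
  have n2 : nMat c y *ᵥ (T *ᵥ (T *ᵥ v)) = (-2 * c) • (T *ᵥ v) + c • v + (4 : F) • (T *ᵥ w) := by
    rw [hn, g2, i2]; module
  have n2' : nMat c y *ᵥ (T *ᵥ (T *ᵥ w)) = (-4 : F) • (T *ᵥ v) + (2 * c) • (T *ᵥ w) + c • w := by
    rw [hn, g2', i2']; module
  refine ⟨ext_six hh hm hd hshift hT hTh hvw ?_ ?_ ?_ ?_ ?_ ?_, fun e2 => ?_⟩
  iterate 6
    · rw [show nMat c y ^ 3 = nMat c y * (nMat c y * nMat c y) by noncomm_ring, ← mulVec_mulVec, ← mulVec_mulVec,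
        zero_mulVec]
      simp [-mulVec_mulVec, -neg_smul, mulVec_add, mulVec_neg, mulVec_smul, neg_mul, n0, n0', n1, n1', n2, n2']
  have e3 : ((2 : F) * c ^ 2 - 8) • v = 0 := by
    have : nMat c y ^ 2 *ᵥ (T *ᵥ (T *ᵥ v)) = ((2 : F) * c ^ 2 - 8) • v := by
      rw [pow_two, ← mulVec_mulVec, n2, mulVec_add, mulVec_add, mulVec_smul, mulVec_smul, mulVec_smul, n1, n0, n1']
      module
    rw [← this, e2, zero_mulVec]
  obtain ⟨p, hp⟩ := hw
  have hv0 : v ≠ 0 := by rintro rfl; simp at hp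
  exact hc (mul_left_cancel₀ two_ne (by
    linear_combination (smul_eq_zero.1 e3).resolve_right hv0 + 2 * three_eq (F := F)))

end Witness

end H2.Cover.Sp6
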