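import Cfsg.Agent.H2.Cover.Sp6Geom
import Cfsg.Agent.H2.Cover.Sp6Witness
import Cfsg.Agent.H2.Cover.RootConj

/-!
`PSp_6` in characteristic three is covered by the conjugates of a plane stabiliser and of the normaliser of a cubic
field.
-/

set_option autoImplicit false
set_option linter.unusedSectionVars false
set_option linter.unusedSimpArgs false

namespace H2.Cover.Sp6

open H48 Matrix Polynomial

variable {F : Type*} [Field F] [CharP F 3]

/-- An element with a vanishing nilpotent part fixes a plane. -/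
theorem planeInv_kernel {g : S6 F} {c : F} {a : V6 F} (ha : nMat c g *ᵥ a = 0) (hb : sf a (g.1 *ᵥ a) ≠ 0) :
    PlaneInv g := by
  refine ⟨a, g.1 *ᵥ a, hb, Submodule.subset_span (by simp), ?_⟩
  rw [g_n_g c g a, mulVec_mulVec, ← (nMat_commute c g).eq, ← mulVec_mulVec, ha, mulVec_zero, add_zero]
  exact sub_mem (Submodule.smul_mem _ _ (Submodule.subset_span (by simp))) (Submodule.subset_span (by simp))

/-- Polarisation on a kernel without plane. -/
theorem kernel_form {g : S6 F} {c : F} (h : ∀ a : V6 F, nMat c g *ᵥ a = 0 → sf a (g.1 *ᵥ a) = 0) {a b : V6 F}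
    (ha : nMat c g *ᵥ a = 0) (hb : nMat c g *ᵥ b = 0) : sf a (g.1 *ᵥ b) = -c * sf a b := by
  have hp := h (a + b) (by rw [mulVec_add, ha, hb, add_zero])
  simp only [mulVec_add, map_add, LinearMap.add_apply, h a ha, h b hb, zero_add, add_zero] at hp
  have hgi : (g⁻¹ : S6 F).1 *ᵥ b = c • b - g.1 *ᵥ b := by
    have := hb
    rw [nMat, zMat, sub_mulVec, add_mulVec, smul_mulVec, one_mulVec] at this
    linear_combination (norm := module) this
  have e : sf b (g.1 *ᵥ a) = -(c * sf a b - sf a (g.1 *ᵥ b)) := by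
    rw [sf_swap, sf_adj, hgi, map_sub, map_smul, smul_eq_mul]
  linear_combination -hp + e + sf a (g.1 *ᵥ b) * three_eq (F := F)

theorem planeInv_zero {g : S6 F} {c : F} (hn : nMat c g = 0) : PlaneInv g := by
  by_cases h : ∀ a : V6 F, nMat c g *ᵥ a = 0 → sf a (g.1 *ᵥ a) = 0
  · have hs : ∀ b : V6 F, g.1 *ᵥ b = (-c) • b := fun b => by
      refine sub_eq_zero.1 (eq_zero_of_sf fun a => ?_)
      rw [sf_swap, map_sub, map_smul, kernel_form h (by rw [hn, zero_mulVec]) (by rw [hn, zero_mulVec]),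
        smul_eq_mul, sub_self, neg_zero]
    obtain ⟨b, hb⟩ := exists_sf_ne (u := (Pi.single (Sum.inl 0) 1 : V6 F)) (by simp)
    refine ⟨_, b, hb, ?_, ?_⟩ <;> rw [hs] <;> exact Submodule.smul_mem _ _ (Submodule.subset_span (by simp))
  · push Not at h
    obtain ⟨a, ha, hb⟩ := h
    exact planeInv_kernel ha hb

/-- A nilpotent part of square zero. -/
theorem planeInv_sq_zero {g : S6 F} {c : F} (hc : c ^ 2 ≠ 1) (h2 : nMat c g ^ 2 = 0) : PlaneInv g := by
  by_cases h : ∀ a : V6 F, nMat c g *ᵥ a = 0 → sf a (g.1 *ᵥ a) = 0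
  · set n := nMat c g with hn
    have hti : ∀ a b : V6 F, n *ᵥ a = 0 → n *ᵥ b = 0 → sf a b = 0 := by
      intro a b ha hb
      have hgb : n *ᵥ (g.1 *ᵥ b) = 0 := by
        rw [mulVec_mulVec, ← (nMat_commute c g).eq, ← hn, ← mulVec_mulVec, hb, mulVec_zero]
      have e1 := kernel_form h ha hb
      have e2 := kernel_form h ha hgb
      rw [g_n_g c g b, ← hn, hgb, add_zero, map_sub, map_smul, e1, smul_eq_mul] at e2
      have e3 : (c ^ 2 - 1) * sf a b = 0 := by
        linear_combination e2 + (c ^ 2 * sf a b) * three_eq (F := F)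
      exact (mul_eq_zero.1 e3).resolve_left (sub_ne_zero.2 hc)
    by_cases hn0 : n = 0
    · exact planeInv_zero hn0
    have hnn : ∀ u, n *ᵥ (n *ᵥ u) = 0 := fun u => by rw [mulVec_mulVec, ← pow_two, h2, zero_mulVec]
    have hsa := nMat_sa c g
    rw [← hn] at hsa
    have hself : ∀ u, sf (n *ᵥ u) u = 0 := fun u => by
      have := n_orth c g 1 0 u
      simpa using this
    obtain ⟨x, y, hxy⟩ : ∃ x y, sf (n *ᵥ x) y ≠ 0 := by
      by_contra hcon
      push Not at hcon
      exact hn0 (Matrix.ext_iff_mulVec.2 fun u => by rw [zero_mulVec]; exact eq_zero_of_sf (hcon u))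
    have hyx : sf (n *ᵥ y) x = -sf (n *ᵥ x) y := by rw [hsa, sf_swap]
    let S : Submodule F (V6 F) := LinearMap.ker (Matrix.mulVecLin n)
    have hS : ∀ {ι : Type} [Fintype ι] (u : ι → V6 F), LinearIndependent F u → (∀ i, n *ᵥ u i = 0) →
        Fintype.card ι ≤ 3 := fun u hu h0 => ti_card_le u hu fun i j => hti _ _ (h0 i) (h0 j)
    have hdS : Module.finrank F S ≤ 3 := by
      have hb := hS (fun i => (Module.finBasis F S i : V6 F))
        ((Module.finBasis F S).linearIndependent.map' S.subtype (by simp)) (fun i => (Module.finBasis F S i).2)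
      simpa using hb
    set β := sf (n *ᵥ x) y with hβ
    obtain ⟨u, hu⟩ : ∃ u, u ∉ Submodule.span F ({x, y} : Set (V6 F)) ⊔ S := by
      by_contra hcon
      push Not at hcon
      have e : Submodule.span F ({x, y} : Set (V6 F)) ⊔ S = ⊤ := eq_top_iff.2 fun z _ => hcon z
      have h1 := Submodule.finrank_sup_add_finrank_inf_eq (Submodule.span F ({x, y} : Set (V6 F))) S
      classical
      have h3 : Module.finrank F (Submodule.span F ({x, y} : Set (V6 F))) ≤ 2 := by
        have h4 := finrank_span_finset_le_card (R := F) ({x, y} : Finset (V6 F))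
        rw [Set.finrank, Finset.coe_pair] at h4
        exact h4.trans Finset.card_le_two
      rw [e, finrank_top, Module.finrank_fintype_fun_eq_card, Fintype.card_sum, Fintype.card_fin] at h1
      omega
    set pr : V6 F → V6 F := fun z => z + (-(sf (n *ᵥ z) y) / β) • x + (sf (n *ᵥ z) x / β) • y with hpr
    have hp1 : ∀ z, sf (n *ᵥ pr z) x = 0 := fun z => by
      simp [hpr, mulVec_add, mulVec_smul, hself, hyx]
      field_simp
      ring
    have hp2 : ∀ z, sf (n *ᵥ pr z) y = 0 := fun z => by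
      simp [hpr, mulVec_add, mulVec_smul, hself, ← hβ]
      field_simp
      ring
    set u' := pr u with hu'
    have hu0 : n *ᵥ u' ≠ 0 := fun e => hu (by
      have e1 : u = u' - ((-(sf (n *ᵥ u) y) / β) • x + (sf (n *ᵥ u) x / β) • y) := by simp [hu', hpr]
      rw [e1]
      refine sub_mem (Submodule.mem_sup_right e) (Submodule.mem_sup_left ?_)
      exact add_mem (Submodule.smul_mem _ _ (Submodule.subset_span (by simp)))
        (Submodule.smul_mem _ _ (Submodule.subset_span (by simp))))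
    obtain ⟨t, ht⟩ := exists_sf_ne hu0
    set t' := pr t with ht'
    have hsw : ∀ a b, sf (n *ᵥ a) b = -sf (n *ᵥ b) a := fun a b => by
      rw [hsa b a, sf_swap (n *ᵥ a) b, neg_neg]
    have hq1 : sf (n *ᵥ u') x = 0 := hp1 u
    have hq2 : sf (n *ᵥ u') y = 0 := hp2 u
    have hγ : sf (n *ᵥ u') t' ≠ 0 := by
      simpa [ht', hpr, hq1, hq2] using ht
    let U : Fin 4 → V6 F := ![n *ᵥ x, n *ᵥ y, n *ᵥ u', n *ᵥ t']
    have hU : LinearIndependent F U := by
      rw [Fintype.linearIndependent_iff]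
      intro d hd
      have hd' : d 0 • (n *ᵥ x) + d 1 • (n *ᵥ y) + d 2 • (n *ᵥ u') + d 3 • (n *ᵥ t') = 0 := by
        simpa [U, Fin.sum_univ_four] using hd
      have ex := congrArg (fun z => sf z x) hd'
      have ey := congrArg (fun z => sf z y) hd'
      have eu := congrArg (fun z => sf z u') hd'
      have et := congrArg (fun z => sf z t') hd'
      have q1 := hp1 u
      have q2 := hp2 u
      have q3 := hp1 t
      have q4 := hp2 t
      rw [← hu'] at q1 q2
      rw [← ht'] at q3 q4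
      have hxy0 : β ≠ 0 := hxy
      simp [hself, hyx, ← hβ, q1, q2, q3, q4, hsw x u', hsw y u', hsw x t', hsw y t', hsw t' u', hxy0, hγ]
        at ex ey eu et
      intro i
      fin_cases i <;> assumption
    have := hS U hU (fun i => by fin_cases i <;> exact hnn _)
    simp at this
  · push Not at h
    obtain ⟨a, ha, hb⟩ := h
    exact planeInv_kernel ha hb

section Cover

variable [Finite F] {h : F[X]} (hh : Irreducible h) (hm : h.Monic) (hd : h.natDegree = 3)
  (hshift : h.comp (X + 1) = h)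
variable {T : M6 F} (hT : SA T) (hTh : aeval T h = 0) {v w : V6 F}
variable (hvw : ∀ i : Fin 3, sf (T ^ (i : ℕ) *ᵥ v) w = (![0, 0, 1] : Fin 3 → F) i)

/-- The property to prove. -/
def Covered (T : M6 F) (g : S6 F) : Prop :=
  (∃ x : S6 F, x * g * x⁻¹ ∈ subStab (stdPlane F)) ∨ ∃ x : S6 F, x * g * x⁻¹ ∈ algNorm T

theorem covered_conj {T : M6 F} {g y : S6 F} (hy : y ∈ algNorm T) (h : ∃ x : S6 F, x * g * x⁻¹ = y) :
    Covered T g :=
  Or.inr (h.imp fun _ hx => by rw [hx]; exact hy)

theorem covered_central {T : M6 F} {g e : S6 F} (he : e ∈ Subgroup.center (S6 F)) (h : Covered T (e * g)) :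
    Covered T g := by
  have key : ∀ K : Subgroup (S6 F), Subgroup.center (S6 F) ≤ K → ∀ x : S6 F, x * (e * g) * x⁻¹ ∈ K →
      x * g * x⁻¹ ∈ K := fun K hK x hx => by
    have e1 : x * g * x⁻¹ = e⁻¹ * (x * (e * g) * x⁻¹) := by
      have := Subgroup.mem_center_iff.1 he x
      rw [← mul_assoc x e g, this]
      group
    rw [e1]
    exact K.mul_mem (K.inv_mem (hK he)) hx
  exact h.imp (fun ⟨x, hx⟩ => ⟨x, key _ (center_le_subStab _) x hx⟩)
    fun ⟨x, hx⟩ => ⟨x, key _ (center_le_algNorm T) x hx⟩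

include hh hm hd hT hTh

/-- Cubic fields. -/
theorem covered_cubic {g : S6 F} {f : F[X]} (hf : Irreducible f) (hfd : f.natDegree = 3)
    (hz : aeval (zMat g) f = 0) : Covered T g := by
  obtain ⟨p, hp⟩ := exists_root_polynomial (zMat g) hh (fun f' hf' _ hdvd => by
    have := (hf'.associated_of_dvd hf (hdvd.trans (minpoly.dvd F _ hz)))
    rw [natDegree_eq_of_degree_eq (degree_eq_degree_of_associated this), hfd, hd])
  obtain ⟨x, hx⟩ := exists_conj hh hm hd ((zMat_sa g).aeval p) hp hT hTh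
  refine Or.inr ⟨x, mem_algNorm (r := X) ?_⟩
  have hc : g.1 * aeval (zMat g) p = aeval (zMat g) p * g.1 :=
    (Algebra.commute_of_mem_adjoin_singleton_of_commute (aeval_mem_adjoin_singleton F _) (zMat_commute g)).eq
  rw [aeval_X]
  show x.1 * g.1 * (x⁻¹ : S6 F).1 * T = T * (x.1 * g.1 * (x⁻¹ : S6 F).1)
  have e : (x⁻¹ : S6 F).1 * T = aeval (zMat g) p * (x⁻¹ : S6 F).1 := by
    calc _ = (x⁻¹ : S6 F).1 * (T * x.1) * (x⁻¹ : S6 F).1 := by
          rw [Matrix.mul_assoc, Matrix.mul_assoc, smat_mul_inv, Matrix.mul_one]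
      _ = _ := by rw [← hx, ← Matrix.mul_assoc, smat_inv_mul, Matrix.one_mul]
  calc _ = x.1 * (g.1 * ((x⁻¹ : S6 F).1 * T)) := by simp only [Matrix.mul_assoc]
    _ = x.1 * (g.1 * aeval (zMat g) p) * (x⁻¹ : S6 F).1 := by rw [e]; simp only [Matrix.mul_assoc]
    _ = (x.1 * aeval (zMat g) p) * (g.1 * (x⁻¹ : S6 F).1) := by rw [hc]; simp only [Matrix.mul_assoc]
    _ = _ := by rw [hx]; simp only [Matrix.mul_assoc]

include hshift hvw

/-- Elements with unipotent part and eigenvalue one. -/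
theorem covered_unipotent {g : S6 F} (h3 : nMat (-1) g ^ 3 = 0) : Covered T g := by
  set N := g.1 - 1 with hN
  set n := nMat (-1) g with hn
  have hNn : N ^ 2 = g.1 * n := by
    have : g.1 * (g.1 + (g⁻¹ : S6 F).1 - (-1 : F) • (1 : M6 F)) = g.1 ^ 2 + g.1 + 1 := by
      rw [neg_smul, one_smul, sub_neg_eq_add, mul_add, mul_add, smat_mul_inv, Matrix.mul_one, pow_two]
      abel
    rw [hN, sub_one_sq, ← this]
    rfl
  have hcm : Commute g.1 n := nMat_commute (-1) g
  have hNj : ∀ j : ℕ, N ^ (2 * j) = g.1 ^ j * n ^ j := fun j => by rw [pow_mul, hNn, hcm.mul_pow]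
  have h6 : N ^ 6 = 0 := by rw [show 6 = 2 * 3 from rfl, hNj, h3, mul_zero]
  by_cases h5 : N ^ 5 = 0
  swap
  · obtain ⟨u, hu⟩ := exists_startB h6 h5
    obtain ⟨a, a1, a3, a5⟩ := normB h6 hu
    obtain ⟨y, hy, hy6, u', hu'⟩ := witnessB hh hm hd hshift hT hTh hvw (sf u (N ^ 5 *ᵥ u))
    obtain ⟨b, b1, b3, b5⟩ := normB hy6 (v := u') (by rw [hu']; exact hu)
    exact covered_conj hy (classB h6 hy6 (a1.trans b1.symm) (a3.trans b3.symm)
      (a5.trans (by rw [b5, hu'])) (by rw [a5]; exact hu))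
  have h4 : N ^ 4 = 0 := by
    by_contra h4
    have e4 : N ^ 4 = n ^ 2 := by
      have hgN : g.1 = 1 + N := by rw [hN, add_sub_cancel]
      have hz : g.1 * N ^ 4 = N ^ 4 := by
        rw [hgN, add_mul, one_mul, ← pow_succ', h5, add_zero]
      have hinv : (g⁻¹ : S6 F).1 * N ^ 4 = N ^ 4 := by
        conv_lhs => rw [← hz, ← Matrix.mul_assoc, smat_inv_mul, Matrix.one_mul]
      conv_lhs => rw [← hinv, ← hinv, show (4 : ℕ) = 2 * 2 from rfl, hNj, pow_two g.1]
      simp only [← Matrix.mul_assoc]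
      rw [Matrix.mul_assoc _ (g⁻¹ : S6 F).1, smat_inv_mul, Matrix.mul_one, smat_inv_mul, Matrix.one_mul]
    have hself : ∀ a, sf a (N ^ 4 *ᵥ a) = 0 := fun a => by
      rw [e4]; simpa using n_orth (-1) g 0 2 a
    have hadj : ∀ a b, sf (N ^ 4 *ᵥ a) b = sf a (N ^ 4 *ᵥ b) := fun a b => by
      rw [e4]; exact nMat_pow_sa (-1) g 2 a b
    obtain ⟨x, y, hxy⟩ : ∃ x y, sf x (N ^ 4 *ᵥ y) ≠ 0 := by
      by_contra hcon
      push Not at hcon
      refine h4 (Matrix.ext_iff_mulVec.2 fun b => ?_)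
      rw [zero_mulVec]
      exact eq_zero_of_sf fun a => by rw [sf_swap, hcon, neg_zero]
    have hyx : sf y (N ^ 4 *ᵥ x) ≠ 0 := by
      rw [sf_swap, hadj]
      exact neg_ne_zero.2 hxy
    let U : Fin 5 ⊕ Fin 2 → V6 F := Sum.elim (fun i => N ^ (i : ℕ) *ᵥ x) (fun i => N ^ (i : ℕ) *ᵥ y)
    have hU : LinearIndependent F U := by
      rw [Fintype.linearIndependent_iff]
      intro d hd
      set a : Fin 5 → F := fun i => d (Sum.inl i)
      set b : Fin 2 → F := fun i => d (Sum.inr i)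
      have e : a 0 • x + a 1 • (N ^ 1 *ᵥ x) + a 2 • (N ^ 2 *ᵥ x) + a 3 • (N ^ 3 *ᵥ x) + a 4 • (N ^ 4 *ᵥ x) +
          (b 0 • y + b 1 • (N ^ 1 *ᵥ y)) = 0 := by
        rw [← hd, Fintype.sum_sum_type, Fin.sum_univ_five, Fin.sum_univ_two]
        simp [U, a, b]
      have hz : ∀ k, 5 ≤ k → ∀ u : V6 F, N ^ k *ᵥ u = 0 := fun k hk u => by
        rw [pow_eq_zero_of_le hk h5, zero_mulVec]
      have f4 := congrArg (N ^ 4 *ᵥ ·) e
      simp only [mulVec_add, mulVec_smul, mulVec_zero] at f4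
      simp only [mulVec_mulVec, ← pow_add] at f4
      simp [hz] at f4
      have a0 := congrArg (fun z => sf y z) f4
      have b0 := congrArg (fun z => sf x z) f4
      simp [hself, hxy, hyx] at a0 b0
      have f3 := congrArg (N ^ 3 *ᵥ ·) e
      simp only [mulVec_add, mulVec_smul, mulVec_zero] at f3
      simp only [mulVec_mulVec, ← pow_add] at f3
      simp [hz, a0, b0] at f3
      have a1 := congrArg (fun z => sf y z) f3
      have b1 := congrArg (fun z => sf x z) f3
      simp [hself, hxy, hyx] at a1 b1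
      have hne : N ^ 4 *ᵥ x ≠ 0 := fun e0 => hyx (by simp [e0])
      have f2 := congrArg (N ^ 2 *ᵥ ·) e
      simp only [mulVec_add, mulVec_smul, mulVec_zero] at f2
      simp only [mulVec_mulVec, ← pow_add] at f2
      simp [hz, a0, b0, a1, b1, hne] at f2
      have f1 := congrArg (N ^ 1 *ᵥ ·) e
      simp only [mulVec_add, mulVec_smul, mulVec_zero] at f1
      simp only [mulVec_mulVec, ← pow_add] at f1
      simp [hz, a0, b0, a1, b1, f2, hne] at f1
      simp [a0, b0, a1, b1, f2, f1, hne] at e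
      rintro (i | i) <;> fin_cases i <;> assumption
    have := hU.fintype_card_le_finrank
    simp at this
  by_cases hN3 : N ^ 3 = 0
  swap
  · obtain ⟨u, hu⟩ : ∃ u, sf u (N ^ 3 *ᵥ u) ≠ 0 := by
      by_contra hcon
      push Not at hcon
      have h5' : N ^ 5 = 0 := h5
      have hadj : ∀ a b, sf (N ^ 3 *ᵥ a) b = -sf a (N ^ 3 *ᵥ b) := fun a b => by
        have := (adjB_pow h6 a b).2.1
        rw [← hN, h4, h5', zero_mulVec, map_zero, mul_zero, mul_zero, sub_zero, add_zero] at this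
        exact this
      refine hN3 (Matrix.ext_iff_mulVec.2 fun b => ?_)
      rw [zero_mulVec]
      refine eq_zero_of_sf fun a => ?_
      have h1 := hcon (a + b)
      simp only [mulVec_add, map_add, LinearMap.add_apply, hcon, zero_add, add_zero] at h1
      have h2 : sf b (N ^ 3 *ᵥ a) = sf a (N ^ 3 *ᵥ b) := by rw [sf_swap, hadj, neg_neg]
      rw [sf_swap, neg_eq_zero]
      exact (mul_eq_zero.1 (show (2 : F) * sf a (N ^ 3 *ᵥ b) = 0 by linear_combination h1 - h2)).resolve_left two_ne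
    set μ := sf u (N ^ 3 *ᵥ u) with hμ
    let W : Submodule F (V6 F) := Submodule.span F (Set.range fun i : Fin 4 => N ^ (i : ℕ) *ᵥ u)
    have hz : ∀ k, 4 ≤ k → N ^ k = 0 := fun k hk => pow_eq_zero_of_le hk h4
    have hA := fun a b => adjB h6 (x := a) (y := b)
    rw [← hN] at hA
    have hG : ∀ i j, 4 ≤ i + j → sf (N ^ i *ᵥ u) (N ^ j *ᵥ u) = 0 := by
      intro i
      induction i with
      | zero => intro j hj; rw [hz j (by omega), zero_mulVec, map_zero]
      | succ i ih =>
        intro j hj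
        rw [pow_succ', ← mulVec_mulVec, hA]
        simp only [mulVec_mulVec, ← pow_add]
        rw [ih _ (by omega), ih _ (by omega), ih _ (by omega), ih _ (by omega), ih _ (by omega)]
        ring
    have s1 : ∀ j, sf (N ^ 1 *ᵥ u) (N ^ j *ᵥ u) = -sf u (N ^ (1 + j) *ᵥ u) + sf u (N ^ (2 + j) *ᵥ u) -
        sf u (N ^ (3 + j) *ᵥ u) + sf u (N ^ (4 + j) *ᵥ u) - sf u (N ^ (5 + j) *ᵥ u) := fun j => by
      have := hA u (N ^ j *ᵥ u)
      simp only [mulVec_mulVec, ← pow_add] at this
      rw [pow_one]; exact this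
    have g30 : sf (N ^ 3 *ᵥ u) u = -μ := sf_swap _ _
    have g12 : sf (N ^ 1 *ᵥ u) (N ^ 2 *ᵥ u) = -μ := by
      rw [s1]
      simp [hz, hμ]
    have g21 : sf (N ^ 2 *ᵥ u) (N ^ 1 *ᵥ u) = μ := by rw [sf_swap, g12, neg_neg]
    have hWn : Nondeg W := by
      intro x hx hxy
      obtain ⟨d, rfl⟩ := (Submodule.mem_span_range_iff_exists_fun F).1 hx
      have hk : ∀ j : Fin 4, sf (N ^ (j : ℕ) *ᵥ u) (∑ i, d i • (N ^ (i : ℕ) *ᵥ u)) = 0 :=
        fun j => hxy _ (Submodule.subset_span ⟨j, rfl⟩)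
      have k3 := hk 3
      have k2 := hk 2
      have k1 := hk 1
      have k0 := hk 0
      simp [Fin.sum_univ_four, -mulVec_mulVec] at k3 k2 k1 k0
      have e3 : d 0 * sf (N ^ 3 *ᵥ u) u + d 1 * sf (N ^ 3 *ᵥ u) (N ^ 1 *ᵥ u) +
          d 2 * sf (N ^ 3 *ᵥ u) (N ^ 2 *ᵥ u) + d 3 * sf (N ^ 3 *ᵥ u) (N ^ 3 *ᵥ u) = 0 := by simpa using k3
      rw [g30, hG 3 1 (by norm_num), hG 3 2 (by norm_num), hG 3 3 (by norm_num)] at e3
      simp only [mul_zero, add_zero, mul_neg, neg_eq_zero] at e3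
      have d0 : d 0 = 0 := (mul_eq_zero.1 e3).resolve_right hu
      have e2 : d 0 * sf (N ^ 2 *ᵥ u) u + d 1 * sf (N ^ 2 *ᵥ u) (N ^ 1 *ᵥ u) +
          d 2 * sf (N ^ 2 *ᵥ u) (N ^ 2 *ᵥ u) + d 3 * sf (N ^ 2 *ᵥ u) (N ^ 3 *ᵥ u) = 0 := by simpa using k2
      rw [d0, g21, hG 2 2 (by norm_num), hG 2 3 (by norm_num)] at e2
      simp only [zero_mul, mul_zero, add_zero, zero_add] at e2
      have d1 : d 1 = 0 := (mul_eq_zero.1 e2).resolve_right hu
      have e1 : d 0 * sf (N ^ 1 *ᵥ u) u + d 1 * sf (N ^ 1 *ᵥ u) (N ^ 1 *ᵥ u) +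
          d 2 * sf (N ^ 1 *ᵥ u) (N ^ 2 *ᵥ u) + d 3 * sf (N ^ 1 *ᵥ u) (N ^ 3 *ᵥ u) = 0 := by simpa using k1
      rw [d0, d1, g12, hG 1 3 (by norm_num)] at e1
      simp only [zero_mul, mul_zero, add_zero, zero_add, mul_neg, neg_eq_zero] at e1
      have d2 : d 2 = 0 := (mul_eq_zero.1 e1).resolve_right hu
      have d3 : d 3 = 0 := by
        simpa [d0, d1, d2, ← hμ, hu] using k0
      simp [Fin.sum_univ_four, d0, d1, d2, d3]
    have hinv : Inv6 g W := fun x hx => by
      rw [show g.1 *ᵥ x = x + N *ᵥ x by rw [hN, sub_mulVec, one_mulVec, add_sub_cancel]]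
      refine add_mem hx ?_
      obtain ⟨d, rfl⟩ := (Submodule.mem_span_range_iff_exists_fun F).1 hx
      rw [mulVec_sum]
      refine sum_mem fun i _ => ?_
      rw [mulVec_smul, mulVec_mulVec, ← pow_succ']
      refine W.smul_mem _ ?_
      by_cases hi : (i : ℕ) + 1 < 4
      · exact Submodule.subset_span ⟨⟨_, hi⟩, rfl⟩
      · rw [hz _ (by omega), zero_mulVec]; exact W.zero_mem
    refine Or.inl (planeInv_conj (planeInv_nondeg hWn hinv (fun e => ?_) fun e => ?_))
    · have h0 : N ^ ((0 : Fin 4) : ℕ) *ᵥ u ∈ W := Submodule.subset_span ⟨0, rfl⟩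
      rw [e, Submodule.mem_bot] at h0
      simp at h0
      exact hu (by simp [hμ, h0])
    · have h4' := finrank_range_le_card (R := F) (fun i : Fin 4 => N ^ (i : ℕ) *ᵥ u)
      rw [Set.finrank, show Submodule.span F (Set.range fun i : Fin 4 => N ^ (i : ℕ) *ᵥ u) = ⊤ from e,
        finrank_top] at h4'
      simp at h4'
  by_cases hN2 : N ^ 2 = 0
  · refine Or.inl (planeInv_conj (planeInv_zero (c := (-1 : F)) ?_))
    have := congrArg ((g⁻¹ : S6 F).1 * ·) (hNn.symm.trans hN2)
    simpa [← Matrix.mul_assoc, smat_inv_mul] using this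
  · obtain ⟨y, hy, hy3, hy2⟩ := witnessA hh hm hd hshift hT hTh hvw
    exact covered_conj hy (classA hN3 hN2 hy3 hy2)

/-- One eigenvalue of the sum with the inverse. -/
theorem covered_linear {g : S6 F} {c : F} (h3 : nMat c g ^ 3 = 0) : Covered T g := by
  by_cases hc : c ^ 2 = 1
  · rcases mul_self_eq_one_iff.1 (show c * c = 1 by rw [← pow_two]; exact hc) with rfl | rfl
    · let e : S6 F := ⟨(-1 : F) • 1, scalar_mem (by ring)⟩
      have he : e ∈ Subgroup.center (S6 F) := (H48.mem_center_iff e).2 ⟨-1, by ring, fun x => by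
        rw [spSmulDef]; simp [e, smul_mulVec, neg_mulVec]⟩
      refine covered_central he (covered_unipotent hh hm hd hshift hT hTh hvw ?_)
      have e1 : e⁻¹ = e := inv_eq_of_mul_eq_one_right (Subtype.ext (by
        show ((-1 : F) • (1 : M6 F)) * ((-1 : F) • 1) = 1
        simp))
      have e2 : nMat (-1) (e * g) = -nMat 1 g := by
        show ((-1 : F) • (1 : M6 F)) * g.1 + ((e * g)⁻¹ : S6 F).1 - _ = _
        rw [_root_.mul_inv_rev, e1, show (g⁻¹ * e).1 = (g⁻¹ : S6 F).1 * ((-1 : F) • 1) from rfl]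
        simp [nMat, zMat]
        abel
      rw [e2, neg_pow, h3, mul_zero]
    · exact covered_unipotent hh hm hd hshift hT hTh hvw h3
  by_cases h2 : nMat c g ^ 2 = 0
  · exact Or.inl (planeInv_conj (planeInv_sq_zero hc h2))
  obtain ⟨a, a0, a1, a2⟩ := exists_vecC hc h3 h2
  obtain ⟨y, hy, hy3, hy2⟩ := witnessC hh hm hd hshift hT hTh hvw c hc
  obtain ⟨b, b0, b1, b2⟩ := exists_vecC hc hy3 hy2
  exact covered_conj hy (classC h3 hy3 a0 a1 a2 b0 b1 b2)

theorem covered (g : S6 F) : Covered T g := by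
  classical
  set z := zMat g with hz
  have hint : IsIntegral F z := IsIntegral.of_finite F z
  have hm0 := minpoly.ne_zero hint
  obtain ⟨f, hfm, hf, hfdvd⟩ := exists_monic_irreducible_factor (minpoly F z) (minpoly.not_isUnit F z)
  obtain ⟨k, r, hr, hkr⟩ := WfDvdMonoid.max_power_factor hm0 hf
  have hk : k ≠ 0 := by
    rintro rfl
    rw [pow_zero, one_mul] at hkr
    exact hr (hkr ▸ hfdvd)
  by_cases hu : IsUnit r
  swap
  · have hrne : r ≠ 0 := by rintro rfl; simp at hr
    refine Or.inl (planeInv_conj (planeInv_split (zMat_sa g) (zMat_commute g)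
      ((hf.coprime_iff_not_dvd.2 hr).pow_left (m := k)) (by rw [← hkr, ← hz, minpoly.aeval]) (fun e => hu ?_)
      fun e => hf.not_isUnit ?_))
    · have h1 := minpoly.dvd F z e
      rw [hkr] at h1
      conv_rhs at h1 => rw [← mul_one (f ^ k)]
      exact isUnit_of_dvd_one ((mul_dvd_mul_iff_left (pow_ne_zero _ hf.ne_zero)).1 h1)
    · have h1 := minpoly.dvd F z e
      rw [hkr] at h1
      conv_rhs at h1 => rw [← one_mul r]
      exact isUnit_of_dvd_one ((dvd_pow_self f hk).trans ((mul_dvd_mul_iff_right hrne).1 h1))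
  obtain ⟨j, rfl⟩ := Nat.exists_eq_succ_of_ne_zero hk
  have hass : Associated (f ^ (j + 1)) (minpoly F z) := hkr ▸ (associated_mul_unit_right _ r hu)
  have hzero : aeval z (f ^ (j + 1)) = 0 := by
    obtain ⟨s, hs⟩ := hass.symm.dvd
    rw [hs, map_mul, minpoly.aeval, zero_mul]
  have hne : aeval z (f ^ j) ≠ 0 := fun e => by
    have h1 := hass.dvd.trans (minpoly.dvd F z e)
    have := natDegree_le_of_dvd h1 (pow_ne_zero _ hf.ne_zero)
    rw [natDegree_pow, natDegree_pow] at this
    have := hf.natDegree_pos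
    nlinarith
  obtain ⟨a, ha⟩ : ∃ a, aeval z (f ^ j) *ᵥ a ≠ 0 := by
    by_contra hcon
    push Not at hcon
    exact hne (Matrix.ext_iff_mulVec.2 fun a => by rw [hcon a, zero_mulVec])
  have hle := ti_card_le _ (primary_li hf hzero ha) (fun i i' => by
    have := (zMat_sa g).orth (X ^ (i : ℕ)) (X ^ (i' : ℕ)) a
    simpa [hz] using this)
  rw [Fintype.card_fin] at hle
  have hpos := hf.natDegree_pos
  have hd3 : f.natDegree ≤ 3 := le_trans (Nat.le_mul_of_pos_right _ (Nat.succ_pos j)) hle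
  interval_cases hdeg : f.natDegree
  · obtain ⟨c, rfl⟩ : ∃ c, f = X - C c := ⟨-f.coeff 0, by
      conv_lhs => rw [hfm.eq_X_add_C hdeg]
      simp⟩
    refine covered_linear hh hm hd hshift hT hTh hvw (c := c) ?_
    have e : nMat c g ^ (j + 1) = 0 := by
      rw [← hzero, map_pow, map_sub, aeval_X, aeval_C, Algebra.algebraMap_eq_smul_one]
      rfl
    exact pow_eq_zero_of_le (by omega) e
  · obtain rfl : j = 0 := by omega
    exact (no_quadratic (zMat_sa g) hf hfm hdeg (by simpa using hzero)).elim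
  · obtain rfl : j = 0 := by omega
    exact covered_cubic hh hm hd hT hTh hf hdeg (by simpa using hzero)

end Cover

/-- A self-adjoint root built from a matrix root on half of the space. -/
theorem exists_sa_root {h : F[X]} {J : Matrix (Fin 3) (Fin 3) F} (hJ : aeval J h = 0) :
    ∃ T : M6 F, SA T ∧ aeval T h = 0 := by
  refine ⟨fromBlocks J 0 0 Jᵀ, fun x y => ?_, ?_⟩
  · have e : (fromBlocks J 0 0 Jᵀ)ᵀ * Matrix.J (Fin 3) F = Matrix.J (Fin 3) F * fromBlocks J 0 0 Jᵀ := by
      simp [Matrix.J, fromBlocks_transpose, fromBlocks_multiply]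
    rw [sf_def, sf_def, mulVec_mulVec, ← e, ← mulVec_mulVec, dotProduct_mulVec x, vecMul_transpose]
  · have key : ∀ p : F[X], aeval (fromBlocks J 0 0 Jᵀ) p = fromBlocks (aeval J p) 0 0 (aeval J p)ᵀ := by
      intro p
      induction p using Polynomial.induction_on with
      | C a =>
        rw [aeval_C, aeval_C, Algebra.algebraMap_eq_smul_one, Algebra.algebraMap_eq_smul_one, transpose_smul,
          transpose_one, ← fromBlocks_one, fromBlocks_smul, smul_zero]
      | add p q hp hq => simp [hp, hq, fromBlocks_add]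
      | monomial k a ih =>
        rw [pow_succ, ← mul_assoc, map_mul, map_mul _ (C a * X ^ k) X, ih, aeval_X, aeval_X, fromBlocks_multiply]
        have hc : Commute J (aeval J (C a * X ^ k)) :=
          Algebra.commute_of_mem_adjoin_singleton_of_commute (aeval_mem_adjoin_singleton F J) (Commute.refl J)
        rw [← transpose_mul, hc.eq]
        simp only [Matrix.mul_zero, Matrix.zero_mul, add_zero, zero_add]
    rw [key, hJ, transpose_zero, fromBlocks_zero]

/-- The clause for `PSp_6(3^a)`. -/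
theorem twoCover [Finite F] : TwoCover (S6 F ⧸ Subgroup.center (S6 F)) := by
  obtain ⟨c0, hc0⟩ : ∃ c0 : F, ∀ t : F, t ^ 3 - t ≠ c0 := by
    by_contra hcon
    push Not at hcon
    have := (Finite.injective_iff_surjective (f := fun t : F => t ^ 3 - t)).2 hcon (a₁ := 0) (a₂ := 1) (by simp)
    exact zero_ne_one this
  set h : F[X] := X ^ 3 - X - C c0 with hh0
  have hm : h.Monic := by rw [hh0]; monicity!
  have hd : h.natDegree = 3 := by rw [hh0]; compute_degree!
  have hh : Irreducible h := irreducible_of_degree_le_three_of_not_isRoot (by rw [hd]; decide) (fun t ht => hc0 t (by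
    simp [hh0, IsRoot, sub_eq_zero] at ht
    exact ht))
  have hshift : h.comp (X + 1) = h := by
    have h30 : (3 : F[X]) = 0 := by rw [← map_ofNat C 3, three_eq, map_zero]
    simp [hh0]
    linear_combination (X ^ 2 + X) * h30
  obtain ⟨J, hJ⟩ := exists_matrix_root (n := Fin 3) hh (by rw [hd, Fintype.card_fin])
  obtain ⟨T, hT, hTh⟩ := exists_sa_root hJ
  set v : V6 F := Pi.single (Sum.inl 0) 1 with hv
  obtain ⟨w, hvw⟩ := exists_partner hh hd hT hTh (v := v) (by simp [hv]) ![0, 0, 1]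
  exact TwoCover.quotient _ (subStab (stdPlane F)) (algNorm T) subStab_ne_top (algNorm_ne_top hh hd hT hTh)
    (center_le_subStab _) (center_le_algNorm T) fun g => covered hh hm hd hshift hT hTh hvw g

end H2.Cover.Sp6
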