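import Cfsg.Agent.H2.Cover.Sp6Classes
import Cfsg.Agent.H2.Cover.RootLift

/-!
Elements of `Sp_6` in characteristic three that fix a non-degenerate plane: splittings, totally isotropic subspaces.
-/

set_option autoImplicit false
set_option linter.unusedSectionVars false
set_option linter.unusedSimpArgs false

namespace H2.Cover.Sp6

open H48 Matrix Polynomial

variable {F : Type*} [Field F]

/-- The orthogonal projection away from a hyperbolic pair. -/
def projPair (a b x : V6 F) : V6 F := x + (sf b x / sf a b) • a - (sf a x / sf a b) • b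

theorem sf_projPair_left {a b : V6 F} (h : sf a b ≠ 0) (x : V6 F) : sf a (projPair a b x) = 0 := by
  simp [projPair, h]

theorem sf_projPair_right {a b : V6 F} (h : sf a b ≠ 0) (x : V6 F) : sf b (projPair a b x) = 0 := by
  simp [projPair, sf_swap a b, h]

/-- The orthogonal complement. -/
def perp (W : Submodule F (V6 F)) : Submodule F (V6 F) where
  carrier := {x | ∀ w ∈ W, sf w x = 0}
  zero_mem' := fun w _ => by simp
  add_mem' := fun {a b} ha hb w hw => by simp [ha w hw, hb w hw]
  smul_mem' := fun c {a} ha w hw => by simp [ha w hw]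

/-- A totally isotropic family has at most three independent members. -/
theorem ti_card_le {ι : Type*} [Fintype ι] (u : ι → V6 F) (hu : LinearIndependent F u)
    (h0 : ∀ i j, sf (u i) (u j) = 0) : Fintype.card ι ≤ 3 := by
  classical
  let L : V6 F →ₗ[F] (ι → F) := LinearMap.pi fun i => sf (u i)
  have hL : Function.Surjective L := by
    intro c
    let B := Module.Basis.span hu
    obtain ⟨φ, hφ⟩ := LinearMap.exists_extend (B.constr F c)
    obtain ⟨z, hz⟩ := exists_sf_eq φ
    refine ⟨z, funext fun i => ?_⟩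
    have := LinearMap.congr_fun hφ (B i)
    simpa [L, hz, B, Module.Basis.span_apply, Finsupp.single_apply] using this
  have h1 := LinearMap.finrank_range_add_finrank_ker L
  rw [LinearMap.range_eq_top.2 hL, finrank_top, Module.finrank_fintype_fun_eq_card,
    Module.finrank_fintype_fun_eq_card, Fintype.card_sum, Fintype.card_fin] at h1
  have h2 : Submodule.span F (Set.range u) ≤ LinearMap.ker L := by
    rw [Submodule.span_le]
    rintro _ ⟨i, rfl⟩
    exact LinearMap.mem_ker.2 (funext fun j => h0 j i)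
  have h3 := Submodule.finrank_mono h2
  rw [finrank_span_eq_card hu] at h3
  omega

/-- Invariance of a subspace under the matrix of an element. -/
def Inv6 (g : S6 F) (W : Submodule F (V6 F)) : Prop := ∀ w ∈ W, g.1 *ᵥ w ∈ W

/-- Non-degeneracy of a subspace. -/
def Nondeg (W : Submodule F (V6 F)) : Prop := ∀ x ∈ W, (∀ y ∈ W, sf y x = 0) → x = 0

theorem perp_sup {W : Submodule F (V6 F)} (hW : Nondeg W) (z : V6 F) :
    ∃ w ∈ W, ∀ y ∈ W, sf y (z - w) = 0 := by
  let Φ : W →ₗ[F] Module.Dual F W := (sf.flip.comp W.subtype).compr₂ LinearMap.id |>.compl₂ W.subtype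
  have hΦ : ∀ x y : W, Φ x y = sf y.1 x.1 := fun x y => rfl
  have hinj : Function.Injective Φ := by
    rw [← LinearMap.ker_eq_bot, LinearMap.ker_eq_bot']
    intro x hx
    exact Subtype.ext (hW x.1 x.2 fun y hy => by
      rw [← hΦ x ⟨y, hy⟩, hx, LinearMap.zero_apply])
  obtain ⟨w, hw⟩ := (LinearMap.injective_iff_surjective_of_finrank_eq_finrank
    (Subspace.dual_finrank_eq).symm).1 hinj ((sf.flip z).comp W.subtype)
  refine ⟨w.1, w.2, fun y hy => ?_⟩
  have := LinearMap.congr_fun hw ⟨y, hy⟩
  rw [hΦ] at this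
  simp at this
  simp [this]

theorem planeInv_small {g : S6 F} {W : Submodule F (V6 F)} (hW : Nondeg W) (hg : Inv6 g W) (hne : W ≠ ⊥)
    (hd : Module.finrank F W ≤ 3) : PlaneInv g := by
  obtain ⟨a, ha, ha0⟩ := Submodule.exists_mem_ne_zero_of_ne_bot hne
  obtain ⟨b, hb, hab⟩ : ∃ b ∈ W, sf a b ≠ 0 := by
    by_contra hc
    push Not at hc
    exact ha0 (hW a ha fun y hy => sf_eq_zero_comm (hc y hy))
  have hsub : ∀ x ∈ W, x ∈ Submodule.span F ({a, b} : Set (V6 F)) := by
    intro x hx
    by_contra hn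
    have hpm : ∀ y ∈ W, projPair a b y ∈ W := fun y hy =>
      sub_mem (add_mem hy (W.smul_mem _ ha)) (W.smul_mem _ hb)
    set x' := projPair a b x with hx'
    have hx0 : x' ≠ 0 := fun e => hn (by
      rw [hx', projPair, sub_eq_zero] at e
      rw [eq_sub_of_add_eq e]
      exact sub_mem (Submodule.smul_mem _ _ (Submodule.subset_span (by simp)))
        (Submodule.smul_mem _ _ (Submodule.subset_span (by simp))))
    obtain ⟨y, hy, hxy⟩ : ∃ y ∈ W, sf x' y ≠ 0 := by
      by_contra hc
      push Not at hc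
      exact hx0 (hW x' (hpm x hx) fun y hy => sf_eq_zero_comm (hc y hy))
    have e1 := sf_projPair_left hab x
    have e2 := sf_projPair_right hab x
    rw [← hx'] at e1 e2
    set y' := projPair a b y with hy'
    have f1 := sf_projPair_left hab y
    have f2 := sf_projPair_right hab y
    rw [← hy'] at f1 f2
    have hxy' : sf x' y' ≠ 0 := by
      simpa [hy', projPair, sf_eq_zero_comm e1, sf_eq_zero_comm e2] using hxy
    let u : Fin 4 → W := ![⟨a, ha⟩, ⟨b, hb⟩, ⟨x', hpm x hx⟩, ⟨y', hpm y hy⟩]
    have hu : LinearIndependent F u := by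
      rw [Fintype.linearIndependent_iff]
      intro c hc
      have hc' : c 0 • a + c 1 • b + c 2 • x' + c 3 • y' = 0 := by
        simpa [u, Fin.sum_univ_four] using congrArg Subtype.val hc
      have ea := congrArg (fun z => sf a z) hc'
      have eb := congrArg (fun z => sf b z) hc'
      have ex := congrArg (fun z => sf x' z) hc'
      have ey := congrArg (fun z => sf y' z) hc'
      simp [hab, sf_swap a b, e1, e2, f1, f2, sf_eq_zero_comm e1, sf_eq_zero_comm e2, sf_eq_zero_comm f1,
        sf_eq_zero_comm f2, sf_swap x' y', hxy'] at ea eb ex ey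
      intro i
      fin_cases i <;> assumption
    have := hu.fintype_card_le_finrank
    simp at this
    omega
  exact ⟨a, b, hab, hsub _ (hg a ha), hsub _ (hg b hb)⟩

theorem planeInv_nondeg {g : S6 F} {W : Submodule F (V6 F)} (hW : Nondeg W) (hg : Inv6 g W) (hne : W ≠ ⊥)
    (htop : W ≠ ⊤) : PlaneInv g := by
  by_cases hd : Module.finrank F W ≤ 3
  · exact planeInv_small hW hg hne hd
  have hP : Nondeg (perp W) := by
    intro x hx hxy
    refine eq_zero_of_sf fun z => ?_
    obtain ⟨w, hw, hzw⟩ := perp_sup hW z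
    rw [sf_swap, neg_eq_zero, show z = (z - w) + w by simp, map_add, LinearMap.add_apply, hxy (z - w) hzw,
      hx w hw, add_zero]
  have hdisj : W ⊓ perp W = ⊥ :=
    (Submodule.eq_bot_iff _).2 fun x hx => hW x hx.1 hx.2
  have hsup : W ⊔ perp W = ⊤ := by
    refine eq_top_iff.2 fun z _ => ?_
    obtain ⟨w, hw, hzw⟩ := perp_sup hW z
    exact Submodule.mem_sup.2 ⟨w, hw, z - w, hzw, by simp⟩
  have hfin := Submodule.finrank_sup_add_finrank_inf_eq W (perp W)
  rw [hsup, hdisj, finrank_bot, finrank_top, Module.finrank_fintype_fun_eq_card, Fintype.card_sum,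
    Fintype.card_fin] at hfin
  refine planeInv_small hP (fun x hx w hw => ?_) ?_ (by omega)
  · let L : W →ₗ[F] W := (Matrix.mulVecLin g.1).restrict (fun u hu => hg u hu)
    have hinj : Function.Injective L := fun u u' e' =>
      Subtype.ext (MulAction.injective g (congrArg Subtype.val e'))
    obtain ⟨u, hu⟩ := LinearMap.injective_iff_surjective.1 hinj ⟨w, hw⟩
    rw [← show g.1 *ᵥ u.1 = w from congrArg Subtype.val hu]
    exact (sf_smul_smul g u.1 x).trans (hx u.1 u.2)
  · intro e
    rw [e, sup_bot_eq] at hsup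
    exact htop hsup

/-- Coprime factors of an annihilating polynomial of a self-adjoint matrix. -/
theorem planeInv_split {g : S6 F} {z : M6 F} (hz : SA z) (hcom : Commute g.1 z) {f1 f2 : F[X]}
    (hcop : IsCoprime f1 f2) (h0 : aeval z (f1 * f2) = 0) (h1 : aeval z f1 ≠ 0) (h2 : aeval z f2 ≠ 0) :
    PlaneInv g := by
  obtain ⟨a, b, hab⟩ := hcop
  let W : Submodule F (V6 F) := LinearMap.ker (Matrix.mulVecLin (aeval z f1))
  let W2 : Submodule F (V6 F) := LinearMap.ker (Matrix.mulVecLin (aeval z f2))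
  have hdec : ∀ v : V6 F, aeval z (a * f1) *ᵥ v + aeval z (b * f2) *ᵥ v = v := fun v => by
    rw [← add_mulVec, ← map_add, hab, map_one, one_mulVec]
  have hm1 : ∀ v : V6 F, aeval z (b * f2) *ᵥ v ∈ W := fun v => by
    show aeval z f1 *ᵥ _ = 0
    rw [mulVec_mulVec, ← map_mul, show f1 * (b * f2) = b * (f1 * f2) by ring, map_mul, h0, mul_zero, zero_mulVec]
  have hm2 : ∀ v : V6 F, aeval z (a * f1) *ᵥ v ∈ W2 := fun v => by
    show aeval z f2 *ᵥ _ = 0
    rw [mulVec_mulVec, ← map_mul, show f2 * (a * f1) = a * (f1 * f2) by ring, map_mul, h0, mul_zero, zero_mulVec]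
  have horth : ∀ x ∈ W, ∀ y ∈ W2, sf x y = 0 := fun x hx y hy => by
    have e := hdec x
    rw [map_mul, ← mulVec_mulVec, show aeval z f1 *ᵥ x = 0 from hx, mulVec_zero, zero_add] at e
    rw [← e, hz.aeval, map_mul, ← mulVec_mulVec, show aeval z f2 *ᵥ y = 0 from hy, mulVec_zero, map_zero]
  have hW : Nondeg W := fun x hx hxy => eq_zero_of_sf fun v => by
    rw [← hdec v, map_add, horth x hx _ (hm2 v), sf_eq_zero_comm (hxy _ (hm1 v)), add_zero]
  refine planeInv_nondeg hW (fun w hw => ?_) ?_ ?_
  · show aeval z f1 *ᵥ (g.1 *ᵥ w) = 0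
    have hc : Commute g.1 (aeval z f1) := Algebra.commute_of_mem_adjoin_singleton_of_commute
      (aeval_mem_adjoin_singleton F z) hcom
    rw [mulVec_mulVec, ← hc.eq, ← mulVec_mulVec, show aeval z f1 *ᵥ w = 0 from hw, mulVec_zero]
  · intro e
    refine h2 (Matrix.ext_iff_mulVec.2 fun v => ?_)
    rw [zero_mulVec]
    have hv0 : aeval z (b * f2) *ᵥ v = 0 := (Submodule.eq_bot_iff _).1 e _ (hm1 v)
    have e1 : v = aeval z (a * f1) *ᵥ v := by
      conv_lhs => rw [← hdec v, hv0, add_zero]
    rw [e1]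
    exact hm2 v
  · intro e
    refine h1 (Matrix.ext_iff_mulVec.2 fun v => ?_)
    rw [zero_mulVec]
    exact (e ▸ Submodule.mem_top : v ∈ W)

/-- Orbit independence below the degree of a prime power annihilator. -/
theorem primary_li {z : M6 F} {f : F[X]} (hf : Irreducible f) {k : ℕ} (hk : aeval z (f ^ (k + 1)) = 0)
    {v : V6 F} (hv : aeval z (f ^ k) *ᵥ v ≠ 0) :
    LinearIndependent F (fun i : Fin (f.natDegree * (k + 1)) => z ^ (i : ℕ) *ᵥ v) := by
  classical
  rw [Fintype.linearIndependent_iff]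
  intro c hc i
  set p : F[X] := ∑ j : Fin (f.natDegree * (k + 1)), C (c j) * X ^ (j : ℕ) with hp
  have hpv : aeval z p *ᵥ v = 0 := by
    rw [hp, map_sum, sum_mulVec]
    simpa [map_mul, aeval_C, ← Algebra.smul_def, smul_mulVec] using hc
  have hlt : p.degree < (f ^ (k + 1)).degree := by
    rw [degree_eq_natDegree (pow_ne_zero _ hf.ne_zero), natDegree_pow, mul_comm]
    exact degree_sum_fin_lt c
  suffices hp0 : p = 0 by
    have := congrArg (fun P => P.coeff (i : ℕ)) hp0
    simpa [hp, finsetSum_coeff, coeff_C_mul, coeff_X_pow, Fin.val_inj] using this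
  by_contra hp0
  set G := EuclideanDomain.gcd p (f ^ (k + 1)) with hG
  have hGv : aeval z G *ᵥ v = 0 := by
    rw [hG, EuclideanDomain.gcd_eq_gcd_ab, map_add, add_mulVec, mul_comm p, map_mul, ← mulVec_mulVec, hpv,
      map_mul, hk, zero_mul, zero_mulVec, mulVec_zero, add_zero]
  obtain ⟨j, hj, hj'⟩ := (dvd_prime_pow hf.prime _).1 (EuclideanDomain.gcd_dvd_right p (f ^ (k + 1)))
  have hjk : j ≤ k := by
    by_contra hlt'
    rw [show j = k + 1 by omega] at hj'
    have := degree_le_of_dvd (hj'.symm.dvd.trans (EuclideanDomain.gcd_dvd_left p _)) hp0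
    exact absurd hlt (not_lt.2 this)
  obtain ⟨r, hr⟩ := (hj'.dvd.trans (pow_dvd_pow f hjk) : G ∣ f ^ k)
  apply hv
  rw [hr, mul_comm, map_mul, ← mulVec_mulVec, hGv, mulVec_zero]

variable [CharP F 3]

/-- A self-adjoint matrix has no quadratic field. -/
theorem no_quadratic {z : M6 F} (hz : SA z) {f : F[X]} (hf : Irreducible f) (hm : f.Monic)
    (hd : f.natDegree = 2) (h0 : aeval z f = 0) : False := by
  set v : V6 F := Pi.single (Sum.inl 0) 1 with hv
  have hv0 : v ≠ 0 := by simp [hv]
  obtain ⟨w, hw⟩ := exists_sf_ne hv0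
  have hzz : ∀ x : V6 F, z *ᵥ (z *ᵥ x) = (-f.coeff 1) • (z *ᵥ x) + (-f.coeff 0) • x := fun x => by
    have e := h0
    rw [aeval_eq_sum_range, hd] at e
    simp [Finset.sum_range_succ, show f.coeff 2 = 1 by rw [← hd]; exact hm.coeff_natDegree] at e
    have e' := congrArg (fun M : M6 F => M *ᵥ x) e
    simp [add_mulVec, smul_mulVec, pow_two, ← mulVec_mulVec] at e'
    linear_combination (norm := module) e'
  have horth : ∀ x : V6 F, sf x (z *ᵥ x) = 0 := fun x => by
    have := hz.orth 1 X x
    simpa using this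
  set a := sf v w with ha
  set b := sf v (z *ᵥ w) with hb
  let L : V6 F →ₗ[F] (Fin 4 → F) := LinearMap.pi fun i => sf (![v, z *ᵥ v, w, z *ᵥ w] i)
  obtain ⟨u, hu0, hu⟩ : ∃ u, u ≠ 0 ∧ L u = 0 := by
    by_contra hc
    push Not at hc
    have hinj : Function.Injective L := by
      rw [← LinearMap.ker_eq_bot, LinearMap.ker_eq_bot']
      exact fun x hx => by_contra fun hx0 => hc x hx0 hx
    have := LinearMap.finrank_le_finrank_of_injective hinj
    simp at this
  have u1 : sf v u = 0 := by simpa [L] using congrFun hu 0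
  have u2 : sf (z *ᵥ v) u = 0 := by simpa [L] using congrFun hu 1
  have u3 : sf w u = 0 := by simpa [L] using congrFun hu 2
  have u4 : sf (z *ᵥ w) u = 0 := by simpa [L] using congrFun hu 3
  have hzv : sf (z *ᵥ v) w = b := by rw [hz]
  have hzvw : sf (z *ᵥ v) (z *ᵥ w) = -f.coeff 1 * b - f.coeff 0 * a := by
    rw [hz, hzz, map_add, map_smul, map_smul, smul_eq_mul, smul_eq_mul, ← ha, ← hb]
    ring
  have hroot : b ^ 2 + f.coeff 1 * a * b + f.coeff 0 * a ^ 2 ≠ 0 := fun e => by
    have hr : f.IsRoot (b / a) := by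
      rw [IsRoot, eval_eq_sum_range, hd]
      simp [Finset.sum_range_succ, show f.coeff 2 = 1 by rw [← hd]; exact hm.coeff_natDegree]
      field_simp
      linear_combination e
    have := degree_eq_one_of_irreducible_of_root hf hr
    rw [degree_eq_natDegree hf.ne_zero, hd] at this
    exact absurd this (by norm_num)
  let U : Fin 4 → V6 F := ![v, z *ᵥ v, u, z *ᵥ u]
  have e13 : sf v (z *ᵥ u) = 0 := by rw [← hz]; exact u2
  have e23 : sf (z *ᵥ v) (z *ᵥ u) = 0 := by
    rw [hz, hzz, map_add, map_smul, map_smul, e13, u1, smul_zero, smul_zero, add_zero]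
  have hU : LinearIndependent F U := by
    rw [Fintype.linearIndependent_iff]
    intro c hc
    have hc' : c 0 • v + c 1 • (z *ᵥ v) + c 2 • u + c 3 • (z *ᵥ u) = 0 := by
      simpa [U, Fin.sum_univ_four] using hc
    have e1 : c 0 * a + c 1 * b = 0 := by
      have := congrArg (fun x => sf x w) hc'
      simpa [hzv, sf_eq_zero_comm u3, hz u w, sf_eq_zero_comm u4] using this
    have e2 : c 0 * b + c 1 * (-f.coeff 1 * b - f.coeff 0 * a) = 0 := by
      have := congrArg (fun x => sf x (z *ᵥ w)) hc'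
      have hzuzw : sf (z *ᵥ u) (z *ᵥ w) = 0 := by
        rw [hz, hzz, map_add, map_smul, map_smul, sf_eq_zero_comm u4, sf_eq_zero_comm u3, smul_zero, smul_zero,
          add_zero]
      simp only [map_add, LinearMap.add_apply, map_smul, LinearMap.smul_apply, smul_eq_mul, map_zero,
        LinearMap.zero_apply, hzvw, hzuzw, sf_eq_zero_comm u4, mul_zero, add_zero] at this
      rwa [hb]
    have hc1 : c 1 = 0 := (mul_eq_zero.1 (show c 1 * (b ^ 2 + f.coeff 1 * a * b + f.coeff 0 * a ^ 2) = 0 by
      linear_combination b * e1 - a * e2)).resolve_right hroot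
    have hc0 : c 0 = 0 := by
      rw [hc1, zero_mul, add_zero] at e1
      exact (mul_eq_zero.1 e1).resolve_right hw
    rw [hc0, hc1, zero_smul, zero_smul, zero_add, zero_add] at hc'
    have hli := pow_linearIndependent hf h0 hu0 (d := 2) (by omega)
    have := Fintype.linearIndependent_iff.1 hli ![c 2, c 3] (by simpa [Fin.sum_univ_two] using hc')
    have h3 := this 0
    have h4 := this 1
    simp at h3 h4
    intro i
    fin_cases i <;> assumption
  have := ti_card_le U hU (fun i j => by
    fin_cases i <;> fin_cases j <;>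
      simp [U, horth, sf_swap v (z *ᵥ v), u1, u2, e13, e23, sf_eq_zero_comm u1, sf_eq_zero_comm u2,
        sf_eq_zero_comm e13, sf_eq_zero_comm e23, sf_swap u (z *ᵥ u)])
  simp at this

end H2.Cover.Sp6
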