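import Cfsg.Agent.H48.Form
import Cfsg.Agent.H2.Cover.ArtinSchreier
import Cfsg.Agent.H2.Cover.Common
import Cfsg.Prelude.Def_Classical

/-!
In characteristic two every symplectic isometry preserves a quadratic form with the given polar form, and these
forms fall into two classes: so the symplectic group is covered by the conjugates of two orthogonal groups.
-/

set_option autoImplicit false
set_option linter.unusedSectionVars false

namespace H2.Cover.SpTwo

open H48 Matrix

variable {l : Type*} [Fintype l] [DecidableEq l] {F : Type*} [Field F]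

local notation "V" => (l ⊕ l → F)
local notation "Sp" => Matrix.symplecticGroup l F

/-- The hyperbolic quadratic form. -/
def q0 (x : V) : F := ∑ i, x (Sum.inl i) * x (Sum.inr i)

/-- The forms with the given polar form. -/
def qf (u x : V) : F := q0 x + sf x u ^ 2

theorem q0_add (h2 : (2 : F) = 0) (x y : V) : q0 (x + y) = q0 x + q0 y + sf x y := by
  simp only [q0, sf_apply, Pi.add_apply, ← Finset.sum_add_distrib]
  exact Finset.sum_congr rfl fun i _ => by linear_combination x (Sum.inl i) * y (Sum.inr i) * h2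

theorem q0_smul (c : F) (x : V) : q0 (c • x) = c ^ 2 * q0 x := by
  simp only [q0, Pi.smul_apply, smul_eq_mul, Finset.mul_sum]
  exact Finset.sum_congr rfl fun i _ => by ring

theorem sf_symm (h2 : (2 : F) = 0) (x y : V) : sf y x = sf x y := by
  rw [sf_swap]; linear_combination -sf x y * h2

theorem qf_add (h2 : (2 : F) = 0) (u x y : V) : qf u (x + y) = qf u x + qf u y + sf x y := by
  simp only [qf, q0_add h2, map_add, LinearMap.add_apply]
  linear_combination sf x u * sf y u * h2

theorem qf_smul (u : V) (c : F) (x : V) : qf u (c • x) = c ^ 2 * qf u x := by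
  simp only [qf, q0_smul, map_smul, LinearMap.smul_apply, smul_eq_mul]
  ring

theorem sq_inj (h2 : (2 : F) = 0) {a b : F} (h : a ^ 2 = b ^ 2) : a = b := by
  have : (a - b) ^ 2 = 0 := by linear_combination h + (b ^ 2 - a * b) * h2
  exact sub_eq_zero.1 (eq_zero_of_pow_eq_zero this)

theorem sq_surj (h2 : (2 : F) = 0) [Finite F] (a : F) : ∃ b : F, b ^ 2 = a :=
  Finite.injective_iff_surjective.1 (fun _ _ h => sq_inj h2 h) a

/-- An additive map of degree two is the square of a functional. -/
theorem exists_sq_functional (h2 : (2 : F) = 0) [Finite F] (D : V → F) (ha : ∀ x y, D (x + y) = D x + D y)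
    (hs : ∀ (c : F) x, D (c • x) = c ^ 2 * D x) : ∃ w : V, ∀ x, sf x w ^ 2 = D x := by
  choose r hr using sq_surj h2 (F := F)
  let f : V →ₗ[F] F :=
    { toFun := fun x => r (D x)
      map_add' := fun x y => sq_inj h2 (by
        rw [hr, ha]; linear_combination -hr (D x) - hr (D y) - r (D x) * r (D y) * h2)
      map_smul' := fun c x => sq_inj h2 (by
        simp only [RingHom.id_apply, smul_eq_mul]
        rw [hr, hs, mul_pow, hr]) }
  obtain ⟨w, hw⟩ := exists_sf_eq f
  exact ⟨w, fun x => by rw [hw]; exact hr _⟩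

/-- Every isometry preserves one of the forms. -/
theorem exists_fixed (h2 : (2 : F) = 0) [Finite F] (g : Sp) : ∃ u : V, ∀ x, qf u (g • x) = qf u x := by
  obtain ⟨w, hw⟩ := exists_sq_functional h2 (fun x : V => q0 (g • x) + q0 x)
    (fun x y => by rw [smul_add, q0_add h2, q0_add h2, sf_smul_smul]; linear_combination sf x y * h2)
    (fun c x => by rw [smul_comm, q0_smul, q0_smul]; ring)
  let L : V →ₗ[F] V := (DistribSMul.toLinearMap F V g⁻¹) + LinearMap.id
  by_cases hwL : w ∈ LinearMap.range L
  · obtain ⟨u, hu⟩ := hwL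
    refine ⟨u, fun x => ?_⟩
    have e : sf (g • x) u + sf x u = sf x w := by
      rw [sf_smul_left, ← map_add, ← hu]; rfl
    simp only [qf]
    linear_combination -hw x + (sf (g • x) u ^ 2 + sf (g • x) u * sf x u - q0 x) * h2
      - (sf (g • x) u + sf x u + sf x w) * e
  · exfalso
    obtain ⟨z, hz, hzw⟩ := exists_sep hwL
    have hgz : g • z = z := by
      refine sub_eq_zero.1 (eq_zero_of_sf fun v => ?_)
      have h0 := hz _ (LinearMap.mem_range_self L v)
      change sf (g⁻¹ • v + v) z = 0 at h0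
      rw [map_add, LinearMap.add_apply, sf_smul_left, inv_inv, sf_symm h2, sf_symm h2 _ v] at h0
      rw [map_sub, LinearMap.sub_apply]
      linear_combination h0 - sf z v * h2
    have h0 := hw z
    rw [hgz] at h0
    apply hzw
    rw [sf_symm h2]
    exact eq_zero_of_pow_eq_zero (n := 2) (by linear_combination h0 + q0 z * h2)

theorem qf_tv (h2 : (2 : F) = 0) (a v : V) (c : F) (x : V) :
    qf a (tv v c • x) = qf a x + (c ^ 2 * qf a v + c) * sf x v ^ 2 := by
  rw [tv_smul, qf_add h2, qf_smul, map_smul, smul_eq_mul]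
  ring

/-- The stabiliser of a form. -/
def stab (u : V) : Subgroup Sp where
  carrier := {g | ∀ x : V, qf u (g • x) = qf u x}
  one_mem' := fun x => by rw [one_smul]
  mul_mem' := fun {a b} ha hb x => by rw [mul_smul, ha, hb]
  inv_mem' := fun {a} ha x => by rw [← ha (a⁻¹ • x), smul_inv_smul]

theorem exists_conj (h2 : (2 : F) = 0) {a b : V} {c : F} (hc : c ^ 2 * qf a (a + b) + c = 1) {g : Sp}
    (hg : ∀ x, qf b (g • x) = qf b x) : tv (a + b) c * g * (tv (a + b) c)⁻¹ ∈ stab a := by
  have key : ∀ x, qf a (tv (a + b) c • x) = qf b x := fun x => by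
    rw [qf_tv h2, hc, one_mul]
    simp only [qf, map_add]
    linear_combination (sf x a ^ 2 + sf x a * sf x b) * h2
  intro x
  rw [mul_smul, mul_smul, key, hg, ← key, smul_inv_smul]

theorem exists_as_conj (h2 : (2 : F) = 0) {a b : V} (hk : ∃ y : F, y ^ 2 + y = q0 a + q0 b) :
    ∃ c : F, c ^ 2 * qf a (a + b) + c = 1 := by
  obtain ⟨y, hy⟩ := hk
  have hk' : qf a (a + b) = (y + sf a b) ^ 2 + (y + sf a b) := by
    simp only [qf, q0_add h2, map_add, LinearMap.add_apply, sf_self]
    rw [sf_symm h2 a b]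
    linear_combination -hy - y * sf a b * h2
  by_cases h0 : qf a (a + b) = 0
  · exact ⟨1, by rw [h0]; ring⟩
  · refine ⟨(y + sf a b) / qf a (a + b), ?_⟩
    field_simp
    linear_combination -hk'

theorem stab_ne_top (h2 : (2 : F) = 0) (u v : V) (hv : v ≠ 0) (hq : qf u v = 0) : stab u ≠ ⊤ := by
  intro htop
  obtain ⟨x, hx⟩ := exists_sf_ne hv
  have h := (htop ▸ Subgroup.mem_top (tv v 1) : tv v 1 ∈ stab u) x
  rw [qf_tv h2, hq, mul_zero, zero_add, one_mul, add_eq_left] at h
  exact hx (by rw [sf_symm h2]; exact eq_zero_of_pow_eq_zero h)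

theorem twoCover (h2 : (2 : F) = 0) [Finite F] {i j : l} (hij : i ≠ j) :
    TwoCover (Sp ⧸ Subgroup.center Sp) := by
  have : Nonempty l := ⟨i⟩
  obtain ⟨d, hd⟩ := exists_not_as h2
  set u0 : V := Pi.single (Sum.inl i) 1 + Pi.single (Sum.inr i) d with hu0
  set v : V := Pi.single (Sum.inl j) 1 with hv
  have hv0 : v ≠ 0 := by simp [hv]
  have hq : q0 v = 0 := by simp [q0, hv]
  have hu : q0 u0 = d := by
    simp [q0, hu0, Pi.single_apply]
  have hs : sf v u0 = 0 := by
    simp [sf_apply, hv, hu0, Pi.single_apply, hij]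
  have hz : q0 (0 : V) = 0 := by simp [q0]
  have hc : ∀ u : V, Subgroup.center Sp ≤ stab u := by
    intro u g hg x
    obtain ⟨a, ha, hga⟩ := (mem_center_iff g).1 hg
    rw [hga, qf_smul, pow_two, ha, one_mul]
  refine TwoCover.quotient _ (stab (0 : V)) (stab u0)
    (stab_ne_top h2 _ v hv0 (by simp [qf, hq])) (stab_ne_top h2 _ v hv0 (by simp [qf, hq, hs]))
    (hc _) (hc _) fun g => ?_
  obtain ⟨b, hb⟩ := exists_fixed h2 g
  rcases as_dichotomy h2 hd (q0 b) with h | h
  · obtain ⟨c, hc⟩ := exists_as_conj h2 (a := 0) (b := b) (by rwa [hz, zero_add])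
    exact Or.inl ⟨_, exists_conj h2 hc hb⟩
  · obtain ⟨c, hc⟩ := exists_as_conj h2 (a := u0) (b := b) (by rwa [hu, add_comm])
    exact Or.inr ⟨_, exists_conj h2 hc hb⟩

end H2.Cover.SpTwo
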